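import Cfsg.Agent.Lib.Twisted.Monomial
import Cfsg.Prelude.Def_ChevD4
import Cfsg.Prelude.Def_ChevE6

/-! The graph symmetries of the tables of type E6 and D4. -/

set_option autoImplicit false

namespace CfsgLib.Twisted

open Cfsg.Lie

/-- Graph symmetry e6. -/
def e6Sym : SymData where
  nodes := [5, 1, 4, 3, 2, 0]
  roots := [0, 1, 2, 5, 16, 3, 6, 17, 8, 19, 22, 11, 26, 30, 33, 35, 4, 7, 18, 9, 20, 23, 10, 21, 24, 25, 12, 27, 31, 34, 13, 28, 32, 14, 29, 15, 56, 42, 57, 39, 43, 58, 37, 40, 44, 59, 46, 47, 50, 61, 48, 51, 62, 53, 64, 67, 36, 38, 41, 45, 60, 49, 52, 63, 54, 65, 68, 55, 66, 69, 70, 71]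
  rootsInv := [0, 1, 2, 5, 16, 3, 6, 17, 8, 19, 22, 11, 26, 30, 33, 35, 4, 7, 18, 9, 20, 23, 10, 21, 24, 25, 12, 27, 31, 34, 13, 28, 32, 14, 29, 15, 56, 42, 57, 39, 43, 58, 37, 40, 44, 59, 46, 47, 50, 61, 48, 51, 62, 53, 64, 67, 36, 38, 41, 45, 60, 49, 52, 63, 54, 65, 68, 55, 66, 69, 70, 71]
  signs := [1, 1, 1, 1, -1, 1, 1, -1, 1, -1, -1, 1, -1, 1, -1, 1, -1, -1, 1, -1, 1, 1, -1, 1, 1, 1, -1, 1, -1, 1, 1, -1, 1, -1, 1, 1, 1, 1, -1, 1, -1, 1, 1, -1, 1, -1, 1, 1, 1, -1, 1, 1, -1, 1, -1, -1, 1, -1, 1, -1, 1, -1, -1, 1, -1, 1, 1, -1, 1, 1, 1, 1]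

theorem e6Sym_check : e6Sym.check chevE6 = true := by decide +kernel

theorem e6Sym_simple : ∀ i < chevE6.rank,
    e6Sym.root (chevE6.simple i) = chevE6.simple ([5, 1, 4, 3, 2, 0].getD i 0) ∧
    e6Sym.root (chevE6.neg (chevE6.simple i)) = chevE6.neg (chevE6.simple ([5, 1, 4, 3, 2, 0].getD i 0)) ∧
    e6Sym.sign (chevE6.simple i) = 1 ∧ e6Sym.sign (chevE6.neg (chevE6.simple i)) = 1 ∧
    chevE6.simple i < chevE6.nroots ∧ chevE6.neg (chevE6.simple i) < chevE6.nroots := by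
  decide +kernel

/-- Graph symmetry d4a. -/
def d4aSym : SymData where
  nodes := [2, 1, 3, 0]
  roots := [0, 1, 6, 2, 7, 10, 3, 8, 4, 9, 11, 5, 18, 12, 14, 19, 15, 20, 13, 16, 21, 17, 22, 23]
  rootsInv := [0, 1, 3, 6, 8, 11, 2, 4, 7, 9, 5, 10, 13, 18, 14, 16, 19, 21, 12, 15, 17, 20, 22, 23]
  signs := [1, 1, -1, 1, -1, 1, -1, 1, -1, 1, 1, 1, 1, 1, 1, -1, 1, -1, 1, -1, 1, -1, 1, 1]

theorem d4aSym_check : d4aSym.check chevD4 = true := by decide +kernel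

theorem d4aSym_simple : ∀ i < chevD4.rank,
    d4aSym.root (chevD4.simple i) = chevD4.simple ([2, 1, 3, 0].getD i 0) ∧
    d4aSym.root (chevD4.neg (chevD4.simple i)) = chevD4.neg (chevD4.simple ([2, 1, 3, 0].getD i 0)) ∧
    d4aSym.sign (chevD4.simple i) = 1 ∧ d4aSym.sign (chevD4.neg (chevD4.simple i)) = 1 ∧
    chevD4.simple i < chevD4.nroots ∧ chevD4.neg (chevD4.simple i) < chevD4.nroots := by
  decide +kernel

/-- Graph symmetry d4b. -/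
def d4bSym : SymData where
  nodes := [3, 1, 0, 2]
  roots := [0, 1, 3, 6, 8, 11, 2, 4, 7, 9, 5, 10, 13, 18, 14, 16, 19, 21, 12, 15, 17, 20, 22, 23]
  rootsInv := [0, 1, 6, 2, 7, 10, 3, 8, 4, 9, 11, 5, 18, 12, 14, 19, 15, 20, 13, 16, 21, 17, 22, 23]
  signs := [1, 1, 1, -1, -1, 1, -1, -1, 1, 1, 1, 1, 1, 1, 1, 1, -1, -1, 1, -1, -1, 1, 1, 1]

theorem d4bSym_check : d4bSym.check chevD4 = true := by decide +kernel

theorem d4bSym_simple : ∀ i < chevD4.rank,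
    d4bSym.root (chevD4.simple i) = chevD4.simple ([3, 1, 0, 2].getD i 0) ∧
    d4bSym.root (chevD4.neg (chevD4.simple i)) = chevD4.neg (chevD4.simple ([3, 1, 0, 2].getD i 0)) ∧
    d4bSym.sign (chevD4.simple i) = 1 ∧ d4bSym.sign (chevD4.neg (chevD4.simple i)) = 1 ∧
    chevD4.simple i < chevD4.nroots ∧ chevD4.neg (chevD4.simple i) < chevD4.nroots := by
  decide +kernel

end CfsgLib.Twisted
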