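import Cfsg.Agent.Lib.Twisted.FrobBuild
import Cfsg.Agent.Lib.Twisted.GraphSym
import Cfsg.Agent.Lib.ChevStr.InstanceTables
import Cfsg.Prelude.Def_LieTwisted

/-! The twisted group ³D₄: the endomorphism, its orbits and the generators of the fixed group. -/

set_option autoImplicit false

namespace CfsgLib.Twisted

open Cfsg.Lie CfsgLib.ChevStr
open scoped MatrixGroups

theorem d4_rootMap :
    rootMapCheck chevD4 d4aSym.root (fun r => d4aSym.rootsInv.getD r 0) = true := by decide +kernel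

theorem d4_signs : ∀ r : Fin chevD4.nroots, d4aSym.sign (chevD4.neg r) = d4aSym.sign r := by
  decide +kernel

/-- The permutation of the roots of type D4. -/
def rhoD4 : Equiv.Perm (Fin chevD4.nroots) := rootPerm _ _ d4_rootMap

/-- The orbits on the fundamental roots. -/
def nodesD4 : Fin 2 → Finset (Fin chevD4.rank)
  | 0 => {⟨0, by decide⟩, ⟨2, by decide⟩, ⟨3, by decide⟩}
  | 1 => {⟨1, by decide⟩}

theorem orbD4_facts : (∀ j, ∃ i, j ∈ nodesD4 i) ∧
    (∀ i k j, j ∈ nodesD4 i → j ∈ nodesD4 k → i = k) ∧ (∀ i, (nodesD4 i).Nonempty) := by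
  decide +kernel

theorem orbD4_trans : ∀ i, ∀ j ∈ nodesD4 i, ∀ k ∈ nodesD4 i, ∃ m : Fin (chevD4.rank + 1),
    ((rhoD4 ^ m.val) ⟨chevD4.simple j.val, rootDataD4.simple_lt j⟩ : ℕ) = chevD4.simple k.val := by
  decide +kernel

theorem orbD4_supp : ∀ i, ∀ r : Fin chevD4.nroots, SuppIn rootDataD4 (nodesD4 i) r →
    SuppIn rootDataD4 (nodesD4 i) (rhoD4 r) := by decide +kernel

/-- The orbit data of type D4. -/
def orbD4 : OrbitData rootDataD4 rhoD4 (Fin 2) where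
  J := nodesD4
  cover := orbD4_facts.1
  disj := orbD4_facts.2.1
  nonempty := orbD4_facts.2.2
  trans := orbD4_trans
  ρ_supp := orbD4_supp

variable (K : Type*) [Field K] (p n : ℕ) [ExpChar K p]

/-- The endomorphism of D4. -/
noncomputable def frobD4 : Frob (coreD4 K) :=
  symFrob (coreD4 K) p n d4aSym_check d4_rootMap d4_signs

/-- The roots of each orbit. -/
def rootsD4 : Fin 2 → List ℕ
  | 0 => [d4p1, d4p3, d4p4]
  | 1 => [d4p2]

theorem rootsD4_spec : ∀ i, (∀ r ∈ rootsD4 i, r < chevD4.nroots) ∧ (rootsD4 i).Nodup ∧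
    ∀ r : Fin chevD4.nroots, (r : ℕ) ∈ rootsD4 i ↔
      chevD4.IsPosRoot r ∧ SuppIn rootDataD4 (nodesD4 i) r := by
  decide +kernel

theorem inD4 (i : Fin 2) : inRoots (coreD4 K).R (nodesD4 i) = listSet (rootsD4 i) :=
  inRoots_eq (rootsD4_spec i).1 (rootsD4_spec i).2.2

theorem d4_triple : ∀ rs ∈ [(d4p1, d4p3, d4p4), (d4m1, d4m3, d4m4)],
    rs.1 < chevD4.nroots ∧ rs.2.1 < chevD4.nroots ∧ rs.2.2 < chevD4.nroots ∧
    d4aSym.root rs.1 = rs.2.1 ∧ d4aSym.root rs.2.1 = rs.2.2 ∧ d4aSym.root rs.2.2 = rs.1 ∧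
    d4aSym.sign rs.1 = 1 ∧ d4aSym.sign rs.2.1 = 1 ∧ d4aSym.sign rs.2.2 = 1 ∧
    rs.2.1 ≠ rs.1 ∧ rs.2.1 ≠ chevD4.neg rs.1 ∧ chevD4.commTerms rs.1 rs.2.1 = [] ∧
    rs.2.2 ≠ rs.1 ∧ rs.2.2 ≠ chevD4.neg rs.1 ∧ chevD4.commTerms rs.1 rs.2.2 = [] := by
  decide +kernel

theorem fixedD4_words {w : List (ℕ × K)} (hq3 : ∀ t : K, t ^ ((p ^ n) * (p ^ n) * (p ^ n)) = t)
    (hw : w ∈ d4Words K (p ^ n)) :
    (frobD4 K p n).act ((coreD4 K).wordGL w) = (coreD4 K).wordGL w := by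
  rcases hw with ⟨t, ht, r, hr, rfl⟩ | ⟨t, rs, hrs, rfl⟩
  · have h1 : ∀ r ∈ [d4p2, d4m2], r < chevD4.nroots ∧ d4aSym.root r = r ∧ d4aSym.sign r = 1 := by
      decide
    obtain ⟨a, b, c⟩ := h1 r hr
    simp only [ChevCore.wordGL_cons, ChevCore.wordGL_nil, mul_one]
    rw [(frobD4 K p n).act_word (root := d4aSym.root) (fun _ => rfl) a, b]
    show (coreD4 K).xGL r ((d4aSym.sign r : K) * t ^ p ^ n) = _
    rw [c, Int.cast_one, one_mul, ht]
  · obtain ⟨a, b, c, ra, rb, rc, sa, sb, sc, n1, m1, k1, n2, m2, k2⟩ := d4_triple rs hrs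
    simp only [ChevCore.wordGL_cons, ChevCore.wordGL_nil, mul_one]
    rw [(frobD4 K p n).act_mul ((coreD4 K).xGL_mem_group _ _)
        (mul_mem ((coreD4 K).xGL_mem_group _ _) ((coreD4 K).xGL_mem_group _ _)),
      (frobD4 K p n).act_mul ((coreD4 K).xGL_mem_group _ _) ((coreD4 K).xGL_mem_group _ _),
      (frobD4 K p n).act_word (root := d4aSym.root) (fun _ => rfl) a,
      (frobD4 K p n).act_word (root := d4aSym.root) (fun _ => rfl) b,
      (frobD4 K p n).act_word (root := d4aSym.root) (fun _ => rfl) c, ra, rb, rc]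
    show (coreD4 K).xGL rs.2.1 ((d4aSym.sign rs.1 : K) * t ^ p ^ n) *
      ((coreD4 K).xGL rs.2.2 ((d4aSym.sign rs.2.1 : K) * (t ^ p ^ n) ^ p ^ n) *
        (coreD4 K).xGL rs.1 ((d4aSym.sign rs.2.2 : K) * (t ^ (p ^ n) ^ 2) ^ p ^ n)) = _
    rw [sa, sb, sc, Int.cast_one, one_mul, one_mul, one_mul, ← pow_mul, ← pow_mul,
      show (p ^ n) ^ 2 * p ^ n = (p ^ n) * (p ^ n) * (p ^ n) by ring, hq3,
      show p ^ n * p ^ n = (p ^ n) ^ 2 by ring,
      (coreD4 K).xGL_commute a c n2 m2 (by simp [k2]), ← mul_assoc,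
      (coreD4 K).xGL_commute a b n1 m1 (by simp [k1]), mul_assoc]

theorem levelD4 : levelCheck chevD4 rootDataD4.α d4aSym.root [d4p1, d4p3, d4p4] [] d4p1 = true ∧
    levelCheck chevD4 rootDataD4.α d4aSym.root [d4p2] [] d4p2 = true := by decide +kernel

variable [Fintype K] {p n}

section gens

variable (hn : Fintype.card K = (p ^ n) * (p ^ n) * (p ^ n))
include hn

theorem le_fixedD4 : twistedD4 K (p ^ n) ≤ (frobD4 K p n).fixedSub :=
  (frobD4 K p n).genSubgroup_le_fixed fun w hw =>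
    fixedD4_words K p n (fun t => by rw [← hn]; exact FiniteField.pow_card t) hw

theorem tripleD4 :
    (frobD4 K p n).fixU (listSet (rootsD4 0)) ≤ twistedD4 K (p ^ n) ∧
      Nat.card ↥((frobD4 K p n).fixU (listSet (rootsD4 0))) = Fintype.card K := by
  have hcl : (coreD4 K).R.IsClosed (listSet [d4p1, d4p3, d4p4]) :=
    inD4 K 0 ▸ inRoots_closed _ _
  have hc := levelD4.1
  have hlev := (Frob.level_of_check (C := coreD4 K) hc hcl).1
  obtain ⟨h1, h2⟩ := (frobD4 K p n).level_list (root := d4aSym.root) (fun _ => rfl)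
    (r := ⟨d4p1, by decide⟩) hc hcl
    Set.univ (fun _ _ => Set.mem_univ _) _ (le_fixedD4 K hn) (fun t _ => by
      refine ⟨(coreD4 K).wordGL [(d4p1, t), (d4p3, t ^ p ^ n), (d4p4, t ^ (p ^ n) ^ 2)], ?_, ?_, ?_⟩
      · exact (coreD4 K).wordGL_mem_Ucl (by simp [listSet])
      · exact (coreD4 K).wordGL_mem_gen (Or.inr ⟨t, (d4p1, d4p3, d4p4), by simp, rfl⟩)
      · rw [(coreD4 K).coord_wordGL hlev (by simp [listSet]) (by simp [listSet]) _ (by simp [listSet])]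
        simp [d4p1, d4p3, d4p4])
    (by rw [listSet_nil, Frob.fixU_empty]; exact bot_le)
  refine ⟨h1, ?_⟩
  show Nat.card ↥((frobD4 K p n).fixU (listSet [d4p1, d4p3, d4p4])) = _
  rw [h2, listSet_nil, Frob.fixU_empty, Subgroup.card_bot, mul_one, Nat.card_coe_set_eq,
    Set.ncard_univ, Nat.card_eq_fintype_card]

theorem singleD4 (hq : 2 ≤ p ^ n) :
    (frobD4 K p n).fixU (listSet (rootsD4 1)) ≤ twistedD4 K (p ^ n) ∧
      Nat.card ↥((frobD4 K p n).fixU (listSet (rootsD4 1))) = p ^ n := by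
  have hcl : (coreD4 K).R.IsClosed (listSet [d4p2]) := inD4 K 1 ▸ inRoots_closed _ _
  have hc := levelD4.2
  have hlev := (Frob.level_of_check (C := coreD4 K) hc hcl).1
  obtain ⟨h1, h2⟩ := (frobD4 K p n).level_list (root := d4aSym.root) (fun _ => rfl)
    (r := ⟨d4p2, by decide⟩) hc hcl
    {t : K | t ^ p ^ n = t} (fun g hg => by
      have h := (frobD4 K p n).coord_fixed (root := d4aSym.root) (fun _ => rfl)
        (r := ⟨d4p2, by decide⟩) hc hcl (by decide) hg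
      have h' : (d4aSym.sign d4p2 : K) * (coreD4 K).coord (listSet [d4p2]) d4p2 g ^ p ^ n =
          (coreD4 K).coord (listSet [d4p2]) d4p2 g := h
      rw [show d4aSym.sign d4p2 = 1 by decide, Int.cast_one, one_mul] at h'
      exact h')
    _ (le_fixedD4 K hn) (fun t ht => by
      refine ⟨(coreD4 K).wordGL [(d4p2, t)], ?_, ?_, ?_⟩
      · exact (coreD4 K).wordGL_mem_Ucl (by simp [listSet])
      · exact (coreD4 K).wordGL_mem_gen (Or.inl ⟨t, ht, d4p2, by simp, rfl⟩)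
      · rw [(coreD4 K).coord_wordGL hlev (by simp [listSet]) (by simp [listSet]) _ (by simp [listSet])]
        simp)
    (by rw [listSet_nil, Frob.fixU_empty]; exact bot_le)
  refine ⟨h1, ?_⟩
  show Nat.card ↥((frobD4 K p n).fixU (listSet [d4p2])) = _
  rw [h2, listSet_nil, Frob.fixU_empty, Subgroup.card_bot, mul_one]
  refine card_pow_eq_self hq ?_
  rw [hn, show p ^ n * p ^ n * p ^ n = (p ^ n) ^ 3 by ring]
  simpa using Nat.sub_dvd_pow_sub_pow (p ^ n) 1 3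

theorem gensD4 (hq : 2 ≤ p ^ n) : Gens (frobD4 K p n) orbD4 (twistedD4 K (p ^ n)) 3 := by
  have key : ∀ i, (frobD4 K p n).fixU (listSet (rootsD4 i)) ≤ twistedD4 K (p ^ n) ∧
      Nat.card ↥((frobD4 K p n).fixU (listSet (rootsD4 i))) ^ 3 =
        Fintype.card K ^ (rootsD4 i).length := by
    intro i
    fin_cases i
    · obtain ⟨a, b⟩ := tripleD4 K hn
      exact ⟨a, by show Nat.card ↥((frobD4 K p n).fixU (listSet (rootsD4 0))) ^ 3 = _; rw [b]; rfl⟩
    · obtain ⟨a, b⟩ := singleD4 K hn hq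
      exact ⟨a, by
        show Nat.card ↥((frobD4 K p n).fixU (listSet (rootsD4 1))) ^ 3 = Fintype.card K ^ 1
        rw [b, hn, pow_one]; ring⟩
  refine ⟨le_fixedD4 K hn, fun i => ?_, fun i => ?_, fun i => ?_⟩
  · show (frobD4 K p n).fixU (inRoots (coreD4 K).R (nodesD4 i)) ≤ _
    rw [inD4]; exact (key i).1
  · show Nat.card ↥((frobD4 K p n).fixU (inRoots (coreD4 K).R (nodesD4 i))) ^ 3 =
      Nat.card K ^ (inRoots (coreD4 K).R (nodesD4 i)).ncard
    rw [inD4, listSet_ncard (rootsD4_spec i).2.1, Nat.card_eq_fintype_card (α := K)]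
    exact (key i).2
  · have hN : ∀ i, ∀ r ∈ [[d4m1, d4m3, d4m4], [d4m2]].getD (i : Fin 2).val [],
        chevD4.IsNegRoot r ∧ SuppIn rootDataD4 (nodesD4 i) r := by decide +kernel
    have hs : chevD4.neg (chevD4.simple 0) = d4m1 ∧ chevD4.neg (chevD4.simple 1) = d4m2 := by decide
    obtain ⟨s0, s1⟩ := hs
    fin_cases i
    · refine ⟨(coreD4 K).wordGL [(d4m1, 1), (d4m3, 1 ^ p ^ n), (d4m4, 1 ^ (p ^ n) ^ 2)],
        (coreD4 K).wordGL_mem_gen (Or.inr ⟨1, (d4m1, d4m3, d4m4), by simp, rfl⟩),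
        (coreD4 K).wordGL_mem_Ucl fun q hq => hN 0 q.1 (by
          simp only [List.mem_cons, List.not_mem_nil, or_false] at hq
          rcases hq with rfl | rfl | rfl <;> simp), ?_⟩
      rw [← s0]
      refine (coreD4 K).wordGL_neg_ne_one ⟨0, by decide⟩ one_ne_zero fun q hq => ?_
      rcases List.mem_pair.1 hq with rfl | rfl
      · exact ⟨(hN 0 d4m3 (by simp)).1, show d4m3 ≠ chevD4.neg (chevD4.simple 0) by decide⟩
      · exact ⟨(hN 0 d4m4 (by simp)).1, show d4m4 ≠ chevD4.neg (chevD4.simple 0) by decide⟩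
    · refine ⟨(coreD4 K).wordGL [(d4m2, 1)],
        (coreD4 K).wordGL_mem_gen (Or.inl ⟨1, one_pow _, d4m2, by simp, rfl⟩),
        (coreD4 K).wordGL_mem_Ucl fun q hq => hN 1 q.1 (by
          rw [List.mem_singleton] at hq; subst hq; simp), ?_⟩
      rw [← s1]
      exact (coreD4 K).wordGL_neg_ne_one ⟨1, by decide⟩ one_ne_zero (by simp)

end gens

omit [ExpChar K p] in
theorem setupD4 {q : ℕ} (hq : IsPrimePow q) (hK : Fintype.card K = q ^ 3) :
    ∃ (p n : ℕ) (_ : ExpChar K p), q = p ^ n ∧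
      Fintype.card K = (p ^ n) * (p ^ n) * (p ^ n) ∧ 2 ≤ p ^ n := by
  obtain ⟨p, k, hp, hk, rfl⟩ := (isPrimePow_nat_iff q).1 hq
  have : Fact p.Prime := ⟨hp⟩
  rw [← pow_mul] at hK
  have : CharP K p := charP_of_card_eq_prime_pow hK
  exact ⟨p, k, ExpChar.prime hp, rfl, by rw [hK, ← pow_add, ← pow_add]; congr 1; omega,
    le_trans hp.two_le (Nat.le_self_pow hk.ne' p)⟩

end CfsgLib.Twisted
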