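import Cfsg.Prelude.Def_LieExceptional
import Mathlib

/-!
The abstract part of the theory of twisted groups: a subgroup `G1` of fixed points of an
endomorphism `σ` of a group `G` with a Bruhat normal form, containing all fixed elements of `U`.
Gives the normal form in `G1`, its (B, N)-pair, and the triviality of the core of `B1`.
-/

set_option autoImplicit false

namespace CfsgLib.Twisted

/-- An ambient group `G` with a Bruhat normal form `u n v`. -/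
structure Ambient (Γ : Type*) [Group Γ] where
  G : Subgroup Γ
  U : Subgroup Γ
  V : Subgroup Γ
  H : Subgroup Γ
  N : Subgroup Γ
  U_le : U ≤ G
  N_le : N ≤ G
  H_le : H ≤ N
  H_conj_U : ∀ h ∈ H, ∀ u ∈ U, h * u * h⁻¹ ∈ U
  N_conj_H : ∀ n ∈ N, ∀ h ∈ H, n * h * n⁻¹ ∈ H
  U_inf_V : ∀ g ∈ U, g ∈ V → g = 1
  B_inf_V : ∀ g ∈ U ⊔ H, g ∈ V → g = 1
  nf : ∀ g ∈ G, ∃ u ∈ U, ∃ n ∈ N, ∃ v ∈ U, n * v * n⁻¹ ∈ V ∧ g = u * n * v
  nf_unique : ∀ u ∈ U, ∀ n ∈ N, ∀ v ∈ U, ∀ u' ∈ U, ∀ n' ∈ N, ∀ v' ∈ U,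
    u * n * v = u' * n' * v' → n = n'

/-- An endomorphism compatible with the normal form and a subgroup of its fixed points. -/
structure Twist {Γ : Type*} [Group Γ] (A : Ambient Γ) where
  σ : Γ → Γ
  σ_mul : ∀ a ∈ A.G, ∀ b ∈ A.G, σ (a * b) = σ a * σ b
  σ_U : ∀ g ∈ A.U, σ g ∈ A.U
  σ_N : ∀ g ∈ A.N, σ g ∈ A.N
  σ_V : ∀ g ∈ A.G, g ∈ A.V → σ g ∈ A.V
  G1 : Subgroup Γ
  le_G : G1 ≤ A.G
  fixed : ∀ g ∈ G1, σ g = g
  U1_le : ∀ u ∈ A.U, σ u = u → u ∈ G1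

namespace Ambient

variable {Γ : Type*} [Group Γ] (A : Ambient Γ)

/-- `B = U H`. -/
abbrev B : Subgroup Γ := A.U ⊔ A.H

theorem mem_B {g : Γ} : g ∈ A.B ↔ ∃ u ∈ A.U, ∃ h ∈ A.H, u * h = g := by
  have hn : A.H ≤ Subgroup.normalizer (A.U : Set Γ) := Subgroup.le_normalizer_iff.2 A.H_conj_U
  rw [← SetLike.mem_coe, Ambient.B, Subgroup.coe_mul_of_right_le_normalizer_left _ _ hn, Set.mem_mul]
  rfl

theorem B_le_G : A.B ≤ A.G := sup_le A.U_le (A.H_le.trans A.N_le)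

theorem U_inf_N {g : Γ} (hu : g ∈ A.U) (hn : g ∈ A.N) : g = 1 :=
  (A.nf_unique g hu 1 A.N.one_mem 1 A.U.one_mem 1 A.U.one_mem g hn 1 A.U.one_mem (by simp)).symm

theorem B_inf_N {g : Γ} (hb : g ∈ A.B) (hn : g ∈ A.N) : g ∈ A.H := by
  obtain ⟨u, hu, h, hh, rfl⟩ := A.mem_B.1 hb
  have hu1 := A.U_inf_N hu (by
    have := A.N.mul_mem hn (A.N.inv_mem (A.H_le hh))
    simpa [mul_assoc] using this)
  subst hu1
  simpa using hh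

theorem nf_unique' {u n v u' n' v' : Γ} (hu : u ∈ A.U) (hn : n ∈ A.N) (hv : v ∈ A.U)
    (hu' : u' ∈ A.U) (hn' : n' ∈ A.N) (hv' : v' ∈ A.U) (hV : n * v * n⁻¹ ∈ A.V)
    (hV' : n' * v' * n'⁻¹ ∈ A.V) (h : u * n * v = u' * n' * v') : u = u' ∧ n = n' ∧ v = v' := by
  obtain rfl := A.nf_unique u hu n hn v hv u' hu' n' hn' v' hv' h
  have h1 : u'⁻¹ * u = n * v' * n⁻¹ * (n * v * n⁻¹)⁻¹ := by
    calc u'⁻¹ * u = u'⁻¹ * (u * n * v) * v⁻¹ * n⁻¹ := by group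
      _ = u'⁻¹ * (u' * n * v') * v⁻¹ * n⁻¹ := by rw [h]
      _ = _ := by group
  have h2 := A.U_inf_V _ (A.U.mul_mem (A.U.inv_mem hu') hu)
    (h1 ▸ A.V.mul_mem hV' (A.V.inv_mem hV))
  obtain rfl : u' = u := inv_mul_eq_one.1 h2
  exact ⟨rfl, rfl, mul_left_cancel h⟩

end Ambient

namespace Twist

variable {Γ : Type*} [Group Γ] {A : Ambient Γ} (T : Twist A)

/-- The fixed elements of `U`. -/
def U1 : Subgroup Γ := A.U ⊓ T.G1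

/-- `H1 = G1 ∩ H`. -/
def H1 : Subgroup Γ := A.H ⊓ T.G1

/-- `N1 = G1 ∩ N`. -/
def N1 : Subgroup Γ := A.N ⊓ T.G1

theorem mem_U1 {g : Γ} : g ∈ T.U1 ↔ g ∈ A.U ∧ T.σ g = g :=
  ⟨fun h => ⟨h.1, T.fixed g h.2⟩, fun h => ⟨h.1, T.U1_le g h.1 h.2⟩⟩

theorem σ_one : T.σ 1 = 1 := T.fixed 1 T.G1.one_mem

theorem σ_inv {g : Γ} (hg : g ∈ A.G) : T.σ g⁻¹ = (T.σ g)⁻¹ := by
  apply eq_inv_of_mul_eq_one_left
  rw [← T.σ_mul _ (A.G.inv_mem hg) _ hg, inv_mul_cancel, T.σ_one]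

theorem nf {g : Γ} (hg : g ∈ T.G1) :
    ∃ u ∈ T.U1, ∃ n ∈ T.N1, ∃ v ∈ T.U1, n * v * n⁻¹ ∈ A.V ∧ g = u * n * v := by
  obtain ⟨u, hu, n, hn, v, hv, hV, rfl⟩ := A.nf g (T.le_G hg)
  have hu' := A.U_le hu
  have hn' := A.N_le hn
  have hv' := A.U_le hv
  have e : T.σ u * T.σ n * T.σ v = u * n * v := by
    rw [← T.σ_mul u hu' n hn', ← T.σ_mul _ (A.G.mul_mem hu' hn') v hv', T.fixed _ hg]
  have hVσ : T.σ n * T.σ v * (T.σ n)⁻¹ ∈ A.V := by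
    have := T.σ_V _ (A.G.mul_mem (A.G.mul_mem hn' hv') (A.G.inv_mem hn')) hV
    rwa [T.σ_mul _ (A.G.mul_mem hn' hv') _ (A.G.inv_mem hn'), T.σ_mul n hn' v hv', T.σ_inv hn'] at this
  obtain ⟨e1, -, e3⟩ := A.nf_unique' (T.σ_U u hu) (T.σ_N n hn) (T.σ_U v hv) hu hn hv hVσ hV e
  have hu1 : u ∈ T.U1 := T.mem_U1.2 ⟨hu, e1⟩
  have hv1 : v ∈ T.U1 := T.mem_U1.2 ⟨hv, e3⟩
  refine ⟨u, hu1, n, ⟨hn, ?_⟩, v, hv1, hV, rfl⟩
  have := T.G1.mul_mem (T.G1.mul_mem (T.G1.inv_mem hu1.2) hg) (T.G1.inv_mem hv1.2)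
  simpa [mul_assoc] using this

theorem mem_B_inf {g : Γ} : g ∈ A.B ⊓ T.G1 ↔ ∃ u ∈ T.U1, ∃ h ∈ T.H1, u * h = g := by
  constructor
  · rintro ⟨hB, hg⟩
    obtain ⟨u, hu, h, hh, rfl⟩ := A.mem_B.1 hB
    obtain ⟨u', hu', n', hn', v', hv', -, he⟩ := T.nf hg
    have hn := A.nf_unique u hu h (A.H_le hh) 1 A.U.one_mem u' hu'.1 n' hn'.1 v' hv'.1
      (by rw [mul_one]; exact he)
    have hh1 : h ∈ T.G1 := hn ▸ hn'.2
    exact ⟨u, ⟨hu, by simpa [mul_assoc] using T.G1.mul_mem hg (T.G1.inv_mem hh1)⟩, h,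
      ⟨hh, hh1⟩, rfl⟩
  · rintro ⟨u, hu, h, hh, rfl⟩
    exact ⟨A.mem_B.2 ⟨u, hu.1, h, hh.1, rfl⟩, T.G1.mul_mem hu.2 hh.2⟩

theorem H1_conj_U1 {h u : Γ} (hh : h ∈ T.H1) (hu : u ∈ T.U1) : h * u * h⁻¹ ∈ T.U1 :=
  ⟨A.H_conj_U h hh.1 u hu.1, T.G1.mul_mem (T.G1.mul_mem hh.2 hu.2) (T.G1.inv_mem hh.2)⟩

/-- Reflection data for the (B, N)-pair of `G1`. -/
structure Reflections (T : Twist A) (I : Type*) where
  s : I → Γ
  ℓ : Γ → ℕ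
  s_mem : ∀ i, s i ∈ T.N1
  sq_mem : ∀ i, s i * s i ∈ A.H
  s_inj : ∀ i j, (s i)⁻¹ * s j ∈ A.H → i = j
  /-- `u = a b` with `a` in the root group of `i` and `b` in its complement -/
  split : ∀ i, ∀ u ∈ T.U1, ∃ a ∈ T.U1, ∃ b ∈ T.U1,
    u = a * b ∧ s i * a * (s i)⁻¹ ∈ A.V ∧ s i * b * (s i)⁻¹ ∈ A.U
  root_nontrivial : ∀ i, ∃ a ∈ T.U1, a ≠ 1 ∧ s i * a * (s i)⁻¹ ∈ A.V
  rank_one : ∀ i, ∀ a ∈ T.U1, a ≠ 1 → s i * a * (s i)⁻¹ ∈ A.V →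
    ∃ x ∈ T.U1, ∃ h ∈ T.H1, ∃ y ∈ T.U1, s i * y * (s i)⁻¹ ∈ A.V ∧
      s i * a * (s i)⁻¹ = x * (s i * h) * y
  dichotomy : ∀ i, ∀ n ∈ T.N1,
    (∀ a ∈ T.U1, s i * a * (s i)⁻¹ ∈ A.V → n⁻¹ * a * n ∈ A.U) ∨
    (∀ a ∈ T.U1, s i * a * (s i)⁻¹ ∈ A.V → (s i * n)⁻¹ * a * (s i * n) ∈ A.U)
  descent : ∀ n ∈ T.N1, n ∉ A.H → ∃ i, ℓ (n * s i) < ℓ n

namespace Reflections

variable {T} {I : Type*} (R : Reflections T I)

theorem N1_eq : Subgroup.closure (Set.range R.s) ⊔ T.H1 = T.N1 := by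
  refine le_antisymm (sup_le ((Subgroup.closure_le _).2 ?_)
    (fun h hh => ⟨A.H_le hh.1, hh.2⟩)) ?_
  · rintro _ ⟨i, rfl⟩; exact R.s_mem i
  intro n
  induction hk : R.ℓ n using Nat.strong_induction_on generalizing n with
  | _ k ih =>
    intro hn
    by_cases hH : n ∈ A.H
    · exact le_sup_right (α := Subgroup Γ) ⟨hH, hn.2⟩
    · obtain ⟨i, hi⟩ := R.descent n hn hH
      have h1 := ih _ (hk ▸ hi) rfl (T.N1.mul_mem hn (R.s_mem i))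
      have h2 : R.s i ∈ Subgroup.closure (Set.range R.s) ⊔ T.H1 :=
        le_sup_left (α := Subgroup Γ) (Subgroup.subset_closure ⟨i, rfl⟩)
      simpa [mul_assoc] using Subgroup.mul_mem _ h1 (Subgroup.inv_mem _ h2)

theorem mul_mem_union (i : I) {n b : Γ} (hn : n ∈ T.N1) (hb : b ∈ A.B ⊓ T.G1) :
    (∃ b₁ ∈ A.B ⊓ T.G1, ∃ b₂ ∈ A.B ⊓ T.G1, R.s i * b * n = b₁ * (R.s i * n) * b₂) ∨
    (∃ b₁ ∈ A.B ⊓ T.G1, ∃ b₂ ∈ A.B ⊓ T.G1, R.s i * b * n = b₁ * n * b₂) := by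
  obtain ⟨u, hu, h, hh, rfl⟩ := T.mem_B_inf.1 hb
  obtain ⟨a, ha, c, hc, he, haV, hcU⟩ := R.split i (h⁻¹ * u * h)⁻¹
    (T.U1.inv_mem (by simpa using T.H1_conj_U1 (T.H1.inv_mem hh) hu))
  have hs : R.s i ∈ T.G1 := (R.s_mem i).2
  have hconjH : ∀ m ∈ T.N1, ∀ k ∈ T.H1, m * k * m⁻¹ ∈ A.B ⊓ T.G1 := fun m hm k hk =>
    ⟨le_sup_right (α := Subgroup Γ) (A.N_conj_H m hm.1 k hk.1),
      T.G1.mul_mem (T.G1.mul_mem hm.2 hk.2) (T.G1.inv_mem hm.2)⟩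
  have hU1B : ∀ x ∈ T.U1, x ∈ A.B ⊓ T.G1 := fun x hx => ⟨le_sup_left (α := Subgroup Γ) hx.1, hx.2⟩
  set a' := a⁻¹ with ha'
  have haV' : R.s i * a' * (R.s i)⁻¹ ∈ A.V := by
    simpa [mul_assoc, ha'] using A.V.inv_mem haV
  set p := R.s i * h * (R.s i)⁻¹ * (R.s i * c⁻¹ * (R.s i)⁻¹) with hp
  have hpB : p ∈ A.B ⊓ T.G1 := by
    refine Subgroup.mul_mem _ (hconjH _ (R.s_mem i) h hh) ⟨le_sup_left (α := Subgroup Γ) ?_,
      T.G1.mul_mem (T.G1.mul_mem hs (T.G1.inv_mem hc.2)) (T.G1.inv_mem hs)⟩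
    simpa [mul_assoc] using A.U.inv_mem hcU
  have hsplit : R.s i * (u * h) * n = p * (R.s i * a' * n) := by
    have hu' : h⁻¹ * u * h = c⁻¹ * a' := by
      rw [ha', ← mul_inv_rev, ← he, inv_inv]
    calc R.s i * (u * h) * n = R.s i * h * (h⁻¹ * u * h) * n := by group
      _ = _ := by rw [hu', hp]; group
  rcases R.dichotomy i n hn with hd | hd
  · refine Or.inl ⟨p, hpB, n⁻¹ * a' * n, ⟨le_sup_left (α := Subgroup Γ) (hd a' (T.U1.inv_mem ha) haV'),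
      T.G1.mul_mem (T.G1.mul_mem (T.G1.inv_mem hn.2) (T.G1.inv_mem ha.2)) hn.2⟩, ?_⟩
    rw [hsplit]; group
  · by_cases ha1 : a' = 1
    · exact Or.inl ⟨p, hpB, 1, Subgroup.one_mem _, by rw [hsplit, ha1]; group⟩
    · obtain ⟨x, hx, k, hk, y, hy, hyV, hr⟩ := R.rank_one i a' (T.U1.inv_mem ha) ha1 haV'
      have hm := T.N1.mul_mem (R.s_mem i) hn
      have hyB : (R.s i * n)⁻¹ * y * (R.s i * n) ∈ A.B ⊓ T.G1 :=
        ⟨le_sup_left (α := Subgroup Γ) (hd y hy hyV),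
          T.G1.mul_mem (T.G1.mul_mem (T.G1.inv_mem hm.2) hy.2) hm.2⟩
      have hkB : R.s i * k * (R.s i)⁻¹ ∈ A.B ⊓ T.G1 := hconjH _ (R.s_mem i) k hk
      have hssB : R.s i * R.s i ∈ A.B ⊓ T.G1 :=
        ⟨le_sup_right (α := Subgroup Γ) (R.sq_mem i), T.G1.mul_mem hs hs⟩
      refine Or.inr ⟨p * x * (R.s i * k * (R.s i)⁻¹) * (R.s i * R.s i),
        Subgroup.mul_mem _ (Subgroup.mul_mem _ (Subgroup.mul_mem _ hpB (hU1B x hx)) hkB) hssB,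
        (R.s i * n)⁻¹ * y * (R.s i * n), hyB, ?_⟩
      calc R.s i * (u * h) * n = p * (R.s i * a' * n) := hsplit
        _ = p * (R.s i * a' * (R.s i)⁻¹ * (R.s i * n)) := by group
        _ = p * (x * (R.s i * k) * y * (R.s i * n)) := by rw [hr]
        _ = _ := by group

/-- The (B, N)-pair of `G1`. -/
def bnPair : Cfsg.BNPair ↥T.G1 where
  B := (A.B ⊓ T.G1).subgroupOf T.G1
  N := T.N1.subgroupOf T.G1
  S := Set.range fun i => (⟨R.s i, (R.s_mem i).2⟩ : T.G1)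
  sup_eq_top := by
    refine (Subgroup.eq_top_iff' _).2 fun g => ?_
    obtain ⟨u, hu, n, hn, v, hv, -, hg⟩ := T.nf g.2
    have e : g = (⟨u, hu.2⟩ : T.G1) * ⟨n, hn.2⟩ * ⟨v, hv.2⟩ := Subtype.ext hg
    rw [e]
    refine Subgroup.mul_mem _ (Subgroup.mul_mem _ ?_ ?_) ?_
    · exact le_sup_left (α := Subgroup T.G1) ⟨le_sup_left (α := Subgroup Γ) hu.1, hu.2⟩
    · exact le_sup_right (α := Subgroup T.G1) hn
    · exact le_sup_left (α := Subgroup T.G1) ⟨le_sup_left (α := Subgroup Γ) hv.1, hv.2⟩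
  conj_mem := by
    intro n hn t ht
    exact ⟨le_sup_right (α := Subgroup Γ) (A.N_conj_H n hn.1 t (A.B_inf_N ht.1.1 ht.2.1)),
      (n * t * n⁻¹).2⟩
  subset := by rintro _ ⟨i, rfl⟩; exact R.s_mem i
  sq_mem := by
    rintro _ ⟨i, rfl⟩
    exact ⟨le_sup_right (α := Subgroup Γ) (R.sq_mem i), T.G1.mul_mem (R.s_mem i).2 (R.s_mem i).2⟩
  inj := by
    rintro _ ⟨i, rfl⟩ _ ⟨j, rfl⟩ h
    obtain rfl : i = j :=
      R.s_inj i j (A.B_inf_N h.1 (A.N.mul_mem (A.N.inv_mem (R.s_mem i).1) (R.s_mem j).1))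
    rfl
  closure_sup := by
    apply Subgroup.map_injective T.G1.subtype_injective
    rw [Subgroup.map_sup, MonoidHom.map_closure, ← Set.range_comp,
      Subgroup.map_inf_eq (f := T.G1.subtype) (hf := T.G1.subtype_injective),
      Subgroup.map_subgroupOf_eq_of_le inf_le_right,
      Subgroup.map_subgroupOf_eq_of_le (show T.N1 ≤ T.G1 from inf_le_right)]
    have hH1 : A.B ⊓ T.G1 ⊓ T.N1 = T.H1 :=
      le_antisymm (fun g hg => ⟨A.B_inf_N hg.1.1 hg.2.1, hg.2.2⟩) fun g hg =>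
        ⟨⟨le_sup_right (α := Subgroup Γ) hg.1, hg.2⟩, A.H_le hg.1, hg.2⟩
    rw [hH1]
    exact R.N1_eq
  mul_mem_union := by
    rintro _ ⟨i, rfl⟩ n hn b hb
    rcases R.mul_mem_union i hn hb with ⟨b₁, h₁, b₂, h₂, he⟩ | ⟨b₁, h₁, b₂, h₂, he⟩
    · exact Or.inl (DoubleCoset.mem_doubleCoset.2
        ⟨⟨b₁, h₁.2⟩, h₁, ⟨b₂, h₂.2⟩, h₂, Subtype.ext he⟩)
    · exact Or.inr (DoubleCoset.mem_doubleCoset.2
        ⟨⟨b₁, h₁.2⟩, h₁, ⟨b₂, h₂.2⟩, h₂, Subtype.ext he⟩)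
  conj_ne := by
    rintro _ ⟨i, rfl⟩ h
    obtain ⟨a, ha, ha1, haV⟩ := R.root_nontrivial i
    let a₁ : T.G1 := ⟨a, ha.2⟩
    have hmem : a₁ ∈ ((A.B ⊓ T.G1).subgroupOf T.G1 : Set T.G1) :=
      ⟨le_sup_left (α := Subgroup Γ) ha.1, ha.2⟩
    have h2 := Set.mem_image_of_mem (fun b : T.G1 => (⟨R.s i, (R.s_mem i).2⟩ : T.G1) * b *
      ⟨R.s i, (R.s_mem i).2⟩) hmem
    rw [h] at h2
    have h3 : R.s i * a * (R.s i)⁻¹ ∈ A.B := by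
      have := A.B.mul_mem h2.1
        (A.B.inv_mem (le_sup_right (α := Subgroup Γ) (R.sq_mem i)))
      simpa [a₁, mul_assoc] using this
    exact ha1 (conj_eq_one_iff.1 (A.B_inf_V _ h3 haV))

theorem bnPair_B : R.bnPair.B = (A.B ⊓ T.G1).subgroupOf T.G1 := rfl

theorem bnPair_N : R.bnPair.N = (A.N ⊓ T.G1).subgroupOf T.G1 := rfl

end Reflections

/-- The core of `B1` is trivial. -/
theorem normalCore_eq_bot {w : Γ} (hw : w ∈ T.N1) (hwU : ∀ u ∈ A.U, w * u * w⁻¹ ∈ A.V)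
    (hfaith : ∀ h ∈ T.H1, (∀ u ∈ T.U1, h * u = u * h) → h = 1) :
    ((A.B ⊓ T.G1).subgroupOf T.G1).normalCore = ⊥ := by
  have hcore : ∀ g ∈ ((A.B ⊓ T.G1).subgroupOf T.G1).normalCore, (g : Γ) ∈ A.H := by
    intro g hg
    obtain ⟨u, hu, h, hh, he⟩ := A.mem_B.1 (Subgroup.normalCore_le _ hg).1
    have hg' := Subgroup.normalCore_le _
      ((Subgroup.normalCore_normal _).conj_mem _ hg (⟨w, hw.2⟩⁻¹ : T.G1))
    obtain ⟨u', hu', h', hh', he'⟩ := A.mem_B.1 hg'.1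
    simp only [Subgroup.subtype_apply, InvMemClass.coe_inv, Subgroup.coe_mul, inv_inv] at he'
    have hb : w * u' * w⁻¹ ∈ A.B := by
      have h1 : w * u' * w⁻¹ = (g : Γ) * (w * h' * w⁻¹)⁻¹ := by
        calc w * u' * w⁻¹ = w * (u' * h') * w⁻¹ * (w * h' * w⁻¹)⁻¹ := by group
          _ = _ := by rw [he']; group
      rw [h1]
      exact A.B.mul_mem (Subgroup.normalCore_le _ hg).1
        (A.B.inv_mem (le_sup_right (α := Subgroup Γ) (A.N_conj_H w hw.1 h' hh')))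
    have h0 := A.B_inf_V _ hb (hwU u' hu')
    rw [conj_eq_one_iff] at h0
    subst h0
    rw [one_mul] at he'
    have : (g : Γ) = w * h' * w⁻¹ := by rw [he']; group
    rw [this]
    exact A.N_conj_H w hw.1 h' hh'
  refine (Subgroup.eq_bot_iff_forall _).2 fun g hg => Subtype.ext ?_
  refine hfaith g ⟨hcore g hg, g.2⟩ fun u hu => ?_
  have hc : (g : Γ) * u * (g : Γ)⁻¹ * u⁻¹ ∈ A.H := by
    have hn := (Subgroup.normalCore_normal ((A.B ⊓ T.G1).subgroupOf T.G1))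
    have h1 := Subgroup.mul_mem _ hg (hn.conj_mem _ (Subgroup.inv_mem _ hg) (⟨u, hu.2⟩ : T.G1))
    simpa [mul_assoc] using hcore _ h1
  have hU : (g : Γ) * u * (g : Γ)⁻¹ * u⁻¹ ∈ A.U :=
    A.U.mul_mem (A.H_conj_U _ (hcore g hg) u hu.1) (A.U.inv_mem hu.1)
  have h1 := A.U_inf_N hU (A.H_le hc)
  calc (g : Γ) * u = (g : Γ) * u * (g : Γ)⁻¹ * u⁻¹ * (u * g) := by group
    _ = u * g := by rw [h1, one_mul]

end Twist

end CfsgLib.Twisted
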