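import Cfsg.Agent.Lib.ChevStr.Derived
import Cfsg.Agent.Lib.Twisted.Abstract

/-!
An endomorphism of a Chevalley group permuting the root subgroups (graph times field): stability of
`U`, `V`, `H`, `N`, its effect on the Weyl group, the ambient normal form over a finite field.
-/

set_option autoImplicit false

namespace CfsgLib.Twisted

open Cfsg.Lie CfsgLib.ChevStr
open scoped MatrixGroups

variable {D : ChevalleyDatum} {F : Type*} [Field F]

/-- An endomorphism sending `x_r(t)` to `x_{ρ r}(± t ^ e_r)`. -/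
structure Frob (C : ChevCore D F) where
  ρ : Equiv.Perm (Fin D.nroots)
  e : Fin D.nroots → ℕ
  ε : Fin D.nroots → F
  endo : ↥(D.group F) →* ↥(D.group F)
  endo_x : ∀ (r : Fin D.nroots) (t : F), (endo ⟨C.xGL r t, C.xGL_mem_group _ _⟩ : GL D.Idx F) =
    C.xGL (ρ r) (ε r * t ^ e r)
  ε_unit : ∀ r, ε r = 1 ∨ ε r = -1
  e_pos : ∀ r, 0 < e r
  neg_pow : ∀ r, (-1 : F) ^ e r = -1
  ρ_pos : ∀ r : Fin D.nroots, D.IsPosRoot r → D.IsPosRoot (ρ r)
  ρ_neg : ∀ r : Fin D.nroots, (ρ ⟨D.neg r, C.R.neg_lt r r.isLt⟩ : ℕ) = D.neg (ρ r)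
  e_neg : ∀ r : Fin D.nroots, e ⟨D.neg r, C.R.neg_lt r r.isLt⟩ = e r
  ε_neg : ∀ r : Fin D.nroots, ε ⟨D.neg r, C.R.neg_lt r r.isLt⟩ = ε r

namespace Frob

variable {C : ChevCore D F} (φ : Frob C)

theorem ε_ne (r : Fin D.nroots) : φ.ε r ≠ 0 := by rcases φ.ε_unit r with h | h <;> simp [h]

theorem ε_inv (r : Fin D.nroots) : (φ.ε r)⁻¹ = φ.ε r := by rcases φ.ε_unit r with h | h <;> simp [h]

open Classical in
/-- The endomorphism as a function on the general linear group. -/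
noncomputable def act (g : GL D.Idx F) : GL D.Idx F :=
  if h : g ∈ D.group F then (φ.endo ⟨g, h⟩ : GL D.Idx F) else g

theorem act_of_mem {g : GL D.Idx F} (h : g ∈ D.group F) :
    φ.act g = (φ.endo ⟨g, h⟩ : GL D.Idx F) := dif_pos h

theorem act_mem {g : GL D.Idx F} (h : g ∈ D.group F) : φ.act g ∈ D.group F := by
  rw [φ.act_of_mem h]; exact (φ.endo ⟨g, h⟩).2

theorem act_mul {a b : GL D.Idx F} (ha : a ∈ D.group F) (hb : b ∈ D.group F) :
    φ.act (a * b) = φ.act a * φ.act b := by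
  rw [φ.act_of_mem ha, φ.act_of_mem hb, φ.act_of_mem (mul_mem ha hb),
    show (⟨a * b, mul_mem ha hb⟩ : ↥(D.group F)) = ⟨a, ha⟩ * ⟨b, hb⟩ from rfl, map_mul]
  rfl

theorem act_one : φ.act 1 = 1 := by
  rw [φ.act_of_mem (one_mem _), show (⟨1, one_mem _⟩ : ↥(D.group F)) = 1 from rfl, map_one]
  rfl

theorem act_inv {a : GL D.Idx F} (ha : a ∈ D.group F) : φ.act a⁻¹ = (φ.act a)⁻¹ := by
  refine eq_inv_of_mul_eq_one_left ?_
  rw [← φ.act_mul (inv_mem ha) ha, inv_mul_cancel, φ.act_one]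

theorem act_x (r : Fin D.nroots) (t : F) :
    φ.act (C.xGL r t) = C.xGL (φ.ρ r) (φ.ε r * t ^ φ.e r) := by
  rw [φ.act_of_mem (C.xGL_mem_group _ _)]; exact φ.endo_x r t

/-- A subgroup contains the image of another as soon as it contains that of its generators. -/
theorem act_mem_closure {S : Set (GL D.Idx F)} (hS : S ⊆ D.group F) {T : Subgroup (GL D.Idx F)}
    (h : ∀ x ∈ S, φ.act x ∈ T) : ∀ g ∈ Subgroup.closure S, φ.act g ∈ T := by
  intro g hg
  have hle := (Subgroup.closure_le (D.group F)).2 hS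
  refine Subgroup.closure_induction (p := fun g _ => φ.act g ∈ T) h (by simp [φ.act_one]) ?_ ?_ hg
  · intro x y hx hy ihx ihy
    rw [φ.act_mul (hle hx) (hle hy)]
    exact mul_mem ihx ihy
  · intro x hx ihx
    rw [φ.act_inv (hle hx)]
    exact inv_mem ihx

/-- A set of roots stable under the permutation. -/
def Stable (S : Set ℕ) : Prop := ∀ r : Fin D.nroots, (r : ℕ) ∈ S → (φ.ρ r : ℕ) ∈ S

theorem act_Ucl {S : Set ℕ} (hS : φ.Stable S) : ∀ g ∈ C.Ucl S, φ.act g ∈ C.Ucl S := by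
  refine φ.act_mem_closure ?_ ?_
  · rintro _ ⟨r, -, t, rfl⟩; exact C.xGL_mem_group r t
  · rintro _ ⟨r, hr, t, rfl⟩
    by_cases hn : r < D.nroots
    · have e := φ.act_x ⟨r, hn⟩ t
      rw [show C.xGL r t = C.xGL (⟨r, hn⟩ : Fin D.nroots) t from rfl, e]
      exact C.xGL_mem_Ucl (hS ⟨r, hn⟩ hr) _
    · rw [C.xGL_of_le (not_lt.1 hn), φ.act_one]; exact one_mem _

theorem ρ_isNeg {r : Fin D.nroots} (hr : D.IsNegRoot r) : D.IsNegRoot (φ.ρ r) := by
  have h := φ.ρ_pos ⟨D.neg r, C.R.neg_lt r r.isLt⟩ ((C.R.isPos_neg_iff r.isLt).2 hr)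
  rw [φ.ρ_neg r] at h
  exact (C.R.isPos_neg_iff (φ.ρ r).isLt).1 h

theorem stable_pos : φ.Stable {r | D.IsPosRoot r} := fun r hr => φ.ρ_pos r hr

theorem stable_neg : φ.Stable {r | D.IsNegRoot r} := fun _ hr => φ.ρ_isNeg hr

theorem act_U : ∀ g ∈ D.posUnipotent F, φ.act g ∈ D.posUnipotent F := by
  rw [C.posUnipotent_eq]; exact φ.act_Ucl φ.stable_pos

theorem act_V : ∀ g ∈ D.negUnipotent F, φ.act g ∈ D.negUnipotent F := by
  rw [C.negUnipotent_eq]; exact φ.act_Ucl φ.stable_neg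

theorem act_n (r : Fin D.nroots) (t : F) :
    φ.act (C.nGL r t) = C.nGL (φ.ρ r) (φ.ε r * t ^ φ.e r) := by
  have h1 := C.xGL_mem_group (r : ℕ) t
  have h2 := C.xGL_mem_group (D.neg r) (-t⁻¹)
  have h := φ.act_x ⟨D.neg r, C.R.neg_lt r r.isLt⟩ (-t⁻¹)
  rw [φ.ρ_neg r, φ.e_neg r, φ.ε_neg r] at h
  have e : φ.ε r * (-t⁻¹) ^ φ.e r = -(φ.ε r * t ^ φ.e r)⁻¹ := by
    rw [_root_.neg_pow, φ.neg_pow, inv_pow, mul_inv_rev, φ.ε_inv]; ring
  rw [e] at h
  simp only [ChevCore.nGL, ChevCore.wordGL, ChevalleyDatum.nWord, List.map_cons, List.map_nil,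
    List.prod_cons, List.prod_nil, mul_one]
  rw [φ.act_mul h1 (mul_mem h2 h1), φ.act_mul h2 h1, φ.act_x, h]

theorem act_H : ∀ g ∈ D.diagonalSubgroup F, φ.act g ∈ D.diagonalSubgroup F := by
  refine φ.act_mem_closure ?_ ?_
  · rintro g ⟨r, t, -, -, hg⟩
    rw [show g = C.hGL r t from Units.ext (by rw [hg, C.coe_hGL])]
    exact C.wordGL_mem_group _
  · rintro g ⟨r, t, hr, ht, hg⟩
    rw [show g = C.hGL r t from Units.ext (by rw [hg, C.coe_hGL]), C.hGL_eq, C.nGL_neg]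
    rw [φ.act_mul (C.nGL_mem_group _ _) (inv_mem (C.nGL_mem_group _ _)),
      φ.act_inv (C.nGL_mem_group _ _), show C.nGL r t = C.nGL (⟨r, hr⟩ : Fin D.nroots) t from rfl,
      show C.nGL r 1 = C.nGL (⟨r, hr⟩ : Fin D.nroots) 1 from rfl, φ.act_n, φ.act_n,
      C.diagonalSubgroup_eq, one_pow, mul_one]
    exact C.nGL_mul_inv_mem _ (mul_ne_zero (φ.ε_ne _) (pow_ne_zero _ ht)) (φ.ε_ne _)

theorem act_N : ∀ g ∈ D.monomialSubgroup F, φ.act g ∈ D.monomialSubgroup F := by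
  intro g hg
  rw [ChevalleyDatum.monomialSubgroup, ← Subgroup.closure_eq (D.diagonalSubgroup F),
    ← Subgroup.closure_union] at hg
  refine φ.act_mem_closure ?_ ?_ g hg
  · rintro x (hx | ⟨r, -, hx⟩)
    · exact C.borel_le_group (le_sup_right (a := D.posUnipotent F) hx)
    · rw [show x = C.nGL r 1 from Units.ext (by rw [hx, C.coe_nGL])]
      exact C.nGL_mem_group _ _
  · rintro x (hx | ⟨r, hr, hx⟩)
    · exact le_sup_left (b := Subgroup.closure _) (φ.act_H x hx)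
    · rw [show x = C.nGL (⟨r, hr⟩ : Fin D.nroots) 1 from Units.ext (by rw [hx, C.coe_nGL]), φ.act_n,
        one_pow, mul_one]
      have h1 := C.nGL_mul_inv_mem (φ.ρ ⟨r, hr⟩) (φ.ε_ne ⟨r, hr⟩) (u := 1) one_ne_zero
      rw [← C.diagonalSubgroup_eq] at h1
      have h2 : C.nGL (φ.ρ ⟨r, hr⟩) 1 ∈ D.monomialSubgroup F :=
        le_sup_right (a := D.diagonalSubgroup F)
          (Subgroup.subset_closure ⟨_, (φ.ρ ⟨r, hr⟩).isLt, C.coe_nGL _ _⟩)
      have h3 := mul_mem (le_sup_left (b := Subgroup.closure _) h1 : _ ∈ D.monomialSubgroup F) h2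
      rwa [inv_mul_cancel_right] at h3

/-- The effect on the Weyl group. -/
theorem act_moves {n : GL D.Idx F} (hn : n ∈ D.monomialSubgroup F) {w : Equiv.Perm (Fin D.nroots)}
    (hw : C.Moves n w) : C.Moves (φ.act n) (φ.ρ * w * φ.ρ⁻¹) := by
  obtain ⟨w', hw', -⟩ := C.exists_moves (φ.act_N n hn)
  have hnG := C.monomial_le_group hn
  suffices h : ∀ s, w' (φ.ρ s) = φ.ρ (w s) by
    have e : φ.ρ * w * φ.ρ⁻¹ = w' := by
      ext x
      rw [Equiv.Perm.mul_apply, Equiv.Perm.mul_apply, ← h, Equiv.Perm.inv_def, Equiv.apply_symm_apply]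
    rwa [e]
  intro s
  obtain ⟨u, hu⟩ := hw.2 s 1
  obtain ⟨v, hv⟩ := hw'.2 (φ.ρ s) (φ.ε s * 1 ^ φ.e s)
  have e1 := congrArg φ.act hu
  rw [φ.act_mul (mul_mem hnG (C.xGL_mem_group _ _)) (inv_mem hnG),
    φ.act_mul hnG (C.xGL_mem_group _ _), φ.act_inv hnG, φ.act_x, φ.act_x, hv] at e1
  have hv0 : v ≠ 0 := by
    rintro rfl
    rw [C.xGL_zero, mul_inv_eq_one, mul_eq_left, C.xGL_eq_one_iff (φ.ρ s).isLt, one_pow, mul_one] at hv
    exact φ.ε_ne s hv
  exact Fin.ext (C.root_eq_of_xGL_eq (w' (φ.ρ s)).isLt hv0 e1)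

theorem commute_of_fixed {n : GL D.Idx F} (hn : n ∈ D.monomialSubgroup F)
    {w : Equiv.Perm (Fin D.nroots)} (hw : C.Moves n w) (hfix : φ.act n = n) :
    Commute φ.ρ w := by
  have h := φ.act_moves hn hw
  rw [hfix] at h
  have e := ChevCore.Moves.unique C h hw
  rw [mul_inv_eq_iff_eq_mul] at e
  exact e

/-- The fixed points inside the group. -/
noncomputable def fixedSub : Subgroup (GL D.Idx F) where
  carrier := {g | g ∈ D.group F ∧ φ.act g = g}
  mul_mem' := fun {a b} ha hb => ⟨mul_mem ha.1 hb.1, by rw [φ.act_mul ha.1 hb.1, ha.2, hb.2]⟩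
  one_mem' := ⟨one_mem _, φ.act_one⟩
  inv_mem' := fun {a} ha => ⟨inv_mem ha.1, by rw [φ.act_inv ha.1, ha.2]⟩

theorem mem_fixedSub {g : GL D.Idx F} : g ∈ φ.fixedSub ↔ g ∈ D.group F ∧ φ.act g = g := Iff.rfl

end Frob

section finite

variable [Fintype F] (C : ChevCore D F)

include C in
theorem posUnipotent_inf_diag_unique {u h : GL D.Idx F} (hu : u ∈ D.posUnipotent F)
    (hh : h ∈ D.diagonalSubgroup F) {x : GL D.Idx F} (hx : x ∈ D.posUnipotent F) {n : GL D.Idx F}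
    (e : n * x * n⁻¹ = u * h) : h = 1 := by
  classical
  set N := {r | D.IsPosRoot r}.ncard
  have hcard : Nat.card (D.posUnipotent F) = Fintype.card F ^ N := by
    rw [C.posUnipotent_eq, C.card_Ucl C.R.isClosed_pos]
  have hxm : x ^ (Fintype.card F ^ N) = 1 := by
    have : (⟨x, hx⟩ : ↥(D.posUnipotent F)) ^ (Fintype.card F ^ N) = 1 := by
      rw [← hcard]; exact pow_card_eq_one'
    exact congrArg Subtype.val this
  have hpow : ∀ k : ℕ, ∃ u' ∈ D.posUnipotent F, (u * h) ^ k = u' * h ^ k := by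
    intro k
    induction k with
    | zero => exact ⟨1, one_mem _, by simp⟩
    | succ k ih =>
      obtain ⟨u', hu', hk⟩ := ih
      refine ⟨u' * (h ^ k * u * (h ^ k)⁻¹), mul_mem hu' ((Subgroup.mem_normalizer_iff.1
        (C.diagonal_normalizes_pos (pow_mem hh k)) u).1 hu), ?_⟩
      rw [pow_succ, hk, pow_succ]
      group
  obtain ⟨u', hu', hk⟩ := hpow (Fintype.card F ^ N)
  rw [← e, conj_pow, hxm, mul_one, mul_inv_cancel] at hk
  have h1 : h ^ (Fintype.card F ^ N) = 1 :=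
    (Subgroup.eq_bot_iff_forall _).1 C.posUnipotent_inf_diagonal _ (Subgroup.mem_inf.2
      ⟨by rw [eq_inv_of_mul_eq_one_right hk.symm]; exact inv_mem hu', pow_mem hh _⟩)
  have h2 : h ^ (Fintype.card F - 1) = 1 := by
    have hh' := hh
    rw [C.diagonalSubgroup_eq] at hh'
    obtain ⟨c, rfl⟩ := hh'
    rw [← map_pow, show c ^ (Fintype.card F - 1) = 1 from funext fun i => Units.ext (by
      rw [Pi.pow_apply, Units.val_pow_eq_pow_val]
      exact FiniteField.pow_card_sub_one_eq_one _ (c i).ne_zero), map_one]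
  have hco : Nat.Coprime (Fintype.card F ^ N) (Fintype.card F - 1) := by
    refine Nat.Coprime.pow_left _ ?_
    have h0 : 0 < Fintype.card F := Fintype.card_pos
    exact (Nat.coprime_self_sub_right h0).2 (Nat.coprime_one_right _)
  rw [← orderOf_eq_one_iff]
  exact Nat.eq_one_of_dvd_coprimes hco (orderOf_dvd_of_pow_eq_one h1) (orderOf_dvd_of_pow_eq_one h2)

/-- The ambient normal form of a Chevalley group over a finite field. -/
def chevAmbient : Ambient (GL D.Idx F) where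
  G := D.group F
  U := D.posUnipotent F
  V := D.negUnipotent F
  H := D.diagonalSubgroup F
  N := D.monomialSubgroup F
  U_le := le_trans le_sup_left C.borel_le_group
  N_le := C.monomial_le_group
  H_le := le_sup_left
  H_conj_U h hh u hu := (Subgroup.mem_normalizer_iff.1 (C.diagonal_normalizes_pos hh) u).1 hu
  N_conj_H _ hn _ hh := C.conj_diagonal_mem hn hh
  U_inf_V g hu hv := (Subgroup.eq_bot_iff_forall _).1 C.borel_inf_negUnipotent g
    (Subgroup.mem_inf.2 ⟨le_sup_left (b := D.diagonalSubgroup F) hu, hv⟩)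
  B_inf_V g hb hv := (Subgroup.eq_bot_iff_forall _).1 C.borel_inf_negUnipotent g (Subgroup.mem_inf.2 ⟨hb, hv⟩)
  nf g hg := by
    obtain ⟨w, -, b, hb, n, hn, hmv, u, hu, rfl⟩ := C.normalForm_exists hg
    obtain ⟨u0, hu0, c, rfl⟩ := C.mem_borel.1 hb
    refine ⟨u0, hu0, C.R.torus c * n, mul_mem (C.torus_mem_monomial c) hn, u, ?_, ?_, by group⟩
    · rw [C.posUnipotent_eq]
      exact C.Ucl_mono (S := C.hR.invRoots w) (fun r ⟨_, hr⟩ => (C.hR.mem_invSet.1 hr).1) hu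
    · have h1 := C.conj_invRoots_mem_neg hmv u hu
      have hd : C.R.torus c ∈ D.diagonalSubgroup F := by rw [C.diagonalSubgroup_eq]; exact ⟨c, rfl⟩
      have h2 := (Subgroup.mem_normalizer_iff.1 (C.diagonal_normalizes_neg hd) _).1 h1
      simpa [mul_assoc] using h2
  nf_unique u hu n hn v hv u' hu' n' hn' v' hv' h := by
    obtain ⟨w, hw, -⟩ := C.exists_moves hn
    obtain ⟨w', hw', -⟩ := C.exists_moves hn'
    have hB : ∀ {x}, x ∈ D.posUnipotent F → x ∈ D.borelSubgroup F := fun hx =>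
      le_sup_left (b := D.diagonalSubgroup F) hx
    have hcell : n' ∈ C.bigCell n := C.mem_bigCell.2 ⟨u'⁻¹ * u, hB (mul_mem (inv_mem hu') hu),
      v * v'⁻¹, hB (mul_mem hv (inv_mem hv')), by
        rw [show u'⁻¹ * u * n * (v * v'⁻¹) = u'⁻¹ * (u * n * v) * v'⁻¹ by group, h]; group⟩
    obtain rfl : w' = w := C.moves_eq_of_mem hn' hn hw' hw hcell
    have hd : n' * n⁻¹ ∈ D.diagonalSubgroup F :=
      C.mem_diagonal_of_moves_one (mul_mem hn' (inv_mem hn))
        (by simpa using ChevCore.Moves.mul C hw' (ChevCore.Moves.inv C hn hw))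
    have key : n * (v * v'⁻¹) * n⁻¹ = u⁻¹ * u' * (n' * n⁻¹) := by
      calc n * (v * v'⁻¹) * n⁻¹ = u⁻¹ * (u * n * v) * v'⁻¹ * n⁻¹ := by group
        _ = u⁻¹ * (u' * n' * v') * v'⁻¹ * n⁻¹ := by rw [h]
        _ = _ := by group
    have := posUnipotent_inf_diag_unique C (mul_mem (inv_mem hu) hu') hd (mul_mem hv (inv_mem hv')) key
    exact (mul_inv_eq_one.1 this).symm

end finite

end CfsgLib.Twisted
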