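import Cfsg.Agent.Lib.Twisted.SpanTables

/-! The exceptional symmetry of a datum as an automorphism over a perfect field. -/

set_option autoImplicit false

namespace CfsgLib.Twisted

open Cfsg.Lie CfsgLib.ChevStr
open scoped MatrixGroups

namespace SubData

variable {S : SubData} {D : ChevalleyDatum} {F : Type*} [Field F] (C : ChevCore D F)

include C in
theorem isUnit_xMat (r : Fin D.nroots) (t : F) : IsUnit (D.xMat F r t) := by
  have h : (C.xGL r t : Matrix D.Idx D.Idx F) = D.xMat F r t := by simp [ChevalleyDatum.x]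
  exact h ▸ (C.xGL r t).isUnit

include C in
/-- The automorphism of a sub-quotient datum. -/
theorem exists_auto (h : S.check D = true) [CharP F S.p] (hperf : ∀ x : F, ∃ y : F, y ^ S.p = x)
    (hI : spanCheck D C.R.α (goodI S D) = true) (hQ : spanCheck D C.R.α (goodQ S D) = true) :
    ∃ α : ↥(D.group F) ≃* ↥(D.group F), ∀ (g : ↥(D.group F)) (r : ℕ) (t : F), r < D.nroots →
      ((g : GL D.Idx F) : Matrix D.Idx D.Idx F) = D.x F r t →
        ((α g : GL D.Idx F) : Matrix D.Idx D.Idx F) = D.x F (S.root r) (t ^ S.ex r) :=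
  ⟨MulEquiv.ofBijective (endGroup h F (faithI C h hI) (isUnit_xMat C))
    ⟨endGroup_injective h F (faithI C h hI) (faithQ C h hQ) (isUnit_xMat C),
      endGroup_surjective h F (faithI C h hI) (isUnit_xMat C) hperf⟩,
    fun g r t hr hg => endGroup_x h F (faithI C h hI) (isUnit_xMat C) g r t hr hg⟩

end SubData

end CfsgLib.Twisted
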