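import Cfsg.Agent.Lib.Twisted.Sparse

/-!
Automorphisms of a Chevalley group given by a signed permutation of the coordinates that permutes
the root elements, checked on the sparse form of the root elements.
-/

set_option autoImplicit false

namespace CfsgLib.Twisted

open Cfsg.Lie

/-- A candidate symmetry: node permutation, root permutation, its inverse, signs. -/
structure SymData where
  nodes : List ℕ
  roots : List ℕ
  rootsInv : List ℕ
  signs : List ℤ

namespace SymData

variable (P : SymData) (D : ChevalleyDatum)

/-- Image of a root index. -/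
def root (r : ℕ) : ℕ := P.roots.getD r 0

/-- Sign attached to a root. -/
def sign (r : ℕ) : ℤ := P.signs.getD r 0

/-- Image of a coordinate code. -/
def codeMap (c : ℕ) : ℕ := if c < D.rank then P.nodes.getD c 0 else D.rank + P.root (c - D.rank)

/-- Sign of a coordinate code. -/
def codeSign (c : ℕ) : ℤ := if c < D.rank then 1 else P.sign (c - D.rank)

/-- Transported item. -/
def mapItem (r : ℕ) (it : Item) : Item :=
  ((P.codeMap D it.1.1, P.codeMap D it.1.2), it.2.1,
    P.codeSign D it.1.1 * P.codeSign D it.1.2 * P.sign r ^ it.2.1 * it.2.2)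

/-- The non-zero items. -/
def nzItems (l : List Item) : List Item := l.filter fun it => it.2.2 != 0

/-- The kernel check. -/
def check : Bool :=
  ((List.range D.rank).all fun i => decide (P.nodes.getD i 0 < D.rank) &&
    (List.range D.rank).all fun j => decide (P.nodes.getD i 0 = P.nodes.getD j 0 → i = j)) &&
  ((List.range D.nroots).all fun r =>
    decide (P.root r < D.nroots) && decide (P.rootsInv.getD r 0 < D.nroots) &&
    decide (P.rootsInv.getD (P.root r) 0 = r) && decide (P.root (P.rootsInv.getD r 0) = r) &&
    decide (P.sign r * P.sign r = 1) && decide (D.negIdx.getD r 0 ≠ r) &&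
    ((items D r).all fun it => decide (it.1.1 < D.rank + D.nroots) && decide (it.1.2 < D.rank + D.nroots)) &&
    (nzItems ((items D r).map (P.mapItem D r))).isPerm (nzItems (items D (P.root r))))

variable {P D}

theorem of_check (h : P.check D = true) :
    (∀ i < D.rank, P.nodes.getD i 0 < D.rank) ∧
    (∀ i < D.rank, ∀ j < D.rank, P.nodes.getD i 0 = P.nodes.getD j 0 → i = j) ∧
    (∀ r < D.nroots, P.root r < D.nroots ∧ P.rootsInv.getD r 0 < D.nroots ∧
      P.rootsInv.getD (P.root r) 0 = r ∧ P.root (P.rootsInv.getD r 0) = r ∧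
      P.sign r * P.sign r = 1 ∧ D.negIdx.getD r 0 ≠ r ∧
      (∀ it ∈ items D r, it.1.1 < D.rank + D.nroots ∧ it.1.2 < D.rank + D.nroots) ∧
      (nzItems ((items D r).map (P.mapItem D r))).Perm (nzItems (items D (P.root r)))) := by
  simp only [check, Bool.and_eq_true, List.all_eq_true, List.mem_range, decide_eq_true_eq,
    List.isPerm_iff] at h
  exact ⟨fun i hi => (h.1 i hi).1, fun i hi => (h.1 i hi).2,
    fun r hr => ⟨(h.2 r hr).1.1.1.1.1.1.1, (h.2 r hr).1.1.1.1.1.1.2, (h.2 r hr).1.1.1.1.1.2,
      (h.2 r hr).1.1.1.1.2, (h.2 r hr).1.1.1.2, (h.2 r hr).1.1.2, (h.2 r hr).1.2, (h.2 r hr).2⟩⟩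

variable (h : P.check D = true)

/-- The permutation of the coordinates. -/
noncomputable def perm : D.Idx ≃ D.Idx :=
  Equiv.ofBijective
    (Sum.map (fun i : Fin D.rank => (⟨P.nodes.getD i.val 0, (of_check h).1 i i.2⟩ : Fin D.rank))
      (fun r : Fin D.nroots => (⟨P.root r.val, ((of_check h).2.2 r r.2).1⟩ : Fin D.nroots))) <| by
    rw [Finite.injective_iff_bijective.symm]
    refine Function.Injective.sumMap (fun i j e => ?_) (fun r s e => ?_)
    · exact Fin.ext ((of_check h).2.1 i i.2 j j.2 (congrArg Fin.val e))
    · have e' := congrArg (fun x => P.rootsInv.getD x 0) (congrArg Fin.val e)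
      simp only [((of_check h).2.2 r r.2).2.2.1, ((of_check h).2.2 s s.2).2.2.1] at e'
      exact Fin.ext e'

theorem code_perm (a : D.Idx) : code D (perm h a) = P.codeMap D (code D a) := by
  rcases a with i | r
  · show P.nodes.getD i.val 0 = _
    rw [codeMap, code, if_pos i.2]
  · show D.rank + P.root r.val = _
    rw [codeMap, code, if_neg (by omega), Nat.add_sub_cancel_left]

include h in
theorem codeMap_inj (a : D.Idx) {c : ℕ} (hc : c < D.rank + D.nroots)
    (e : P.codeMap D c = P.codeMap D (code D a)) : c = code D a := by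
  obtain ⟨b, rfl⟩ : ∃ b, code D b = c := by
    by_cases hlt : c < D.rank
    · exact ⟨Sum.inl ⟨c, hlt⟩, rfl⟩
    · exact ⟨Sum.inr ⟨c - D.rank, by omega⟩, show D.rank + (c - D.rank) = c by omega⟩
  rw [← code_perm h, ← code_perm h] at e
  rw [(perm h).injective (code_injective D e)]

/-- The signs of the coordinates. -/
def signVec (F : Type*) [Field F] (a : D.Idx) : F := (P.codeSign D (code D a) : F)

variable (F : Type*) [Field F]

include h in
theorem signVec_sq (a : D.Idx) : signVec (P := P) (D := D) F a * signVec (P := P) F a = 1 := by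
  rcases a with i | r
  · simp [signVec, codeSign, code]
  · have := ((of_check h).2.2 r r.2).2.2.2.2.1
    simp only [signVec, codeSign, show code D (Sum.inr r) = D.rank + r.val from rfl]
    rw [if_neg (by omega), Nat.add_sub_cancel_left, ← Int.cast_mul, this, Int.cast_one]

theorem evalAt_nz (l : List Item) (t : F) (p : ℕ × ℕ) : evalAt (nzItems l) t p = evalAt l t p := by
  induction l with
  | nil => rfl
  | cons it l ih =>
    by_cases h0 : it.2.2 = 0
    · rw [nzItems, List.filter_cons_of_neg (by simp [h0]), ← nzItems, ih]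
      by_cases hp : it.1 = p <;> simp [evalAt, hp, h0]
    · rw [nzItems, List.filter_cons_of_pos (by simp [h0]), ← nzItems]
      by_cases hp : it.1 = p <;> simp [evalAt, hp] at ih ⊢ <;> exact ih

theorem evalAt_perm {l l' : List Item} (hp : l.Perm l') (t : F) (p : ℕ × ℕ) :
    evalAt l t p = evalAt l' t p :=
  ((hp.filter _).map _).sum_eq

theorem evalAt_map (r : ℕ) (hr : r < D.nroots) (t : F) (a b : D.Idx) :
    evalAt ((items D r).map (P.mapItem D r)) ((P.sign r : F) * t) (code D (perm h a), code D (perm h b)) =
      signVec (P := P) F a * signVec (P := P) F b * evalAt (items D r) t (code D a, code D b) := by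
  have hbound := ((of_check h).2.2 r hr).2.2.2.2.2.2.1
  have hsq : (P.sign r : F) * P.sign r = 1 := by
    rw [← Int.cast_mul, ((of_check h).2.2 r hr).2.2.2.2.1, Int.cast_one]
  have hpow : ∀ k : ℕ, (P.sign r : F) ^ k * (P.sign r : F) ^ k = 1 := fun k => by
    rw [← mul_pow, hsq, one_pow]
  generalize items D r = L at hbound ⊢
  induction L with
  | nil => simp [evalAt]
  | cons it l ih =>
    have hl := ih fun x hx => hbound x (List.mem_cons_of_mem _ hx)
    obtain ⟨h1, h2⟩ := hbound it List.mem_cons_self
    rw [List.map_cons, ← List.singleton_append, evalAt_append, ← List.singleton_append (l := l),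
      evalAt_append, mul_add, hl]
    congr 1
    by_cases hit : it.1 = (code D a, code D b)
    · simp only [evalAt, mapItem, hit, code_perm]
      simp [hit, signVec, mul_pow]
      linear_combination ((P.codeSign D (code D a) : F) * P.codeSign D (code D b) * it.2.2 * t ^ it.2.1) *
        hpow it.2.1
    · have hne : (P.mapItem D r it).1 ≠ (code D (perm h a), code D (perm h b)) := fun e => hit <| by
        simp only [mapItem, code_perm, Prod.mk.injEq] at e
        exact Prod.ext (codeMap_inj h a h1 e.1) (codeMap_inj h b h2 e.2)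
      rw [evalAt_eq_zero _ (by simpa using hne), evalAt_eq_zero _ (by simpa using hit), mul_zero]

theorem xMat_perm (r : Fin D.nroots) (t : F) (a b : D.Idx) :
    D.xMat F ⟨P.root r.val, ((of_check h).2.2 r r.2).1⟩ ((P.sign r.val : F) * t) (perm h a) (perm h b) =
      signVec (P := P) F a * D.xMat F r t a b * signVec (P := P) F b := by
  have hr := (of_check h).2.2 r r.2
  rw [xMat_eq_items _ ((of_check h).2.2 _ hr.1).2.2.2.2.2.1, xMat_eq_items r hr.2.2.2.2.2.1,
    ← evalAt_nz F (items D (P.root r.val)), ← evalAt_perm F hr.2.2.2.2.2.2.2, evalAt_nz, evalAt_map h F _ r.2,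
    mul_add, add_mul]
  congr 1
  · by_cases hab : a = b
    · subst hab
      rw [Matrix.one_apply_eq, Matrix.one_apply_eq, mul_one, signVec_sq h]
    · rw [Matrix.one_apply_ne hab, Matrix.one_apply_ne ((perm h).injective.ne hab), mul_zero, zero_mul]
  · ring

/-- Conjugation by the signed permutation matrix. -/
noncomputable def conjMat : Matrix D.Idx D.Idx F ≃* Matrix D.Idx D.Idx F where
  toFun M := Matrix.of fun a b =>
    signVec (P := P) F a * M (perm h a) (perm h b) * signVec (P := P) F b
  invFun M := Matrix.of fun a b => signVec (P := P) F ((perm h).symm a) *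
    M ((perm h).symm a) ((perm h).symm b) * signVec (P := P) F ((perm h).symm b)
  left_inv M := by
    ext a b
    simp only [Matrix.of_apply, Equiv.apply_symm_apply]
    rw [show ∀ x y z : F, x * (x * z * y) * y = (x * x) * z * (y * y) by intros; ring,
      signVec_sq h, signVec_sq h, one_mul, mul_one]
  right_inv M := by
    ext a b
    simp only [Matrix.of_apply, Equiv.symm_apply_apply]
    rw [show ∀ x y z : F, x * (x * z * y) * y = (x * x) * z * (y * y) by intros; ring,
      signVec_sq h, signVec_sq h, one_mul, mul_one]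
  map_mul' M N := by
    ext a b
    simp only [Matrix.mul_apply, Matrix.of_apply, Finset.mul_sum, Finset.sum_mul]
    rw [← Equiv.sum_comp (perm h)]
    refine Finset.sum_congr rfl fun c _ => ?_
    calc _ = signVec (P := P) F a * M (perm h a) (perm h c) *
          (signVec (P := P) F c * signVec (P := P) F c) * N (perm h c) (perm h b) *
          signVec (P := P) F b := by rw [signVec_sq h]; ring
      _ = _ := by ring

/-- The induced automorphism of the general linear group. -/
noncomputable def conjGL : GL D.Idx F ≃* GL D.Idx F := (Units.mapEquiv (conjMat h F)).symm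

theorem conjGL_x (r : Fin D.nroots) (t : F) {g : GL D.Idx F}
    (hg : (g : Matrix D.Idx D.Idx F) = D.xMat F r t) :
    (conjGL h F g : Matrix D.Idx D.Idx F) =
      D.xMat F ⟨P.root r.val, ((of_check h).2.2 r r.2).1⟩ ((P.sign r.val : F) * t) := by
  show (conjMat h F).symm (g : Matrix D.Idx D.Idx F) = _
  apply (conjMat h F).injective
  rw [MulEquiv.apply_symm_apply, hg]
  ext a b
  show _ = signVec (P := P) F a * _ * signVec (P := P) F b
  rw [xMat_perm h F r t a b,
    show ∀ x y z : F, x * (x * z * y) * y = (x * x) * z * (y * y) by intros; ring,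
    signVec_sq h, signVec_sq h, one_mul, mul_one]

theorem map_group : (D.group F).map (conjGL h F).toMonoidHom = D.group F := by
  rw [ChevalleyDatum.group, MonoidHom.map_closure]
  apply congrArg
  ext g
  constructor
  · rintro ⟨g, ⟨r, t, hg⟩, rfl⟩
    exact ⟨⟨_, ((of_check h).2.2 r r.2).1⟩, _, conjGL_x h F r t hg⟩
  · rintro ⟨r, t, hg⟩
    obtain ⟨-, hlt, -, hinv, -⟩ := (of_check h).2.2 r r.2
    have hs := ((of_check h).2.2 _ hlt).2.2.2.2.1
    refine ⟨(conjGL h F).symm g, ⟨⟨_, hlt⟩, (P.sign (P.rootsInv.getD r.val 0) : F) * t, ?_⟩,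
      (conjGL h F).apply_symm_apply g⟩
    show conjMat h F (g : Matrix D.Idx D.Idx F) = _
    rw [hg]
    ext a b
    show signVec (P := P) F a * D.xMat F r t (perm h a) (perm h b) * signVec (P := P) F b = _
    have := xMat_perm h F ⟨_, hlt⟩ ((P.sign (P.rootsInv.getD r.val 0) : F) * t) a b
    simp only [hinv, Fin.eta] at this
    rw [← mul_assoc, ← Int.cast_mul, hs, Int.cast_one, one_mul] at this
    rw [this, show ∀ x y z : F, x * (x * z * y) * y = (x * x) * z * (y * y) by intros; ring,
      signVec_sq h, signVec_sq h, one_mul, mul_one]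

/-- The induced automorphism of the Chevalley group. -/
noncomputable def autGroup : ↥(D.group F) ≃* ↥(D.group F) :=
  ((conjGL h F).subgroupMap (D.group F)).trans (MulEquiv.subgroupCongr (map_group h F))

theorem autGroup_x (g : ↥(D.group F)) (r : ℕ) (t : F) (hr : r < D.nroots)
    (hg : ((g : GL D.Idx F) : Matrix D.Idx D.Idx F) = D.x F r t) :
    ((autGroup h F g : GL D.Idx F) : Matrix D.Idx D.Idx F) = D.x F (P.root r) ((P.sign r : F) * t) := by
  simp only [ChevalleyDatum.x, dif_pos hr] at hg
  simp only [ChevalleyDatum.x, dif_pos ((of_check h).2.2 r hr).1]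
  exact conjGL_x h F ⟨r, hr⟩ t hg

end SymData

end CfsgLib.Twisted
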