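import Cfsg.Agent.Lib.Twisted.Sparse

/-!
Exceptional symmetries in characteristic `p`: the quotient of the coordinate module by an invariant
coordinate subspace, matched with that subspace through a permutation of roots and Frobenius powers.
-/

set_option autoImplicit false

namespace CfsgLib.Twisted

open Cfsg.Lie

/-- Data of an exceptional symmetry: characteristic, invariant coordinates (by code), the matching
of the other coordinates with the invariant ones, the permutation of roots and the exponents. -/
structure SubData where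
  p : ℕ
  inI : List Bool
  img : List ℕ
  roots : List ℕ
  rootsInv : List ℕ
  expo : List ℕ

namespace SubData

variable (S : SubData) (D : ChevalleyDatum)

/-- The coordinate code is invariant. -/
def isI (c : ℕ) : Bool := S.inI.getD c false

/-- Image of a root. -/
def root (r : ℕ) : ℕ := S.roots.getD r 0

/-- Exponent attached to a root. -/
def ex (r : ℕ) : ℕ := S.expo.getD r 0

/-- The relevant items of `x_r` on the quotient, moved to the invariant coordinates. -/
def quotItems (r : ℕ) : List Item :=
  ((items D r).filter fun it => !S.isI it.1.1 && !S.isI it.1.2 && it.2.2 % (S.p : ℤ) != 0).map fun it =>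
    ((S.img.getD it.1.1 0, S.img.getD it.1.2 0), it.2.1, it.2.2 % (S.p : ℤ))

/-- The relevant items of the image root element on the invariant coordinates. -/
def subItems (r : ℕ) : List Item :=
  ((items D (S.root r)).filter fun it => S.isI it.1.1 && S.isI it.1.2 && it.2.2 % (S.p : ℤ) != 0).map fun it =>
    (it.1, it.2.1 * S.ex r, it.2.2 % (S.p : ℤ))

/-- The kernel check. -/
def check : Bool :=
  let n := D.rank + D.nroots
  ((List.range n).all fun a => S.isI a || (decide (S.img.getD a 0 < n) && S.isI (S.img.getD a 0) &&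
    (List.range n).all fun b => S.isI b || decide (S.img.getD a 0 = S.img.getD b 0 → a = b))) &&
  ((List.range n).all fun a => !S.isI a || (List.range n).any fun b => !S.isI b && S.img.getD b 0 == a) &&
  ((List.range D.nroots).all fun r =>
    decide (S.root r < D.nroots) && decide (S.rootsInv.getD r 0 < D.nroots) &&
    decide (S.root (S.rootsInv.getD r 0) = r) && decide (S.ex r = 1 ∨ S.ex r = S.p) &&
    decide (D.negIdx.getD r 0 ≠ r) &&
    ((items D r).all fun it => decide (it.1.1 < n) && decide (it.1.2 < n) &&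
      (S.isI it.1.1 || !S.isI it.1.2 || it.2.2 % (S.p : ℤ) == 0)) &&
    (S.quotItems D r).isPerm (S.subItems D r))

variable {S D}

theorem of_check (h : S.check D = true) :
    (∀ a < D.rank + D.nroots, S.isI a = false → S.img.getD a 0 < D.rank + D.nroots ∧
      S.isI (S.img.getD a 0) = true ∧
      ∀ b < D.rank + D.nroots, S.isI b = false → S.img.getD a 0 = S.img.getD b 0 → a = b) ∧
    (∀ a < D.rank + D.nroots, S.isI a = true →
      ∃ b < D.rank + D.nroots, S.isI b = false ∧ S.img.getD b 0 = a) ∧
    (∀ r < D.nroots, S.root r < D.nroots ∧ S.rootsInv.getD r 0 < D.nroots ∧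
      S.root (S.rootsInv.getD r 0) = r ∧ (S.ex r = 1 ∨ S.ex r = S.p) ∧ D.negIdx.getD r 0 ≠ r ∧
      (∀ it ∈ items D r, it.1.1 < D.rank + D.nroots ∧ it.1.2 < D.rank + D.nroots ∧
        (S.isI it.1.1 = false → S.isI it.1.2 = true → it.2.2 % (S.p : ℤ) = 0)) ∧
      (S.quotItems D r).Perm (S.subItems D r)) := by
  simp only [check, Bool.and_eq_true, List.all_eq_true, List.any_eq_true, List.mem_range,
    decide_eq_true_eq, List.isPerm_iff, Bool.or_eq_true, Bool.not_eq_true', beq_iff_eq] at h
  obtain ⟨⟨h1, h2⟩, h3⟩ := h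
  refine ⟨fun a ha hI => ?_, fun a ha hI => ?_, fun r hr => ?_⟩
  · rcases h1 a ha with h | h
    · simp [h] at hI
    · refine ⟨h.1.1, h.1.2, fun b hb hbI e => ?_⟩
      rcases h.2 b hb with h' | h'
      · simp [h'] at hbI
      · exact h' e
  · rcases h2 a ha with h | h
    · simp [h] at hI
    · exact h
  · obtain ⟨⟨⟨⟨⟨⟨a1, a2⟩, a3⟩, a4⟩, a5⟩, a6⟩, a7⟩ := h3 r hr
    refine ⟨a1, a2, a3, a4, a5, fun it hit => ?_, a7⟩
    obtain ⟨⟨b1, b2⟩, b3⟩ := a6 it hit
    refine ⟨b1, b2, fun e1 e2 => ?_⟩
    rcases b3 with (h | h) | h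
    · simp [h] at e1
    · simp [h] at e2
    · exact h

variable (h : S.check D = true)

/-- The two blocks of coordinates. -/
def block (S : SubData) (D : ChevalleyDatum) (a : D.Idx) : ℕ := if S.isI (code D a) then 0 else 1

/-- The invariant coordinates. -/
abbrev IIdx (S : SubData) (D : ChevalleyDatum) : Type := {a : D.Idx // S.isI (code D a) = true}

/-- The other coordinates. -/
abbrev QIdx (S : SubData) (D : ChevalleyDatum) : Type := {a : D.Idx // S.isI (code D a) = false}

theorem code_lt (a : D.Idx) : code D a < D.rank + D.nroots := by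
  rcases a with i | r <;> simp only [code] <;> omega

/-- A coordinate from its code. -/
def decode (c : ℕ) (hc : c < D.rank + D.nroots) : D.Idx :=
  if hl : c < D.rank then Sum.inl ⟨c, hl⟩ else Sum.inr ⟨c - D.rank, by omega⟩

theorem code_decode (c : ℕ) (hc : c < D.rank + D.nroots) : code D (decode c hc) = c := by
  unfold decode
  split
  · rfl
  · show D.rank + (c - D.rank) = c
    omega

/-- The matching of the coordinates. -/
noncomputable def matchEquiv : QIdx S D ≃ IIdx S D :=
  Equiv.ofBijective (fun a => ⟨decode (S.img.getD (code D a.1) 0) ((of_check h).1 _ (code_lt a.1) a.2).1,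
      by rw [code_decode]; exact ((of_check h).1 _ (code_lt a.1) a.2).2.1⟩) ⟨fun a b e => by
    have e' := congrArg (fun x : IIdx S D => code D x.1) e
    simp only [code_decode] at e'
    exact Subtype.ext (code_injective D
      (((of_check h).1 _ (code_lt a.1) a.2).2.2 _ (code_lt b.1) b.2 e')), fun a => by
    obtain ⟨b, hb, hbI, hbe⟩ := (of_check h).2.1 _ (code_lt a.1) a.2
    refine ⟨⟨decode b hb, by rw [code_decode]; exact hbI⟩, Subtype.ext (code_injective D ?_)⟩
    simp only [code_decode]
    exact hbe⟩

theorem code_matchEquiv (a : QIdx S D) :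
    code D (matchEquiv h a).1 = S.img.getD (code D a.1) 0 := code_decode _ ((of_check h).1 _ (code_lt a.1) a.2).1

variable (F : Type*) [Field F]

theorem evalAt_congr_mod [CharP F S.p] (l : List Item) (keep : Item → Bool) (t : F) (pos : ℕ × ℕ)
    (hkeep : ∀ it ∈ l, it.1 = pos → keep it = true) :
    evalAt ((l.filter fun it => keep it && it.2.2 % (S.p : ℤ) != 0).map fun it =>
      (it.1, it.2.1, it.2.2 % (S.p : ℤ))) t pos = evalAt l t pos := by
  induction l with
  | nil => simp [evalAt]
  | cons it l ih =>
    have ih' := ih fun x hx => hkeep x (List.mem_cons_of_mem _ hx)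
    have hc : ((it.2.2 % (S.p : ℤ) : ℤ) : F) = (it.2.2 : F) :=
      ((CharP.intCast_eq_intCast F S.p).2 (Int.mod_modEq _ _))
    rw [← List.singleton_append (l := l), List.filter_append, List.map_append, evalAt_append, evalAt_append,
      ih']
    congr 1
    by_cases hp : it.1 = pos
    · by_cases h0 : it.2.2 % (S.p : ℤ) = 0
      · simp [evalAt, hp, h0, ← hc]
      · simp [evalAt, hp, h0, hkeep it List.mem_cons_self hp, hc]
    · by_cases hk : (keep it && it.2.2 % (S.p : ℤ) != 0) = true
      · simp [evalAt, hk, hp]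
      · simp [evalAt, Bool.eq_false_iff.2 hk, hp]

/-- On the quotient, `x_r(t)` is the image root element on the invariant coordinates. -/
theorem xMat_match [CharP F S.p] (r : Fin D.nroots) (t : F) (a b : QIdx S D) :
    D.xMat F r t a.1 b.1 =
      D.xMat F ⟨S.root r.val, ((of_check h).2.2 r r.2).1⟩ (t ^ S.ex r.val)
        (matchEquiv h a).1 (matchEquiv h b).1 := by
  obtain ⟨hlt, -, -, -, hneg, hit, hperm⟩ := (of_check h).2.2 r r.2
  rw [xMat_eq_items r hneg, xMat_eq_items _ ((of_check h).2.2 _ hlt).2.2.2.2.1]
  congr 1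
  · by_cases hab : a = b
    · subst hab; rw [Matrix.one_apply_eq, Matrix.one_apply_eq]
    · rw [Matrix.one_apply_ne (fun e => hab (Subtype.ext e)),
        Matrix.one_apply_ne (fun e => hab ((matchEquiv h).injective (Subtype.ext e)))]
  have hL : evalAt (items D r.val) t (code D a.1, code D b.1) =
      evalAt (S.quotItems D r.val) t (code D (matchEquiv h a).1, code D (matchEquiv h b).1) := by
    rw [← evalAt_congr_mod (S := S) F (items D r.val) (fun it => !S.isI it.1.1 && !S.isI it.1.2) t _ (by
      intro it _ e; simp [e, a.2, b.2]), quotItems, code_matchEquiv, code_matchEquiv]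
    have hmem : ∀ it ∈ (items D r.val).filter (fun it => !S.isI it.1.1 && !S.isI it.1.2 &&
        it.2.2 % (S.p : ℤ) != 0), it.1.1 < D.rank + D.nroots ∧ it.1.2 < D.rank + D.nroots ∧
          S.isI it.1.1 = false ∧ S.isI it.1.2 = false := by
      intro it hi
      simp only [List.mem_filter, Bool.and_eq_true, Bool.not_eq_true'] at hi
      exact ⟨(hit it hi.1).1, (hit it hi.1).2.1, hi.2.1.1, hi.2.1.2⟩
    generalize (items D r.val).filter _ = l at hmem ⊢
    induction l with
    | nil => simp [evalAt]
    | cons it l ih =>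
      obtain ⟨b1, b2, b3, b4⟩ := hmem it List.mem_cons_self
      rw [← List.singleton_append (l := l), List.map_append, List.map_append, evalAt_append, evalAt_append,
        ih fun x hx => hmem x (List.mem_cons_of_mem _ hx)]
      congr 1
      by_cases e : it.1 = (code D a.1, code D b.1)
      · simp [evalAt, e]
      · rw [evalAt_eq_zero _ (by simpa using e), evalAt_eq_zero _ ?_]
        simp only [List.map_cons, List.map_nil, List.mem_singleton, forall_eq]
        intro e'
        rw [Prod.mk.injEq] at e'
        exact e (Prod.ext (((of_check h).1 _ b1 b3).2.2 _ (code_lt a.1) a.2 e'.1)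
          (((of_check h).1 _ b2 b4).2.2 _ (code_lt b.1) b.2 e'.2))
  rw [hL, show evalAt (S.quotItems D r.val) t _ = evalAt (S.subItems D r.val) t _ from
    ((hperm.filter _).map _).sum_eq]
  simp only [subItems]
  rw [
    ← evalAt_congr_mod (S := S) F (items D (S.root r.val)) (fun it => S.isI it.1.1 && S.isI it.1.2)
      (t ^ S.ex r.val) _ (by intro it _ e; simp [e, (matchEquiv h a).2, (matchEquiv h b).2])]
  generalize (items D (S.root r.val)).filter _ = l
  induction l with
  | nil => simp [evalAt]
  | cons it l ih =>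
    rw [← List.singleton_append (l := l), List.map_append, List.map_append, evalAt_append, evalAt_append, ih]
    congr 1
    by_cases e : it.1 = (code D (matchEquiv h a).1, code D (matchEquiv h b).1)
    · simp [evalAt, e, ← pow_mul, mul_comm]
    · simp [evalAt, e]

include h in
theorem xMat_triangular [CharP F S.p] (r : Fin D.nroots) (t : F) :
    (D.xMat F r t).BlockTriangular (block S D) := by
  intro a b hab
  obtain ⟨-, -, -, -, hneg, hit, -⟩ := (of_check h).2.2 r r.2
  have hI : S.isI (code D a) = false ∧ S.isI (code D b) = true := by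
    simp only [block] at hab
    cases hA : S.isI (code D a) <;> cases hB : S.isI (code D b) <;> simp [hA, hB] at hab ⊢
  rw [xMat_eq_items r hneg, Matrix.one_apply_ne (fun e => by simp [e, hI.2] at hI), zero_add]
  apply List.sum_eq_zero
  intro x hx
  simp only [List.mem_map, List.mem_filter, decide_eq_true_eq] at hx
  obtain ⟨it, ⟨hmem, e⟩, rfl⟩ := hx
  have h0 := (hit it hmem).2.2 (by rw [e]; exact hI.1) (by rw [e]; exact hI.2)
  rw [show ((it.2.2 : ℤ) : F) = 0 from (CharP.intCast_eq_zero_iff F S.p _).2 (Int.dvd_of_emod_eq_zero h0),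
    zero_mul]

include h in
theorem mem_group_triangular [CharP F S.p] {g : GL D.Idx F} (hg : g ∈ D.group F) :
    (g : Matrix D.Idx D.Idx F).BlockTriangular (block S D) := by
  induction hg using Subgroup.closure_induction with
  | mem x hx => obtain ⟨r, t, hx⟩ := hx; rw [hx]; exact xMat_triangular h F r t
  | one => simpa using Matrix.blockTriangular_one
  | mul x y _ _ hx hy => simpa using hx.mul hy
  | inv x _ hx =>
    have := Units.invertible x
    rw [Matrix.coe_units_inv]
    exact Matrix.blockTriangular_inv_of_blockTriangular hx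

/-- Restriction to the invariant coordinates. -/
def resI (M : Matrix D.Idx D.Idx F) : Matrix (IIdx S D) (IIdx S D) F := M.submatrix (fun a => a.1) (fun a => a.1)

/-- Restriction to the other coordinates. -/
def resQ (M : Matrix D.Idx D.Idx F) : Matrix (QIdx S D) (QIdx S D) F := M.submatrix (fun a => a.1) (fun a => a.1)

theorem resI_mul {M N : Matrix D.Idx D.Idx F} (hN : N.BlockTriangular (block S D)) :
    resI (S := S) F (M * N) = resI (S := S) F M * resI (S := S) F N := by
  ext a b
  simp only [resI, Matrix.submatrix_apply, Matrix.mul_apply]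
  rw [← Fintype.sum_subtype_add_sum_subtype (fun c => S.isI (code D c) = true) (fun c => M a.1 c * N c b.1)]
  rw [add_eq_left]
  refine Finset.sum_eq_zero fun c _ => ?_
  rw [hN (show block S D b.1 < block S D c.1 by simp [block, b.2, Bool.eq_false_iff.2 c.2]), mul_zero]

theorem resQ_mul {M N : Matrix D.Idx D.Idx F} (hM : M.BlockTriangular (block S D)) :
    resQ (S := S) F (M * N) = resQ (S := S) F M * resQ (S := S) F N := by
  ext a b
  simp only [resQ, Matrix.submatrix_apply, Matrix.mul_apply]
  rw [← Fintype.sum_subtype_add_sum_subtype (fun c => S.isI (code D c) = false) (fun c => M a.1 c * N c b.1)]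
  rw [add_eq_left]
  refine Finset.sum_eq_zero fun c _ => ?_
  rw [hM (show block S D c.1 < block S D a.1 by simp [block, a.2, show S.isI (code D c.1) = true by simpa using c.2]), zero_mul]

theorem resI_one : resI (S := S) F (1 : Matrix D.Idx D.Idx F) = 1 :=
  Matrix.submatrix_one _ Subtype.val_injective

theorem resQ_one : resQ (S := S) F (1 : Matrix D.Idx D.Idx F) = 1 :=
  Matrix.submatrix_one _ Subtype.val_injective

/-- `b` is matched with `a`. -/
def Matched (a b : GL D.Idx F) : Prop :=
  resQ (S := S) F (a : Matrix D.Idx D.Idx F) =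
    (resI (S := S) F (b : Matrix D.Idx D.Idx F)).submatrix (matchEquiv h) (matchEquiv h)

theorem matched_mul [CharP F S.p] {a a' b b' : GL D.Idx F} (ha : a ∈ D.group F) (hb' : b' ∈ D.group F)
    (h1 : Matched h F a b) (h2 : Matched h F a' b') : Matched h F (a * a') (b * b') := by
  unfold Matched at h1 h2 ⊢
  rw [Units.val_mul, Units.val_mul, resQ_mul F (mem_group_triangular h F ha),
    resI_mul F (mem_group_triangular h F hb'), h1, h2, Matrix.submatrix_mul_equiv]

theorem exists_matched [CharP F S.p] (hunit : ∀ (r : Fin D.nroots) (t : F), IsUnit (D.xMat F r t)) {a : GL D.Idx F} (ha : a ∈ D.group F) :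
    ∃ b ∈ D.group F, Matched h F a b := by
  induction ha using Subgroup.closure_induction with
  | mem x hx =>
    obtain ⟨r, t, hx⟩ := hx
    obtain ⟨y, hy⟩ : ∃ y : GL D.Idx F, (y : Matrix D.Idx D.Idx F) =
        D.xMat F ⟨S.root r.val, ((of_check h).2.2 r r.2).1⟩ (t ^ S.ex r.val) := by
      obtain ⟨g, hg⟩ := hunit ⟨S.root r.val, ((of_check h).2.2 r r.2).1⟩ (t ^ S.ex r.val)
      exact ⟨g, hg⟩
    refine ⟨y, Subgroup.subset_closure ⟨_, _, hy⟩, ?_⟩
    unfold Matched
    rw [hx, hy]
    ext i j
    exact xMat_match h F r t i j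
  | one => exact ⟨1, one_mem _, by simp [Matched, resI_one, resQ_one, Matrix.submatrix_one_equiv]⟩
  | mul x y hx hy ihx ihy =>
    obtain ⟨b, hb, hxb⟩ := ihx
    obtain ⟨b', hb', hyb⟩ := ihy
    exact ⟨b * b', mul_mem hb hb', matched_mul h F hx hb' hxb hyb⟩
  | inv x hx ih =>
    obtain ⟨b, hb, hxb⟩ := ih
    refine ⟨b⁻¹, inv_mem hb, ?_⟩
    have e1 := resQ_mul (S := S) F (mem_group_triangular h F (inv_mem hx)) (N := (x : Matrix D.Idx D.Idx F))
    rw [← Units.val_mul, inv_mul_cancel, Units.val_one, resQ_one] at e1
    have e2 := resI_mul (S := S) F (mem_group_triangular h F (inv_mem hb)) (M := (b : Matrix D.Idx D.Idx F))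
    rw [← Units.val_mul, mul_inv_cancel, Units.val_one, resI_one] at e2
    have e3 := Matrix.submatrix_mul_equiv (resI (S := S) F (b : Matrix D.Idx D.Idx F))
      (resI (S := S) F ((b⁻¹ : GL D.Idx F) : Matrix D.Idx D.Idx F)) (matchEquiv h) (matchEquiv h) (matchEquiv h)
    rw [← hxb, ← e2, Matrix.submatrix_one_equiv] at e3
    exact left_inv_eq_right_inv e1.symm e3

include h in
theorem eq_of_resI_eq [CharP F S.p]
    (faithI : ∀ g ∈ D.group F, resI (S := S) F (g : Matrix D.Idx D.Idx F) = 1 → g = 1)
    {b b' : GL D.Idx F} (hb : b ∈ D.group F) (hb' : b' ∈ D.group F)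
    (e : resI (S := S) F (b : Matrix D.Idx D.Idx F) = resI (S := S) F (b' : Matrix D.Idx D.Idx F)) :
    b = b' := by
  have h1 := faithI (b⁻¹ * b') (mul_mem (inv_mem hb) hb') ?_
  · exact inv_mul_eq_one.1 h1
  · rw [Units.val_mul, resI_mul F (mem_group_triangular h F hb'), ← e,
      ← resI_mul F (mem_group_triangular h F hb), ← Units.val_mul, inv_mul_cancel, Units.val_one, resI_one]

theorem matched_unique [CharP F S.p]
    (faithI : ∀ g ∈ D.group F, resI (S := S) F (g : Matrix D.Idx D.Idx F) = 1 → g = 1)
    {a b b' : GL D.Idx F} (hb : b ∈ D.group F) (hb' : b' ∈ D.group F) (h1 : Matched h F a b)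
    (h2 : Matched h F a b') : b = b' := by
  refine eq_of_resI_eq h F faithI hb hb' ?_
  have := h1.symm.trans h2
  ext i j
  have e := congrFun (congrFun this ((matchEquiv h).symm i)) ((matchEquiv h).symm j)
  simpa using e

/-- The exceptional symmetry as an endomorphism, given faithfulness on the invariant coordinates. -/
noncomputable def endGroup [CharP F S.p]
    (faithI : ∀ g ∈ D.group F, resI (S := S) F (g : Matrix D.Idx D.Idx F) = 1 → g = 1)
    (hunit : ∀ (r : Fin D.nroots) (t : F), IsUnit (D.xMat F r t)) :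
    ↥(D.group F) →* ↥(D.group F) where
  toFun a := ⟨(exists_matched h F hunit a.2).choose, (exists_matched h F hunit a.2).choose_spec.1⟩
  map_one' := Subtype.ext (matched_unique h F faithI (exists_matched h F hunit (one_mem _)).choose_spec.1
    (one_mem _) (exists_matched h F hunit (one_mem _)).choose_spec.2
    (by simp [Matched, resI_one, resQ_one, Matrix.submatrix_one_equiv]))
  map_mul' a b := Subtype.ext (matched_unique h F faithI (exists_matched h F hunit (a * b).2).choose_spec.1
    (mul_mem (exists_matched h F hunit a.2).choose_spec.1 (exists_matched h F hunit b.2).choose_spec.1)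
    (exists_matched h F hunit (a * b).2).choose_spec.2
    (matched_mul h F a.2 (exists_matched h F hunit b.2).choose_spec.1
      (exists_matched h F hunit a.2).choose_spec.2 (exists_matched h F hunit b.2).choose_spec.2))

theorem endGroup_x [CharP F S.p]
    (faithI : ∀ g ∈ D.group F, resI (S := S) F (g : Matrix D.Idx D.Idx F) = 1 → g = 1)
    (hunit : ∀ (r : Fin D.nroots) (t : F), IsUnit (D.xMat F r t)) (g : ↥(D.group F)) (r : ℕ) (t : F)
    (hr : r < D.nroots) (hg : ((g : GL D.Idx F) : Matrix D.Idx D.Idx F) = D.x F r t) :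
    ((endGroup h F faithI hunit g : GL D.Idx F) : Matrix D.Idx D.Idx F) = D.x F (S.root r) (t ^ S.ex r) := by
  simp only [ChevalleyDatum.x, dif_pos hr] at hg
  simp only [ChevalleyDatum.x, dif_pos ((of_check h).2.2 r hr).1]
  obtain ⟨y, hy⟩ := hunit ⟨S.root r, ((of_check h).2.2 r hr).1⟩ (t ^ S.ex r)
  have hmem : y ∈ D.group F := Subgroup.subset_closure ⟨_, _, hy⟩
  have hm : Matched h F (g : GL D.Idx F) y := by
    unfold Matched
    rw [hg, hy]
    ext i j
    exact xMat_match h F ⟨r, hr⟩ t i j
  have := matched_unique h F faithI (exists_matched h F hunit g.2).choose_spec.1 hmem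
    (exists_matched h F hunit g.2).choose_spec.2 hm
  rw [← hy, ← this]
  rfl

theorem endGroup_injective [CharP F S.p]
    (faithI : ∀ g ∈ D.group F, resI (S := S) F (g : Matrix D.Idx D.Idx F) = 1 → g = 1)
    (faithQ : ∀ g ∈ D.group F, resQ (S := S) F (g : Matrix D.Idx D.Idx F) = 1 → g = 1)
    (hunit : ∀ (r : Fin D.nroots) (t : F), IsUnit (D.xMat F r t)) :
    Function.Injective (endGroup h F faithI hunit) := by
  rw [injective_iff_map_eq_one]
  intro a ha
  apply Subtype.ext
  refine faithQ a a.2 ?_
  have h1 := (exists_matched h F hunit a.2).choose_spec.2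
  rw [show (exists_matched h F hunit a.2).choose = 1 from congrArg Subtype.val ha] at h1
  rw [h1]
  simp [resI_one, Matrix.submatrix_one_equiv]

theorem endGroup_surjective [CharP F S.p]
    (faithI : ∀ g ∈ D.group F, resI (S := S) F (g : Matrix D.Idx D.Idx F) = 1 → g = 1)
    (hunit : ∀ (r : Fin D.nroots) (t : F), IsUnit (D.xMat F r t))
    (hperf : ∀ x : F, ∃ y : F, y ^ S.p = x) :
    Function.Surjective (endGroup h F faithI hunit) := by
  rw [← MonoidHom.range_eq_top, eq_top_iff]
  rintro ⟨g, hg⟩ -
  induction hg using Subgroup.closure_induction with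
  | mem x hx =>
    obtain ⟨r, t, hx⟩ := hx
    obtain ⟨-, hlt, hinv, -⟩ := (of_check h).2.2 r r.2
    obtain ⟨y, hy⟩ : ∃ y : F, y ^ S.ex (S.rootsInv.getD r.val 0) = t := by
      rcases ((of_check h).2.2 _ hlt).2.2.2.1 with e | e <;> rw [e]
      · exact ⟨t, pow_one t⟩
      · exact hperf t
    obtain ⟨a, ha⟩ := hunit ⟨_, hlt⟩ y
    refine ⟨⟨a, Subgroup.subset_closure ⟨_, _, ha⟩⟩, Subtype.ext (Units.ext ?_)⟩
    rw [endGroup_x h F faithI hunit _ (S.rootsInv.getD r.val 0) y hlt
      (by simp only [ChevalleyDatum.x, dif_pos hlt]; exact ha), hinv, hy, hx]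
    simp only [ChevalleyDatum.x, dif_pos r.2, Fin.eta]
  | one => exact one_mem _
  | mul x y hx hy ihx ihy => exact mul_mem ihx ihy
  | inv x hx ih => exact inv_mem ih

end SubData

end CfsgLib.Twisted
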