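import Cfsg.Agent.Lib.ChevStr.Derived
import Cfsg.Agent.Lib.Twisted.Subquotient

/-!
The shape of monomial elements, and faithfulness of the restriction of a Chevalley group to
coordinates containing enough root vectors.
-/

set_option autoImplicit false

namespace CfsgLib.ChevStr

open Cfsg.Lie
open scoped MatrixGroups

namespace ChevCore

variable {D : ChevalleyDatum} {F : Type*} [Field F] (C : ChevCore D F)

/-- The matrix only joins coroot coordinates among themselves and `e_s` to `e_{w s}`. -/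
def Shaped (_C : ChevCore D F) (n : Matrix D.Idx D.Idx F) (w : Equiv.Perm (Fin D.nroots)) : Prop :=
  ∀ a b : D.Idx, n a b ≠ 0 →
    (∃ j j', a = Sum.inl j' ∧ b = Sum.inl j) ∨ ∃ s, a = Sum.inr (w s) ∧ b = Sum.inr s

theorem Shaped.mul {n m : Matrix D.Idx D.Idx F} {v w : Equiv.Perm (Fin D.nroots)}
    (hn : C.Shaped n v) (hm : C.Shaped m w) : C.Shaped (n * m) (v * w) := by
  intro a b hab
  rw [Matrix.mul_apply] at hab
  obtain ⟨c, -, hc⟩ := Finset.exists_ne_zero_of_sum_ne_zero hab
  obtain ⟨h1, h2⟩ := mul_ne_zero_iff.1 hc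
  rcases hm c b h2 with ⟨j, j', rfl, rfl⟩ | ⟨s, rfl, rfl⟩
  · rcases hn a _ h1 with ⟨i, i', rfl, hi⟩ | ⟨u, -, hu⟩
    · exact Or.inl ⟨j, i', rfl, rfl⟩
    · simp at hu
  · rcases hn a _ h1 with ⟨i, i', -, hi⟩ | ⟨u, rfl, hu⟩
    · simp at hi
    · exact Or.inr ⟨s, by rw [Equiv.Perm.mul_apply, Sum.inr_injective hu], rfl⟩

theorem shaped_torus (c : Fin D.rank → Fˣ) :
    C.Shaped (C.R.torus c : Matrix D.Idx D.Idx F) 1 := by
  intro a b hab
  obtain rfl : a = b := not_not.1 fun h => hab (C.apply_torus_of_ne c h)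
  rcases a with i | s
  · exact Or.inl ⟨i, i, rfl, rfl⟩
  · exact Or.inr ⟨s, rfl, rfl⟩

theorem shaped_nS (i : Fin D.rank) :
    C.Shaped (C.nS i : Matrix D.Idx D.Idx F) (C.hR.sPerm i) := by
  intro a b hab
  rw [C.coe_nS] at hab
  rcases C.n_shape i a b hab with h | ⟨s, s', rfl, rfl, rfl⟩
  · exact Or.inl h
  · exact Or.inr ⟨s, rfl, rfl⟩

theorem exists_shaped {n : GL D.Idx F} (hn : n ∈ D.monomialSubgroup F) :
    ∃ w, C.Moves n w ∧ C.Shaped (n : Matrix D.Idx D.Idx F) w := by
  rw [C.monomialSubgroup_eq, ← Subgroup.closure_eq (C.R.torus (F := F)).range,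
    ← Subgroup.closure_union] at hn
  refine Subgroup.closure_induction_left
    (p := fun n _ => ∃ w, C.Moves n w ∧ C.Shaped (n : Matrix D.Idx D.Idx F) w)
    ⟨1, Acts.moves C C.acts_one, ?_⟩ ?_ ?_ hn
  · simpa using C.shaped_torus 1
  · rintro x (⟨c, rfl⟩ | ⟨i, rfl⟩) y - ⟨w, hw, hs⟩
    · exact ⟨1 * w, Moves.mul C (C.moves_torus c) hw, by
        rw [Units.val_mul]; exact Shaped.mul C (C.shaped_torus c) hs⟩
    · exact ⟨C.hR.sPerm i * w, Moves.mul C (Acts.moves C (C.acts_nS i)) hw, by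
        rw [Units.val_mul]; exact Shaped.mul C (C.shaped_nS i) hs⟩
  · rintro x (⟨c, rfl⟩ | ⟨i, rfl⟩) y - ⟨w, hw, hs⟩
    · rw [← map_inv]
      exact ⟨1 * w, Moves.mul C (C.moves_torus _) hw, by
        rw [Units.val_mul]; exact Shaped.mul C (C.shaped_torus _) hs⟩
    · obtain ⟨c, hc⟩ := C.nS_inv i
      rw [hc]
      exact ⟨1 * C.hR.sPerm i * w,
        Moves.mul C (Moves.mul C (C.moves_torus c) (Acts.moves C (C.acts_nS i))) hw, by
        rw [Units.val_mul, Units.val_mul]
        exact Shaped.mul C (Shaped.mul C (C.shaped_torus c) (C.shaped_nS i)) hs⟩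

include C in
/-- Elements of `B` have non-zero diagonal entries. -/
theorem borel_apply_self_ne_zero {g : GL D.Idx F} (hg : g ∈ D.borelSubgroup F) (a : D.Idx) :
    (g : Matrix D.Idx D.Idx F) a a ≠ 0 := by
  obtain ⟨u, hu, c, rfl⟩ := C.mem_borel.1 hg
  rw [Units.val_mul, C.R.coe_torus, Matrix.mul_diagonal,
    uniGroup_apply_self (by simp [C.R.mem_posSet]) (C.R.posUnipotent_le_upperUni F hu), one_mul]
  exact Units.ne_zero _

/-- The upper triangular block relation. -/
theorem borel_mul_shaped {b v : GL D.Idx F} {n : GL D.Idx F} {w : Equiv.Perm (Fin D.nroots)}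
    (hb : b ∈ D.borelSubgroup F) (hv : v ∈ D.borelSubgroup F)
    (hn : C.Shaped (n : Matrix D.Idx D.Idx F) w) (S : Set D.Idx)
    (hS : ∀ a ∈ S, ∀ c ∈ S, (n : Matrix D.Idx D.Idx F) a c =
      (↑(b * v) : Matrix D.Idx D.Idx F) a c)
    (s : Fin D.nroots) (hs : Sum.inr s ∈ S) : w s = s := by
  have h := C.borel_apply_self_ne_zero (mul_mem hb hv) (Sum.inr s)
  rw [← hS _ hs _ hs] at h
  rcases hn _ _ h with ⟨j, j', h1, -⟩ | ⟨u, h1, h2⟩
  · simp at h1
  · obtain rfl := Sum.inr_injective h2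
    exact (Sum.inr_injective h1).symm

include C in
/-- A normal subgroup of the group inside `B` is trivial. -/
theorem eq_one_of_forall_conj_mem_borel {g : GL D.Idx F} (hg : g ∈ D.group F)
    (h : ∀ x ∈ D.group F, x * g * x⁻¹ ∈ D.borelSubgroup F) : g = 1 := by
  have hc : (⟨g, hg⟩ : ↥(D.group F)) ∈
      ((D.borelSubgroup F).subgroupOf (D.group F)).normalCore := fun x => h x x.2
  rw [C.normalCore_borel_eq_bot, Subgroup.mem_bot] at hc
  exact congrArg Subtype.val hc

end ChevCore

end CfsgLib.ChevStr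

namespace CfsgLib.Twisted

open Cfsg.Lie CfsgLib.ChevStr
open scoped MatrixGroups

/-- Every root has a non-zero multiple that is a sum of two roots of the given set. -/
def spanCheck (D : ChevalleyDatum) (α : ℕ → Fin D.rank → ℤ) (good : ℕ → Bool) : Bool :=
  (List.range D.nroots).all fun r => good r || (List.range D.nroots).any fun a =>
    good a && (List.range D.nroots).any fun b => good b &&
      [1, 2, 3].any fun k : ℕ => (List.finRange D.rank).all fun i =>
        decide ((k : ℤ) * α r i = α a i + α b i)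

theorem eq_one_of_fix {D : ChevalleyDatum} {R : RootData D} (hR : ReflData R) {good : ℕ → Bool}
    (h : spanCheck D R.α good = true) {w : Equiv.Perm (Fin D.nroots)} (hw : w ∈ hR.weyl)
    (hfix : ∀ s : Fin D.nroots, good s = true → w s = s) : w = 1 := by
  simp only [spanCheck, List.all_eq_true, List.any_eq_true, List.mem_range, Bool.and_eq_true,
    Bool.or_eq_true, List.mem_finRange, true_implies, decide_eq_true_eq] at h
  ext r
  rcases h r r.2 with hr | ⟨a, ha, hga, b, hb, hgb, k, hk, hkr⟩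
  · rw [hfix r hr, Equiv.Perm.one_apply]
  · have hk0 : (k : ℤ) ≠ 0 := by
      simp only [List.mem_cons, List.not_mem_nil, or_false] at hk
      omega
    have e : R.α r = (k : ℤ) • R.α r - (k - 1 : ℤ) • R.α r := by module
    have e1 : (k : ℤ) • R.α r = (1 : ℤ) • R.α a + (1 : ℤ) • R.α b := by
      funext i
      simpa using hkr i
    have e2 : (k : ℤ) • R.α (w r) = R.α a + R.α b := by
      rw [hR.α_weyl w hw r, Finset.smul_sum]
      have ea := hR.α_weyl w hw ⟨a, ha⟩
      have eb := hR.α_weyl w hw ⟨b, hb⟩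
      rw [hfix ⟨a, ha⟩ hga] at ea
      rw [hfix ⟨b, hb⟩ hgb] at eb
      rw [ea, eb, ← Finset.sum_add_distrib]
      refine Finset.sum_congr rfl fun j _ => ?_
      rw [smul_smul, ← add_smul]
      exact congrArg (· • _) (hkr j)
    rw [one_smul, one_smul] at e1
    have e3 : R.α (w r) = R.α r := smul_right_injective (Fin D.rank → ℤ) hk0 (e2.trans e1.symm)
    rw [Equiv.Perm.one_apply]
    exact congrArg Fin.val (Fin.ext (R.α_inj (w r).2 r.2 e3))

namespace SubData

variable {S : SubData} {D : ChevalleyDatum} {F : Type*} [Field F] (C : ChevCore D F)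

/-- Roots whose coordinate is invariant. -/
def goodI (S : SubData) (D : ChevalleyDatum) (r : ℕ) : Bool := S.isI (D.rank + r)

/-- Roots whose coordinate is not invariant. -/
def goodQ (S : SubData) (D : ChevalleyDatum) (r : ℕ) : Bool := !S.isI (D.rank + r)

theorem faith_aux (good : ℕ → Bool)
    (hspan : spanCheck D C.R.α good = true) (P : D.Idx → Prop)
    (hP : ∀ r : Fin D.nroots, good r = true → P (Sum.inr r))
    (hres : ∀ x y : GL D.Idx F, x ∈ D.group F → y ∈ D.group F →
      (∀ a c, P a → P c → (x : Matrix D.Idx D.Idx F) a c = (1 : Matrix D.Idx D.Idx F) a c) →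
      ∀ a c, P a → P c → (↑(y * x * y⁻¹) : Matrix D.Idx D.Idx F) a c =
        (1 : Matrix D.Idx D.Idx F) a c)
    (hprod : ∀ x y z : GL D.Idx F, x ∈ D.group F → y ∈ D.group F → z ∈ D.group F →
      (∀ a c, P a → P c → (↑(x * y * z) : Matrix D.Idx D.Idx F) a c = (1 : Matrix D.Idx D.Idx F) a c) →
      ∀ a c, P a → P c → (y : Matrix D.Idx D.Idx F) a c = (↑(x⁻¹ * z⁻¹) : Matrix D.Idx D.Idx F) a c)
    {g : GL D.Idx F} (hg : g ∈ D.group F)
    (h1 : ∀ a c, P a → P c → (g : Matrix D.Idx D.Idx F) a c = (1 : Matrix D.Idx D.Idx F) a c) :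
    g = 1 := by
  refine C.eq_one_of_forall_conj_mem_borel hg fun x hx => ?_
  have hy : x * g * x⁻¹ ∈ D.group F := mul_mem (mul_mem hx hg) (inv_mem hx)
  have h2 := hres g x hg hx h1
  generalize x * g * x⁻¹ = y at hy h2 ⊢
  obtain ⟨w, hw, b, hb, n, hn, hmv, u, hu, rfl⟩ := C.normalForm_exists hy
  obtain ⟨w', hw', hsh⟩ := C.exists_shaped hn
  obtain rfl : w' = w := ChevCore.Moves.unique C hw' hmv
  have hu' : u ∈ D.borelSubgroup F := C.Ucl_invRoots_le _ hu
  have heq := hprod b n u (C.borel_le_group hb) (C.monomial_le_group hn) (C.borel_le_group hu') h2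
  have hw1 : w' = 1 := by
    refine eq_one_of_fix C.hR hspan hw fun s hs => ?_
    exact C.borel_mul_shaped (inv_mem hb) (inv_mem hu') hsh {a | P a}
      (fun a ha c hc => heq a c ha hc) s (hP s hs)
  subst hw1
  exact mul_mem (mul_mem hb (le_sup_right (a := D.posUnipotent F) (C.mem_diagonal_of_moves_one hn hmv))) hu'

/-- Faithfulness on the invariant coordinates. -/
theorem faithI (h : S.check D = true) [CharP F S.p] (hspan : spanCheck D C.R.α (goodI S D) = true)
    (g : GL D.Idx F) (hg : g ∈ D.group F)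
    (h1 : resI (S := S) F (g : Matrix D.Idx D.Idx F) = 1) : g = 1 := by
  have hmul : ∀ x y : GL D.Idx F, y ∈ D.group F →
      resI (S := S) F (↑(x * y) : Matrix D.Idx D.Idx F) =
        resI (S := S) F (x : Matrix D.Idx D.Idx F) * resI (S := S) F (y : Matrix D.Idx D.Idx F) := fun x y hy => by
    rw [Units.val_mul, resI_mul F (mem_group_triangular h F hy)]
  have hone : ∀ M : Matrix D.Idx D.Idx F, resI (S := S) F M = 1 ↔
      ∀ a c, S.isI (code D a) = true → S.isI (code D c) = true → M a c = (1 : Matrix D.Idx D.Idx F) a c := by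
    intro M
    rw [← resI_one (S := S) F]
    exact ⟨fun e a c ha hc => congrFun (congrFun e ⟨a, ha⟩) ⟨c, hc⟩,
      fun e => by ext ⟨a, ha⟩ ⟨c, hc⟩; exact e a c ha hc⟩
  refine faith_aux C _ hspan (fun a => S.isI (code D a) = true) (fun r hr => hr) ?_ ?_ hg
    ((hone _).1 h1)
  · intro x y hx hy e
    rw [← hone]
    rw [hmul _ _ (inv_mem hy), hmul _ _ hx, (hone _).2 e, mul_one, ← hmul _ _ (inv_mem hy),
      mul_inv_cancel, Units.val_one, resI_one]
  · intro x y z hx hy hz e
    have e' := (hone _).2 e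
    rw [hmul _ _ hz, hmul _ _ hy] at e'
    have hy' : resI (S := S) F (y : Matrix D.Idx D.Idx F) =
        resI (S := S) F (↑(x⁻¹ * z⁻¹) : Matrix D.Idx D.Idx F) := by
      have e1 : resI (S := S) F (↑(x⁻¹) : Matrix D.Idx D.Idx F) * resI (S := S) F (x : Matrix D.Idx D.Idx F) = 1 := by
        rw [← hmul _ _ hx, inv_mul_cancel, Units.val_one, resI_one]
      have e2 : resI (S := S) F (z : Matrix D.Idx D.Idx F) * resI (S := S) F (↑(z⁻¹) : Matrix D.Idx D.Idx F) = 1 := by
        rw [← hmul _ _ (inv_mem hz), mul_inv_cancel, Units.val_one, resI_one]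
      rw [hmul _ _ (inv_mem hz)]
      generalize resI (S := S) F (↑(x⁻¹) : Matrix D.Idx D.Idx F) = X' at e1 ⊢
      generalize resI (S := S) F (↑(z⁻¹) : Matrix D.Idx D.Idx F) = Z' at e2 ⊢
      generalize resI (S := S) F (x : Matrix D.Idx D.Idx F) = X at e1 e'
      generalize resI (S := S) F (z : Matrix D.Idx D.Idx F) = Z at e2 e'
      generalize resI (S := S) F (y : Matrix D.Idx D.Idx F) = Y at e' ⊢
      calc Y = (X' * X) * Y * (Z * Z') := by rw [e1, e2, one_mul, mul_one]
        _ = X' * (X * Y * Z) * Z' := by simp only [Matrix.mul_assoc]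
        _ = X' * Z' := by rw [e', Matrix.mul_one]
    exact fun a c ha hc => congrFun (congrFun hy' ⟨a, ha⟩) ⟨c, hc⟩

/-- Faithfulness on the other coordinates. -/
theorem faithQ (h : S.check D = true) [CharP F S.p] (hspan : spanCheck D C.R.α (goodQ S D) = true)
    (g : GL D.Idx F) (hg : g ∈ D.group F)
    (h1 : resQ (S := S) F (g : Matrix D.Idx D.Idx F) = 1) : g = 1 := by
  have hmul : ∀ x y : GL D.Idx F, x ∈ D.group F →
      resQ (S := S) F (↑(x * y) : Matrix D.Idx D.Idx F) =
        resQ (S := S) F (x : Matrix D.Idx D.Idx F) * resQ (S := S) F (y : Matrix D.Idx D.Idx F) := fun x y hx => by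
    rw [Units.val_mul, resQ_mul F (mem_group_triangular h F hx)]
  have hone : ∀ M : Matrix D.Idx D.Idx F, resQ (S := S) F M = 1 ↔
      ∀ a c, S.isI (code D a) = false → S.isI (code D c) = false → M a c = (1 : Matrix D.Idx D.Idx F) a c := by
    intro M
    rw [← resQ_one (S := S) F]
    exact ⟨fun e a c ha hc => congrFun (congrFun e ⟨a, ha⟩) ⟨c, hc⟩,
      fun e => by ext ⟨a, ha⟩ ⟨c, hc⟩; exact e a c ha hc⟩
  refine faith_aux C _ hspan (fun a => S.isI (code D a) = false)
    (fun r hr => by simpa [goodQ, code] using hr) ?_ ?_ hg ((hone _).1 h1)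
  · intro x y hx hy e
    rw [← hone]
    rw [hmul _ _ (mul_mem hy hx), hmul _ _ hy, (hone _).2 e, mul_one, ← hmul _ _ hy,
      mul_inv_cancel, Units.val_one, resQ_one]
  · intro x y z hx hy hz e
    have e' := (hone _).2 e
    rw [hmul _ _ (mul_mem hx hy), hmul _ _ hx] at e'
    have hy' : resQ (S := S) F (y : Matrix D.Idx D.Idx F) =
        resQ (S := S) F (↑(x⁻¹ * z⁻¹) : Matrix D.Idx D.Idx F) := by
      have e1 : resQ (S := S) F (↑(x⁻¹) : Matrix D.Idx D.Idx F) * resQ (S := S) F (x : Matrix D.Idx D.Idx F) = 1 := by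
        rw [← hmul _ _ (inv_mem hx), inv_mul_cancel, Units.val_one, resQ_one]
      have e2 : resQ (S := S) F (z : Matrix D.Idx D.Idx F) * resQ (S := S) F (↑(z⁻¹) : Matrix D.Idx D.Idx F) = 1 := by
        rw [← hmul _ _ hz, mul_inv_cancel, Units.val_one, resQ_one]
      rw [hmul _ _ (inv_mem hx)]
      generalize resQ (S := S) F (↑(x⁻¹) : Matrix D.Idx D.Idx F) = X' at e1 ⊢
      generalize resQ (S := S) F (↑(z⁻¹) : Matrix D.Idx D.Idx F) = Z' at e2 ⊢
      generalize resQ (S := S) F (x : Matrix D.Idx D.Idx F) = X at e1 e'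
      generalize resQ (S := S) F (z : Matrix D.Idx D.Idx F) = Z at e2 e'
      generalize resQ (S := S) F (y : Matrix D.Idx D.Idx F) = Y at e' ⊢
      calc Y = (X' * X) * Y * (Z * Z') := by rw [e1, e2, one_mul, mul_one]
        _ = X' * (X * Y * Z) * Z' := by simp only [Matrix.mul_assoc]
        _ = X' * Z' := by rw [e', Matrix.mul_one]
    exact fun a c ha hc => congrFun (congrFun hy' ⟨a, ha⟩) ⟨c, hc⟩

end SubData

end CfsgLib.Twisted
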