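import Cfsg.Agent.Lib.Twisted.Frob

/-!
One level of a filtration of a unipotent group by closed sets of roots: the coordinate at a root,
and the fixed points of an endomorphism when the new roots form one orbit.
-/

set_option autoImplicit false

namespace CfsgLib.ChevStr.ChevCore

open Cfsg.Lie
open scoped MatrixGroups

variable {D : ChevalleyDatum} {F : Type*} [Field F] (C : ChevCore D F)

/-- `S'` absorbs all combinations of `S`. -/
structure Level (S S' : Set ℕ) : Prop where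
  pos : ∀ r ∈ S, D.IsPosRoot r
  sub : S' ⊆ S
  combo : ∀ r ∈ S, ∀ s ∈ S, ∀ k, C.R.IsCombo r s k → k ∈ S'

variable {C} {S S' : Set ℕ}

theorem Level.closed_sdiff (h : C.Level S S') {X : Set ℕ} (hX : ∀ x ∈ X, x ∉ S') :
    C.R.IsClosed (S \ X) :=
  ⟨fun r hr => h.pos r hr.1, fun r hr s hs k hk =>
    ⟨h.sub (h.combo r hr.1 s hs.1 k hk), fun hkX => hX k hkX (h.combo r hr.1 s hs.1 k hk)⟩⟩

theorem Level.closed (h : C.Level S S') : C.R.IsClosed S :=
  ⟨h.pos, fun r hr s hs k hk => h.sub (h.combo r hr s hs k hk)⟩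

variable (C)

theorem word_single : ∀ {L : List ℕ}, L.Nodup → ∀ {r : ℕ}, r ∈ L → ∀ t : F,
    C.word L (fun k => if k = r then t else 0) = C.xGL r t
  | k :: L, hnd, r, hr, t => by
    obtain ⟨hk, hL⟩ := List.nodup_cons.1 hnd
    rw [C.word_cons]
    by_cases hkr : k = r
    · subst hkr
      rw [if_pos rfl, show C.word L (fun j => if j = k then t else 0) = 1 from ?_, mul_one]
      rw [C.word_congr (u := fun _ => 0) fun j hj => if_neg (fun e : j = k => hk (e ▸ hj))]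
      clear hk hnd hr hL
      induction L with
      | nil => rfl
      | cons a L ih => rw [C.word_cons, ih, C.xGL_zero, one_mul]
    · rw [if_neg hkr, C.xGL_zero, one_mul]
      exact word_single hL ((List.mem_cons.1 hr).resolve_left fun e => hkr e.symm) t

theorem word_filter (p : ℕ → Bool) (u : ℕ → F) : ∀ L : List ℕ,
    C.word (L.filter p) u = C.word L (fun k => if p k then u k else 0)
  | [] => rfl
  | k :: L => by
    cases hp : p k
    · rw [List.filter_cons_of_neg (by simp [hp]), C.word_cons, word_filter p u L]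
      simp [hp, C.xGL_zero]
    · rw [List.filter_cons_of_pos hp, C.word_cons, C.word_cons, word_filter p u L]
      simp [hp]

theorem xGL_mem_Ucl_diff (hS : C.R.IsClosed S) {r : ℕ} (hr : r ∈ S) (hSr : C.R.IsClosed (S \ {r}))
    {t : F} (h : C.xGL r t ∈ C.Ucl (S \ {r})) : t = 0 := by
  classical
  set L := C.rootList S
  have hL : {k | k ∈ L} = S := C.setOf_mem_rootList fun k hk => (hS.1 k hk).1
  have hL' : {k | k ∈ L.filter fun k => decide (k ≠ r)} = S \ {r} := by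
    ext k
    rw [Set.mem_ofPred_eq, List.mem_filter, decide_eq_true_eq, Set.mem_sdiff, Set.mem_singleton_iff,
      ← hL, Set.mem_ofPred_eq]
  obtain ⟨u, hu⟩ := C.exists_word (L := L.filter fun k => decide (k ≠ r))
    ((sorted_filter _).filter _) (by rwa [hL']) (C.xGL r t) (by rwa [hL'])
  rw [word_filter, ← C.word_single (L := L) ((sorted_filter _).imp ne_of_lt) (hL.symm ▸ hr :) t] at hu
  have hpos : ∀ k ∈ L, D.IsPosRoot k := fun k hk => hS.1 k (hL ▸ hk)
  simpa using C.word_injective (sorted_filter _) hpos _ _ hu r (hL.symm ▸ hr :)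

theorem exists_coord (h : C.Level S S') {r : ℕ} (hr : r ∈ S) (hr' : r ∉ S') {g : GL D.Idx F}
    (hg : g ∈ C.Ucl S) : ∃! t : F, (C.xGL r t)⁻¹ * g ∈ C.Ucl (S \ {r}) := by
  have hn : D.rootSubgroup F r ≤ Subgroup.normalizer (C.Ucl (S \ {r}) : Set (GL D.Idx F)) := by
    intro x hx
    obtain ⟨t, rfl⟩ := C.mem_rootSubgroup.1 hx
    exact C.pos_normalizes (S := S \ {r}) (h.pos r hr) (fun s hs => h.pos s hs.1)
      (fun s hs k hk => Set.mem_sdiff_singleton.2 ⟨h.sub (h.combo r hr s hs.1 k hk),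
        fun e => hr' (e ▸ h.combo r hr s hs.1 k hk)⟩) t
  have hle : C.Ucl S ≤ D.rootSubgroup F r ⊔ C.Ucl (S \ {r}) := by
    refine C.Ucl_le fun k hk t => ?_
    by_cases hkr : k = r
    · subst hkr; exact le_sup_left (b := C.Ucl _) (C.mem_rootSubgroup.2 ⟨t, rfl⟩)
    · exact le_sup_right (a := D.rootSubgroup F r) (C.xGL_mem_Ucl (S := S \ {r}) ⟨hk, hkr⟩ t)
  obtain ⟨x, hx, y, hy, rfl⟩ := (Set.ext_iff.1
    (Subgroup.coe_mul_of_left_le_normalizer_right _ _ hn) g).1 (hle hg)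
  obtain ⟨t, rfl⟩ := C.mem_rootSubgroup.1 hx
  have hy1 : (C.xGL r t)⁻¹ * (C.xGL r t * y) ∈ C.Ucl (S \ {r}) := by rwa [inv_mul_cancel_left]
  refine ⟨t, hy1, fun u hu => ?_⟩
  have hc : C.R.IsClosed (S \ {r}) := h.closed_sdiff fun x hx => by
    rw [Set.mem_singleton_iff] at hx; exact hx ▸ hr'
  refine sub_eq_zero.1 (C.xGL_mem_Ucl_diff h.closed hr hc ?_)
  have := mul_mem hy1 (inv_mem hu)
  rw [sub_eq_neg_add, C.xGL_add, ← C.xGL_inv]
  simpa [mul_assoc] using this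

open Classical in
/-- The coordinate of `g` at `r` in the subgroup of `S`. -/
noncomputable def coord (S : Set ℕ) (r : ℕ) (g : GL D.Idx F) : F :=
  if h : ∃ t : F, (C.xGL r t)⁻¹ * g ∈ C.Ucl (S \ {r}) then h.choose else 0

theorem coord_eq (h : C.Level S S') {r : ℕ} (hr : r ∈ S) (hr' : r ∉ S') {g : GL D.Idx F}
    (hg : g ∈ C.Ucl S) {t : F} (ht : (C.xGL r t)⁻¹ * g ∈ C.Ucl (S \ {r})) : C.coord S r g = t := by
  obtain ⟨u, -, huniq⟩ := C.exists_coord h hr hr' hg
  have he : ∃ t : F, (C.xGL r t)⁻¹ * g ∈ C.Ucl (S \ {r}) := ⟨t, ht⟩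
  rw [coord, dif_pos he]
  exact (huniq _ he.choose_spec).trans (huniq t ht).symm

theorem coord_spec (h : C.Level S S') {r : ℕ} (hr : r ∈ S) (hr' : r ∉ S') {g : GL D.Idx F}
    (hg : g ∈ C.Ucl S) : (C.xGL r (C.coord S r g))⁻¹ * g ∈ C.Ucl (S \ {r}) := by
  obtain ⟨u, hu, -⟩ := C.exists_coord h hr hr' hg
  rwa [C.coord_eq h hr hr' hg hu]

theorem coord_mul (h : C.Level S S') {r : ℕ} (hr : r ∈ S) (hr' : r ∉ S') {a b : GL D.Idx F}
    (ha : a ∈ C.Ucl S) (hb : b ∈ C.Ucl S) :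
    C.coord S r (a * b) = C.coord S r a + C.coord S r b := by
  refine C.coord_eq h hr hr' (mul_mem ha hb) ?_
  have sa := C.coord_spec h hr hr' ha
  have sb := C.coord_spec h hr hr' hb
  set x := C.coord S r a
  set y := C.coord S r b
  have hn : C.xGL r y ∈ Subgroup.normalizer (C.Ucl (S \ {r}) : Set (GL D.Idx F)) :=
    C.pos_normalizes (S := S \ {r}) (h.pos r hr) (fun s hs => h.pos s hs.1)
      (fun s hs k hk => Set.mem_sdiff_singleton.2 ⟨h.sub (h.combo r hr s hs.1 k hk),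
        fun e => hr' (e ▸ h.combo r hr s hs.1 k hk)⟩) y
  have h1 := (Subgroup.mem_normalizer_iff.1 (inv_mem hn) _).1 sa
  have h2 := mul_mem h1 sb
  rw [C.xGL_add]
  simpa [mul_assoc] using h2

theorem coord_xGL_self (h : C.Level S S') {r : ℕ} (hr : r ∈ S) (hr' : r ∉ S') (t : F) :
    C.coord S r (C.xGL r t) = t :=
  C.coord_eq h hr hr' (C.xGL_mem_Ucl hr t) (by rw [inv_mul_cancel]; exact one_mem _)

theorem coord_of_mem (h : C.Level S S') {r : ℕ} (hr : r ∈ S) (hr' : r ∉ S') {g : GL D.Idx F}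
    (hg : g ∈ C.Ucl (S \ {r})) : C.coord S r g = 0 :=
  C.coord_eq h hr hr' (C.Ucl_mono Set.sdiff_subset hg)
    (by rw [C.xGL_zero, inv_one, one_mul]; exact hg)

theorem coord_wordGL (h : C.Level S S') {r : ℕ} (hr : r ∈ S) (hr' : r ∉ S') :
    ∀ w : List (ℕ × F), (∀ p ∈ w, p.1 ∈ S) →
      C.coord S r (C.wordGL w) = ((w.filter fun p => decide (p.1 = r)).map Prod.snd).sum
  | [], _ => by rw [C.wordGL_nil]; exact C.coord_of_mem h hr hr' (one_mem _)
  | p :: w, hw => by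
    have hp := hw p List.mem_cons_self
    have hmem : C.wordGL w ∈ C.Ucl S := Subgroup.list_prod_mem _ fun x hx => by
      obtain ⟨q, hq, rfl⟩ := List.mem_map.1 hx
      exact C.xGL_mem_Ucl (hw q (List.mem_cons_of_mem _ hq)) _
    rw [C.wordGL_cons, C.coord_mul h hr hr' (C.xGL_mem_Ucl hp _) hmem,
      coord_wordGL h hr hr' w fun q hq => hw q (List.mem_cons_of_mem _ hq)]
    by_cases he : p.1 = r
    · rw [List.filter_cons_of_pos (by simp [he]), List.map_cons, List.sum_cons, he,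
        C.coord_xGL_self h hr hr']
    · rw [List.filter_cons_of_neg (by simp [he]),
        C.coord_of_mem h hr hr' (C.xGL_mem_Ucl (S := S \ {r}) ⟨hp, he⟩ _), zero_add]

theorem mem_Ucl_of_coord (h : C.Level S S') {g : GL D.Idx F} (hg : g ∈ C.Ucl S)
    (h0 : ∀ r ∈ S, r ∉ S' → C.coord S r g = 0) : g ∈ C.Ucl S' := by
  classical
  have hfin : (S \ S').Finite :=
    (Set.finite_lt_nat D.nroots).subset fun r hr => (h.pos r hr.1).1
  suffices ∀ X : Finset ℕ, (∀ x ∈ X, x ∈ S ∧ x ∉ S') → g ∈ C.Ucl (S \ (X : Set ℕ)) by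
    have h1 := this hfin.toFinset fun x hx => by simpa using hx
    rwa [Set.Finite.coe_toFinset, Set.sdiff_sdiff_cancel_left h.sub] at h1
  intro X
  induction X using Finset.induction_on with
  | empty => intro _; simpa using hg
  | insert a X _ ih =>
    intro hX
    obtain ⟨ha, ha'⟩ := hX a (Finset.mem_insert_self a X)
    have h1 := ih fun x hx => hX x (Finset.mem_insert_of_mem hx)
    have h2 : g ∈ C.Ucl (S \ {a}) := by
      have := C.coord_spec h ha ha' hg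
      rwa [h0 a ha ha', C.xGL_zero, inv_one, one_mul] at this
    have h3 := C.Ucl_inf (h.closed_sdiff (X := (X : Set ℕ)) fun x hx =>
        (hX x (Finset.mem_insert_of_mem hx)).2)
      (h.closed_sdiff (X := {a}) fun x hx => by rw [Set.mem_singleton_iff] at hx; exact hx ▸ ha')
      h1 h2
    have e : S \ ((insert a X : Finset ℕ) : Set ℕ) = (S \ (X : Set ℕ)) ∩ (S \ {a}) := by
      ext k; simp only [Finset.coe_insert, Set.mem_sdiff, Set.mem_insert_iff, Set.mem_inter_iff,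
        Set.mem_singleton_iff]; tauto
    rwa [e]

end CfsgLib.ChevStr.ChevCore

namespace CfsgLib.Twisted.Frob

open Cfsg.Lie CfsgLib.ChevStr
open scoped MatrixGroups

variable {D : ChevalleyDatum} {F : Type*} [Field F] {C : ChevCore D F} (φ : Frob C)
  {S S' : Set ℕ}

theorem coord_act (h : C.Level S S') (hS : φ.Stable S) (r : Fin D.nroots) (hr : (r : ℕ) ∈ S)
    (hr' : (r : ℕ) ∉ S') (hρ : (φ.ρ r : ℕ) ∉ S') {g : GL D.Idx F} (hg : g ∈ C.Ucl S) :
    C.coord S (φ.ρ r) (φ.act g) = φ.ε r * C.coord S r g ^ φ.e r := by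
  refine C.coord_eq h (hS r hr) hρ (φ.act_Ucl hS g hg) ?_
  have hG : C.Ucl S ≤ D.group F := C.Ucl_le fun k _ t => C.xGL_mem_group k t
  have hsp := C.coord_spec h hr hr' hg
  have h1 := φ.act_mem_closure (S := {g | ∃ k ∈ S \ {(r : ℕ)}, ∃ t, g = C.xGL k t})
    (T := C.Ucl (S \ {(φ.ρ r : ℕ)})) (by rintro _ ⟨k, -, t, rfl⟩; exact C.xGL_mem_group k t) (by
      rintro _ ⟨k, hk, t, rfl⟩
      have hkn : k < D.nroots := (h.pos k hk.1).1
      rw [show C.xGL k t = C.xGL (⟨k, hkn⟩ : Fin D.nroots) t from rfl, φ.act_x]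
      refine C.xGL_mem_Ucl (S := S \ {(φ.ρ r : ℕ)}) ⟨hS ⟨k, hkn⟩ hk.1, fun e => hk.2 ?_⟩ _
      exact (congrArg Fin.val (φ.ρ.injective (Fin.ext (show (φ.ρ ⟨k, hkn⟩ : ℕ) = φ.ρ r from e))) :)) _ hsp
  rw [φ.act_mul (inv_mem (C.xGL_mem_group _ _)) (hG hg), φ.act_inv (C.xGL_mem_group _ _), φ.act_x] at h1
  exact h1

/-- The fixed points in the subgroup of a set of roots. -/
noncomputable def fixU (S : Set ℕ) : Subgroup (GL D.Idx F) := C.Ucl S ⊓ φ.fixedSub

theorem coord_iterate (h : C.Level S S') (hS : φ.Stable S) (hS' : ∀ r : Fin D.nroots,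
      (r : ℕ) ∈ S → (r : ℕ) ∉ S' → (φ.ρ r : ℕ) ∉ S')
    (r : Fin D.nroots) (hr : (r : ℕ) ∈ S) (hr' : (r : ℕ) ∉ S') {g : GL D.Idx F}
    (hg : g ∈ φ.fixU S) (h0 : C.coord S r g = 0) :
    ∀ m : ℕ, ((φ.ρ ^ m) r : ℕ) ∈ S ∧ ((φ.ρ ^ m) r : ℕ) ∉ S' ∧ C.coord S ((φ.ρ ^ m) r) g = 0 := by
  intro m
  induction m with
  | zero => exact ⟨hr, hr', h0⟩
  | succ m ih =>
    obtain ⟨i1, i2, i3⟩ := ih
    rw [pow_succ', Equiv.Perm.mul_apply]
    refine ⟨hS _ i1, hS' _ i1 i2, ?_⟩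
    have e := φ.coord_act h hS _ i1 i2 (hS' _ i1 i2) (Subgroup.mem_inf.1 hg).1
    rw [(φ.mem_fixedSub.1 (Subgroup.mem_inf.1 hg).2).2, i3, zero_pow (φ.e_pos _).ne', mul_zero] at e
    exact e

/-- One orbit level: the fixed points lie in a given group of fixed points and are counted. -/
theorem level_step (h : C.Level S S') (hS : φ.Stable S) (hS' : ∀ r : Fin D.nroots,
      (r : ℕ) ∈ S → (r : ℕ) ∉ S' → (φ.ρ r : ℕ) ∉ S')
    (r : Fin D.nroots) (hr : (r : ℕ) ∈ S) (hr' : (r : ℕ) ∉ S')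
    (horb : ∀ k : Fin D.nroots, (k : ℕ) ∈ S → (k : ℕ) ∉ S' → ∃ m : ℕ, (φ.ρ ^ m) r = k)
    (P : Set F) (hP : ∀ g ∈ φ.fixU S, C.coord S r g ∈ P)
    (G1 : Subgroup (GL D.Idx F)) (hG1 : G1 ≤ φ.fixedSub)
    (hgen : ∀ t ∈ P, ∃ x ∈ C.Ucl S, x ∈ G1 ∧ C.coord S r x = t)
    (ih : φ.fixU S' ≤ G1) :
    φ.fixU S ≤ G1 ∧ Nat.card (φ.fixU S) = Nat.card P * Nat.card (φ.fixU S') := by
  have hker : ∀ g ∈ φ.fixU S, C.coord S r g = 0 → g ∈ φ.fixU S' := by
    intro g hg h0
    refine ⟨C.mem_Ucl_of_coord h (Subgroup.mem_inf.1 hg).1 fun k hk hk' => ?_, (Subgroup.mem_inf.1 hg).2⟩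
    obtain ⟨m, hm⟩ := horb ⟨k, (h.pos k hk).1⟩ hk hk'
    have := (φ.coord_iterate h hS hS' r hr hr' hg h0 m).2.2
    rwa [hm] at this
  let f : ↥(φ.fixU S) →* Multiplicative F :=
    { toFun := fun g => Multiplicative.ofAdd (C.coord S r g)
      map_one' := by
        show Multiplicative.ofAdd (C.coord S r (1 : GL D.Idx F)) = 1
        rw [C.coord_of_mem h hr hr' (one_mem _)]; rfl
      map_mul' := fun a b => by
        show Multiplicative.ofAdd (C.coord S r ((a : GL D.Idx F) * b)) = _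
        rw [C.coord_mul h hr hr' (Subgroup.mem_inf.1 a.2).1 (Subgroup.mem_inf.1 b.2).1]; rfl }
  refine ⟨fun g hg => ?_, ?_⟩
  · obtain ⟨x, hx, hx1, hxc⟩ := hgen _ (hP g hg)
    have hxf : x ∈ φ.fixU S := ⟨hx, hG1 hx1⟩
    have h0 : C.coord S r (x⁻¹ * g) = 0 := by
      have := C.coord_mul h hr hr' (inv_mem hx) hx
      rw [inv_mul_cancel, C.coord_of_mem h hr hr' (one_mem _), hxc] at this
      rw [C.coord_mul h hr hr' (inv_mem hx) (Subgroup.mem_inf.1 hg).1]
      exact this.symm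
    have := mul_mem hx1 (ih (hker _ (mul_mem (inv_mem hxf) hg) h0))
    rwa [mul_inv_cancel_left] at this
  · have hkereq : f.ker = (φ.fixU S').subgroupOf (φ.fixU S) := by
      ext g
      rw [MonoidHom.mem_ker, Subgroup.mem_subgroupOf]
      constructor
      · intro hg
        exact hker g g.2 (Multiplicative.ofAdd.injective hg)
      · intro hg
        show Multiplicative.ofAdd (C.coord S r g) = 1
        rw [C.coord_of_mem h hr hr' (C.Ucl_mono (T := S \ {(r : ℕ)}) (fun k hk => ⟨h.sub hk, fun e => hr' (e ▸ hk)⟩)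
          (Subgroup.mem_inf.1 hg).1)]
        rfl
    have hle : φ.fixU S' ≤ φ.fixU S := inf_le_inf_right _ (C.Ucl_mono h.sub)
    have hrange : Nat.card f.range = Nat.card P := by
      refine Nat.card_congr (Equiv.subtypeEquiv Multiplicative.toAdd fun x => ?_)
      constructor
      · rintro ⟨g, rfl⟩; exact hP g g.2
      · intro hx
        obtain ⟨y, hy, hy1, hyc⟩ := hgen _ hx
        exact ⟨⟨y, hy, hG1 hy1⟩, by show Multiplicative.ofAdd (C.coord S r y) = x; rw [hyc]; rfl⟩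
    rw [Subgroup.card_eq_card_quotient_mul_card_subgroup f.ker,
      Nat.card_congr (QuotientGroup.quotientKerEquivRange f).toEquiv, hrange, hkereq,
      Nat.card_congr (Subgroup.subgroupOfEquivOfLe hle).toEquiv]

theorem fixU_empty : φ.fixU ∅ = ⊥ :=
  le_bot_iff.1 (inf_le_left.trans (C.Ucl_le fun _ hr => absurd hr (Set.notMem_empty _)))

end CfsgLib.Twisted.Frob
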