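import Cfsg.Agent.Lib.ChevStr.Poincare
import Cfsg.Agent.Lib.Twisted.Levels
import Cfsg.Agent.Lib.Twisted.Faithful

/-!
Orbits of fundamental roots under the root permutation, the subgroups attached to one orbit, the
representatives of the twisted Weyl group, and the count of the fixed points in `U`.
-/

set_option autoImplicit false

namespace CfsgLib.Twisted

open Cfsg.Lie CfsgLib.ChevStr
open scoped MatrixGroups

variable {D : ChevalleyDatum}

/-- The root only involves fundamental roots of the set. -/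
def SuppIn (R : RootData D) (J : Finset (Fin D.rank)) (r : ℕ) : Prop :=
  ∀ m : Fin D.rank, m ∉ J → R.α r m = 0

instance (R : RootData D) (J : Finset (Fin D.rank)) (r : ℕ) : Decidable (SuppIn R J r) :=
  inferInstanceAs (Decidable (∀ m : Fin D.rank, m ∉ J → R.α r m = 0))

/-- Positive roots supported in the set. -/
def inRoots (R : RootData D) (J : Finset (Fin D.rank)) : Set ℕ :=
  {r | D.IsPosRoot r ∧ SuppIn R J r}

/-- Positive roots not supported in the set. -/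
def outRoots (R : RootData D) (J : Finset (Fin D.rank)) : Set ℕ :=
  {r | D.IsPosRoot r ∧ ¬ SuppIn R J r}

/-- Negative roots supported in the set. -/
def negRootsIn (R : RootData D) (J : Finset (Fin D.rank)) : Set ℕ :=
  {r | D.IsNegRoot r ∧ SuppIn R J r}

/-- The orbits of a root permutation on the fundamental roots. -/
structure OrbitData (R : RootData D) (ρ : Equiv.Perm (Fin D.nroots)) (I : Type) where
  J : I → Finset (Fin D.rank)
  cover : ∀ j, ∃ i, j ∈ J i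
  disj : ∀ i k j, j ∈ J i → j ∈ J k → i = k
  nonempty : ∀ i, (J i).Nonempty
  trans : ∀ i, ∀ j ∈ J i, ∀ k ∈ J i, ∃ m : Fin (D.rank + 1),
    ((ρ ^ m.val) ⟨D.simple j.val, R.simple_lt j⟩ : ℕ) = D.simple k.val
  ρ_supp : ∀ i, ∀ r : Fin D.nroots, SuppIn R (J i) r → SuppIn R (J i) (ρ r)

/-! ### One parabolic piece -/

section weyl

variable {R : RootData D} (hR : ReflData R) {J : Finset (Fin D.rank)} {w : Equiv.Perm (Fin D.nroots)}

include hR

omit hR in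
theorem suppIn_simple {j : Fin D.rank} (hj : j ∈ J) : SuppIn R J (D.simple j.val) := fun m hm => by
  rw [R.α_simple, Pi.single_eq_of_ne]
  exact fun e => hm (e ▸ hj)

theorem suppIn_weyl (hw : w ∈ hR.weylSub J) (s : Fin D.nroots) :
    SuppIn R J (w s) ↔ SuppIn R J s :=
  forall₂_congr fun m hm => by rw [hR.weylSub_fix hw s m hm]

theorem out_weyl (hw : w ∈ hR.weylSub J) {s : Fin D.nroots} (hs : (s : ℕ) ∈ outRoots R J) :
    (w s : ℕ) ∈ outRoots R J := by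
  refine ⟨(R.pos_or_neg (w s).isLt).resolve_right fun hn => hs.2 fun m hm => ?_,
    fun h => hs.2 ((suppIn_weyl hR hw s).1 h)⟩
  have h1 := hR.weylSub_fix hw s m hm
  have h2 : R.α (w s) m ≤ 0 := ((R.isNeg_iff _).1 hn).2 m
  have h3 : 0 ≤ R.α s m := ((R.isPos_iff _).1 hs.1).2 m
  omega

theorem neg_of_supp (hw : w ∈ hR.weyl)
    (hneg : ∀ j ∈ J, D.IsNegRoot (w ⟨D.simple j.val, R.simple_lt j⟩)) {s : Fin D.nroots}
    (hs : (s : ℕ) ∈ inRoots R J) : D.IsNegRoot (w s) := by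
  refine (R.isNeg_iff _).2 ⟨(w s).isLt, ?_⟩
  rw [hR.α_weyl w hw s]
  refine Finset.sum_nonpos fun j _ => ?_
  by_cases hj : j ∈ J
  · exact smul_nonpos_of_nonneg_of_nonpos (((R.isPos_iff _).1 hs.1).2 j) ((R.isNeg_iff _).1 (hneg j hj)).2
  · simp [hs.2 j hj]

theorem pos_of_supp (hw : w ∈ hR.weyl)
    (hpos : ∀ j ∈ J, D.IsPosRoot (w ⟨D.simple j.val, R.simple_lt j⟩)) {s : Fin D.nroots}
    (hs : (s : ℕ) ∈ inRoots R J) : D.IsPosRoot (w s) :=
  hR.apply_pos_of_simple hw hs.1 fun j hj => hpos j (by_contra fun h => hj (hs.2 j h))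

theorem invRoots_eq (hw : w ∈ hR.weylSub J)
    (hneg : ∀ j ∈ J, D.IsNegRoot (w ⟨D.simple j.val, R.simple_lt j⟩)) :
    hR.invRoots w = inRoots R J := by
  ext r
  constructor
  · rintro ⟨hr, h⟩
    exact ⟨(hR.mem_invSet.1 h).1, fun m hm => hR.invSet_supp hw h hm⟩
  · intro h
    exact ⟨h.1.1, hR.mem_invSet.2 ⟨h.1, neg_of_supp hR (hR.weylSub_le J hw) hneg (s := ⟨r, h.1.1⟩) h⟩⟩

theorem mul_eq_one_of_neg (hw : w ∈ hR.weylSub J)
    (hneg : ∀ j ∈ J, D.IsNegRoot (w ⟨D.simple j.val, R.simple_lt j⟩))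
    {u : Equiv.Perm (Fin D.nroots)} (hu : u ∈ hR.weylSub J)
    (huneg : ∀ j ∈ J, D.IsNegRoot (u ⟨D.simple j.val, R.simple_lt j⟩)) : w * u = 1 := by
  have hwu := mul_mem hw hu
  by_contra hne
  have h0 : hR.invSet (w * u) ≠ ∅ := fun h =>
    hne (hR.eq_one_of_invSet_eq_empty (hR.weylSub_le J hwu) h)
  obtain ⟨j, hj, hjn⟩ := hR.weylSub_exists_neg hwu h0
  set t := u ⟨D.simple j.val, R.simple_lt j⟩
  have ht : SuppIn R J t := (suppIn_weyl hR hu _).2 (suppIn_simple hj)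
  have hwW := hR.weylSub_le J hw
  have h1 : D.IsNegRoot (w ⟨D.neg t, R.neg_lt t t.isLt⟩) :=
    neg_of_supp hR hwW hneg (s := ⟨D.neg t, R.neg_lt t t.isLt⟩)
      ⟨(R.isPos_neg_iff t.isLt).2 (huneg j hj),
        fun m hm => by rw [R.α_neg _ t.isLt, Pi.neg_apply, ht m hm, neg_zero]⟩
  rw [hR.apply_neg hwW t, R.isNeg_neg_iff (w t).isLt] at h1
  exact R.not_pos_and_neg h1 hjn

end weyl

section parabolic

variable {F : Type*} [Field F] (C : ChevCore D F) (J : Finset (Fin D.rank))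

theorem inRoots_closed : C.R.IsClosed (inRoots C.R J) := by
  refine ⟨fun r hr => hr.1, fun r hr s hs k hk => ⟨C.R.combo_pos hr.1 hs.1 hk, fun m hm => ?_⟩⟩
  obtain ⟨-, a, b, -, -, hab⟩ := hk
  rw [hab]
  simp [hr.2 m hm, hs.2 m hm]

theorem combo_out {r s k : ℕ} (hr : D.IsPosRoot r) (hs : s ∈ outRoots C.R J)
    (hk : C.R.IsCombo r s k) : k ∈ outRoots C.R J := by
  refine ⟨C.R.combo_pos hr hs.1 hk, fun h => hs.2 fun m hm => ?_⟩
  obtain ⟨-, a, b, ha, hb, hab⟩ := hk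
  have h1 := h m hm
  rw [hab] at h1
  simp only [Pi.add_apply, Pi.smul_apply, smul_eq_mul] at h1
  have h2 : 0 ≤ C.R.α r m := ((C.R.isPos_iff r).1 hr).2 m
  have h3 : 0 ≤ C.R.α s m := ((C.R.isPos_iff s).1 hs.1).2 m
  by_contra hne
  have h4 : 0 < C.R.α s m := lt_of_le_of_ne h3 (Ne.symm hne)
  nlinarith

theorem outRoots_closed : C.R.IsClosed (outRoots C.R J) :=
  ⟨fun _ hr => hr.1, fun _ hr _ hs _ hk => combo_out C J hr.1 hs hk⟩

theorem exists_split {u : GL D.Idx F} (hu : u ∈ D.posUnipotent F) :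
    ∃ a ∈ C.Ucl (inRoots C.R J), ∃ c ∈ C.Ucl (outRoots C.R J), u = a * c := by
  have hn : C.Ucl (inRoots C.R J) ≤ Subgroup.normalizer (C.Ucl (outRoots C.R J) : Set (GL D.Idx F)) :=
    C.Ucl_le fun r hr t =>
      C.pos_normalizes hr.1 (fun s hs => hs.1) (fun s hs k hk => combo_out C J hr.1 hs hk) t
  have hle : D.posUnipotent F ≤ C.Ucl (inRoots C.R J) ⊔ C.Ucl (outRoots C.R J) :=
    C.posUnipotent_le fun r t hr => by
      by_cases h : SuppIn C.R J r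
      · exact Subgroup.mem_sup_left (C.xGL_mem_Ucl (S := inRoots C.R J) ⟨hr, h⟩ t)
      · exact Subgroup.mem_sup_right (C.xGL_mem_Ucl (S := outRoots C.R J) ⟨hr, h⟩ t)
  obtain ⟨a, ha, c, hc, e⟩ := (Set.ext_iff.1
    (Subgroup.coe_mul_of_left_le_normalizer_right _ _ hn) u).1 (hle hu)
  exact ⟨a, ha, c, hc, e.symm⟩

theorem Ucl_in_le : C.Ucl (inRoots C.R J) ≤ D.posUnipotent F :=
  C.Ucl_le fun _ hr t => C.xGL_mem_posUnipotent hr.1 t

theorem Ucl_out_le : C.Ucl (outRoots C.R J) ≤ D.posUnipotent F :=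
  C.Ucl_le fun _ hr t => C.xGL_mem_posUnipotent hr.1 t

theorem split_unique {a a' c c' : GL D.Idx F} (ha : a ∈ C.Ucl (inRoots C.R J))
    (ha' : a' ∈ C.Ucl (inRoots C.R J)) (hc : c ∈ C.Ucl (outRoots C.R J))
    (hc' : c' ∈ C.Ucl (outRoots C.R J)) (e : a * c = a' * c') : a = a' ∧ c = c' := by
  have h1 : a'⁻¹ * a = c' * c⁻¹ := by
    rw [eq_mul_inv_iff_mul_eq, mul_assoc, e, inv_mul_cancel_left]
  have h2 := C.Ucl_inf (inRoots_closed C J) (outRoots_closed C J) (mul_mem (inv_mem ha') ha)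
    (h1 ▸ mul_mem hc' (inv_mem hc))
  have h3 : inRoots C.R J ∩ outRoots C.R J = ∅ :=
    Set.eq_empty_iff_forall_notMem.2 fun r hr => hr.2.2 hr.1.2
  have h4 : a'⁻¹ * a = 1 := Subgroup.mem_bot.1
    (C.Ucl_le (H := ⊥) (fun r hr => absurd hr (Set.notMem_empty r)) (h3 ▸ h2))
  obtain rfl : a' = a := inv_mul_eq_one.1 h4
  exact ⟨rfl, mul_left_cancel e⟩

/-- The weight of a matrix entry stays inside the set. -/
def Deg0 (M : Matrix D.Idx D.Idx F) : Prop :=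
  ∀ a b : D.Idx, M a b ≠ 0 → ∀ m : Fin D.rank, m ∉ J → C.R.wt a m = C.R.wt b m

theorem deg0_mul {M N : Matrix D.Idx D.Idx F} (hM : Deg0 C J M) (hN : Deg0 C J N) :
    Deg0 C J (M * N) := by
  intro a b hab m hm
  rw [Matrix.mul_apply] at hab
  obtain ⟨c, -, hc⟩ := Finset.exists_ne_zero_of_sum_ne_zero hab
  obtain ⟨h1, h2⟩ := mul_ne_zero_iff.1 hc
  rw [hM a c h1 m hm, hN c b h2 m hm]

/-- The Levi subgroup, by weights. -/
def deg0Sub : Subgroup (GL D.Idx F) where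
  carrier := {g | Deg0 C J (g : Matrix D.Idx D.Idx F) ∧ Deg0 C J (↑g⁻¹ : Matrix D.Idx D.Idx F)}
  one_mem' := by
    constructor <;>
    · intro a b h m _
      rw [show a = b from not_not.1 fun hne => h (by simp [Matrix.one_apply_ne hne])]
  mul_mem' := fun {g h} hg hh => ⟨by rw [Units.val_mul]; exact deg0_mul C J hg.1 hh.1,
    by rw [mul_inv_rev, Units.val_mul]; exact deg0_mul C J hh.2 hg.2⟩
  inv_mem' := fun {g} hg => ⟨hg.2, by rw [inv_inv]; exact hg.1⟩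

theorem xGL_deg0 {r : ℕ} (hr : SuppIn C.R J r) (t : F) : C.xGL r t ∈ deg0Sub C J := by
  have key : ∀ t : F, Deg0 C J (D.x F r t) := by
    intro t a b h m hm
    by_cases hab : a = b
    · rw [hab]
    · obtain ⟨-, k, -, hw⟩ := C.R.x_apply_ne_zero hab h
      have e := congrFun hw m
      simp only [Pi.sub_apply, Pi.smul_apply, smul_eq_mul, hr m hm, mul_zero] at e
      exact sub_eq_zero.1 e
  exact ⟨key t, by rw [C.xGL_inv]; exact key (-t)⟩

theorem monomial_deg0 {n : GL D.Idx F} (hn : n ∈ D.monomialSubgroup F)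
    {w : Equiv.Perm (Fin D.nroots)} (hmv : C.Moves n w) (hw : w ∈ C.hR.weylSub J) :
    n ∈ deg0Sub C J := by
  have key : ∀ {n : GL D.Idx F}, n ∈ D.monomialSubgroup F → ∀ {w : Equiv.Perm (Fin D.nroots)},
      C.Moves n w → w ∈ C.hR.weylSub J → Deg0 C J (n : Matrix D.Idx D.Idx F) := by
    intro n hn w hmv hw a b h m hm
    obtain ⟨w', hw', hsh⟩ := C.exists_shaped hn
    obtain rfl := ChevCore.Moves.unique C hw' hmv
    rcases hsh a b h with ⟨j, j', rfl, rfl⟩ | ⟨s, rfl, rfl⟩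
    · rw [C.R.wt_inl, C.R.wt_inl]
    · rw [C.R.wt_inr, C.R.wt_inr, C.hR.weylSub_fix hw s m hm]
  exact ⟨key hn hmv hw, key (inv_mem hn) (ChevCore.Moves.inv C hn hmv) (inv_mem hw)⟩

theorem out_deg0_eq_one {c : GL D.Idx F} (hc : c ∈ C.Ucl (outRoots C.R J))
    (h0 : c ∈ deg0Sub C J) : c = 1 := by
  set S : Set (Fin D.rank → ℤ) := {v | 0 ≤ v ∧ ∃ m, m ∉ J ∧ 0 < v m} with hS
  have hadd : ∀ x ∈ S, ∀ y ∈ S, x + y ∈ S := fun x ⟨hx, m, hm, hxm⟩ y ⟨hy, _⟩ =>
    ⟨add_nonneg hx hy, m, hm, add_pos_of_pos_of_nonneg hxm (hy m)⟩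
  have hnz : (0 : Fin D.rank → ℤ) ∉ S := fun ⟨_, m, _, h⟩ => lt_irrefl _ h
  let φ : (Fin D.rank → ℤ) →+ ℤ :=
    { toFun := fun v => ∑ i, v i
      map_zero' := by simp
      map_add' := fun v v' => by simp [Finset.sum_add_distrib] }
  have hc' : c ∈ uniGroup C.R.wt S hadd := by
    refine C.Ucl_le (fun r hr t => ?_) hc
    refine mem_uniGroup_of_supp φ (fun v hv => by
      obtain ⟨hv, m, -, hm⟩ := hv
      exact lt_of_lt_of_le hm (Finset.single_le_sum (fun i _ => hv i) (Finset.mem_univ m))) ?_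
    rw [C.coe_xGL]
    refine C.R.supp_x_sub_one r t fun _ k hk => ?_
    obtain ⟨m, hm, hne⟩ : ∃ m, m ∉ J ∧ C.R.α r m ≠ 0 := by
      by_contra h; push Not at h; exact hr.2 h
    have hge := ((C.R.isPos_iff r).1 hr.1).2
    exact ⟨fun i => mul_nonneg (Int.natCast_nonneg k) (hge i), m, hm,
      mul_pos (by exact_mod_cast hk) (lt_of_le_of_ne (hge m) (Ne.symm hne))⟩
  refine Units.ext ?_
  ext a b
  by_cases hab : a = b
  · subst hab; rw [uniGroup_apply_self hnz hc', Units.val_one, Matrix.one_apply_eq]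
  · rw [Units.val_one, Matrix.one_apply_ne hab]
    by_contra hne
    by_cases hmem : C.R.wt a - C.R.wt b ∈ S
    · obtain ⟨-, m, hm, hpos⟩ := hmem
      rw [Pi.sub_apply, h0.1 a b hne m hm, sub_self] at hpos
      exact lt_irrefl _ hpos
    · exact hne (uniGroup_apply_eq_zero hc' hab hmem)

/-- The subgroup generated by `B` and the representatives of the fundamental reflections in the set
only meets the cells of the parabolic Weyl group. -/
theorem exists_cell {g : GL D.Idx F}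
    (hg : g ∈ Subgroup.closure ((D.borelSubgroup F : Set (GL D.Idx F)) ∪ C.nS '' (J : Set (Fin D.rank)))) :
    ∃ n ∈ D.monomialSubgroup F, (∃ w ∈ C.hR.weylSub J, C.Moves n w) ∧ g ∈ C.bigCell n := by
  refine Subgroup.closure_induction_left (p := fun g _ =>
    ∃ n ∈ D.monomialSubgroup F, (∃ w ∈ C.hR.weylSub J, C.Moves n w) ∧ g ∈ C.bigCell n)
    ⟨1, one_mem _, ⟨1, one_mem _, ChevCore.Acts.moves C C.acts_one⟩, C.self_mem_bigCell 1⟩ ?_ ?_ hg
  · rintro x hx y - ⟨n, hn, ⟨w, hw, hmv⟩, hy⟩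
    rcases hx with hx | ⟨i, hi, rfl⟩
    · exact ⟨n, hn, ⟨w, hw, hmv⟩, by simpa using C.bigCell_mul hy hx (one_mem _)⟩
    · obtain ⟨a, ha, b, hb, rfl⟩ := C.mem_bigCell.1 hy
      rcases C.nS_mul_mem i hn ha with h | h
      · exact ⟨_, mul_mem (C.nS_mem_monomial i) hn, ⟨_, mul_mem (C.hR.sPerm_mem_sub hi) hw,
          ChevCore.Moves.mul C (ChevCore.Acts.moves C (C.acts_nS i)) hmv⟩,
          by simpa [mul_assoc] using C.bigCell_mul h (one_mem _) hb⟩
      · exact ⟨n, hn, ⟨w, hw, hmv⟩, by simpa [mul_assoc] using C.bigCell_mul h (one_mem _) hb⟩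
  · rintro x hx y - ⟨n, hn, ⟨w, hw, hmv⟩, hy⟩
    rcases hx with hx | ⟨i, hi, rfl⟩
    · exact ⟨n, hn, ⟨w, hw, hmv⟩, by simpa using C.bigCell_mul hy (inv_mem hx) (one_mem _)⟩
    · obtain ⟨a, ha, b, hb, rfl⟩ := C.mem_bigCell.1 hy
      obtain ⟨c, hc⟩ := C.nS_inv i
      rcases C.nS_mul_mem i hn ha with h | h
      · exact ⟨_, mul_mem (C.nS_mem_monomial i) hn, ⟨_, mul_mem (C.hR.sPerm_mem_sub hi) hw,
          ChevCore.Moves.mul C (ChevCore.Acts.moves C (C.acts_nS i)) hmv⟩,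
          by simpa [hc, mul_assoc] using C.bigCell_mul h (C.torus_mem_borel c) hb⟩
      · exact ⟨n, hn, ⟨w, hw, hmv⟩,
          by simpa [hc, mul_assoc] using C.bigCell_mul h (C.torus_mem_borel c) hb⟩

theorem monomial_mem_parabolic {w : Equiv.Perm (Fin D.nroots)} (hw : w ∈ C.hR.weylSub J) :
    ∀ n ∈ D.monomialSubgroup F, C.Moves n w → n ∈ Subgroup.closure
      ((D.borelSubgroup F : Set (GL D.Idx F)) ∪ C.nS '' (J : Set (Fin D.rank))) := by
  refine C.hR.weylSub_induction (P := fun w => ∀ n ∈ D.monomialSubgroup F, C.Moves n w →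
    n ∈ Subgroup.closure ((D.borelSubgroup F : Set (GL D.Idx F)) ∪ C.nS '' (J : Set (Fin D.rank)))) ?_ ?_ w hw
  · intro n hn h1
    exact Subgroup.subset_closure (Or.inl
      (le_sup_right (a := D.posUnipotent F) (C.mem_diagonal_of_moves_one hn h1)))
  · intro v _ i hi _ ih n hn hnv
    have hs : C.nS i ∈ Subgroup.closure
        ((D.borelSubgroup F : Set (GL D.Idx F)) ∪ C.nS '' (J : Set (Fin D.rank))) :=
      Subgroup.subset_closure (Or.inr ⟨i, hi, rfl⟩)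
    have h1 := ih (n * (C.nS i)⁻¹) (mul_mem hn (inv_mem (C.nS_mem_monomial i))) (by
      have h := ChevCore.Moves.mul C hnv
        (ChevCore.Acts.moves C (ChevCore.Acts.inv C (C.acts_nS i)))
      rwa [mul_inv_cancel_right] at h)
    simpa using mul_mem h1 hs

theorem negIn_le_parabolic {v : GL D.Idx F} (hv : v ∈ C.Ucl (negRootsIn C.R J))
    {n : GL D.Idx F} (hn : n ∈ D.monomialSubgroup F) {w : Equiv.Perm (Fin D.nroots)}
    (hmv : C.Moves n w) (hw : w ∈ C.hR.weylSub J)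
    (hneg : ∀ j ∈ J, D.IsNegRoot (w ⟨D.simple j.val, C.R.simple_lt j⟩)) :
    v ∈ Subgroup.closure ((D.borelSubgroup F : Set (GL D.Idx F)) ∪ C.nS '' (J : Set (Fin D.rank))) := by
  set P := Subgroup.closure ((D.borelSubgroup F : Set (GL D.Idx F)) ∪ C.nS '' (J : Set (Fin D.rank)))
  refine C.Ucl_le (fun r hr t => ?_) hv
  have hrn : r < D.nroots := hr.1.1
  have h1 : D.IsPosRoot (w⁻¹ ⟨r, hrn⟩) := by
    refine (C.R.pos_or_neg (w⁻¹ ⟨r, hrn⟩).isLt).resolve_right fun hn' => ?_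
    set s := w⁻¹ ⟨r, hrn⟩ with hs
    have hws : w s = ⟨r, hrn⟩ := by rw [hs, Equiv.Perm.inv_def, Equiv.apply_symm_apply]
    have hsupp : SuppIn C.R J s := (suppIn_weyl C.hR hw s).1 (by rw [hws]; exact hr.2)
    have h2 : D.IsNegRoot (w ⟨D.neg s, C.R.neg_lt s s.isLt⟩) :=
      neg_of_supp C.hR (C.hR.weylSub_le J hw) hneg (s := ⟨D.neg s, C.R.neg_lt s s.isLt⟩)
        ⟨(C.R.isPos_neg_iff s.isLt).2 hn',
          fun m hm => by rw [C.R.α_neg _ s.isLt, Pi.neg_apply, hsupp m hm, neg_zero]⟩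
    rw [C.hR.apply_neg (C.hR.weylSub_le J hw) s, C.R.isNeg_neg_iff (w s).isLt, hws] at h2
    exact C.R.not_pos_and_neg h2 hr.1
  obtain ⟨u, hu⟩ := (ChevCore.Moves.inv C hn hmv).2 ⟨r, hrn⟩ t
  have hnP := monomial_mem_parabolic C J hw n hn hmv
  have e : C.xGL r t = n * C.xGL (w⁻¹ ⟨r, hrn⟩ : Fin D.nroots) u * n⁻¹ := by
    rw [← hu]; group
  rw [e]
  exact mul_mem (mul_mem hnP (Subgroup.subset_closure (Or.inl (C.pos_mem_borel h1 u)))) (inv_mem hnP)

theorem exists_top : ∃ w ∈ C.hR.weylSub J,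
    ∀ j ∈ J, D.IsNegRoot (w ⟨D.simple j.val, C.R.simple_lt j⟩) := by
  classical
  obtain ⟨w, hw, hmax⟩ := (Finset.univ.filter fun w => w ∈ C.hR.weylSub J).exists_max_image
    (fun w => (C.hR.invSet w).card) ⟨1, by simp [one_mem]⟩
  rw [Finset.mem_filter] at hw
  refine ⟨w, hw.2, fun j hj => (C.R.pos_or_neg (w _).isLt).resolve_left fun hp => ?_⟩
  have h1 := C.hR.invSet_mul_sPerm (C.hR.weylSub_le J hw.2) j hp
  have h2 := hmax (w * C.hR.sPerm j)
    (Finset.mem_filter.2 ⟨Finset.mem_univ _, mul_mem hw.2 (C.hR.sPerm_mem_sub hj)⟩)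
  omega

theorem exists_cell_neg {v : GL D.Idx F} (hv : v ∈ C.Ucl (negRootsIn C.R J)) :
    ∃ n ∈ D.monomialSubgroup F, (∃ w ∈ C.hR.weylSub J, C.Moves n w) ∧ v ∈ C.bigCell n := by
  obtain ⟨w, hw, hneg⟩ := exists_top C J
  obtain ⟨n, hn, hact⟩ := C.exists_rep (C.hR.weylSub_le J hw)
  exact exists_cell C J (negIn_le_parabolic C J hv (C.rep_mem_monomial hn)
    (ChevCore.Acts.moves C hact) hw hneg)

end parabolic

/-! ### Generators and representatives -/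

variable {F : Type*} [Field F] {C : ChevCore D F}

/-- What is needed of a group of fixed points: it contains the fixed elements of the root group of
every orbit, whose order is known, and a non-trivial element of every opposite one. -/
structure Gens (φ : Frob C) {I : Type} (O : OrbitData C.R φ.ρ I) (G1 : Subgroup (GL D.Idx F))
    (d : ℕ) where
  le_fixed : G1 ≤ φ.fixedSub
  pos_le : ∀ i, φ.fixU (inRoots C.R (O.J i)) ≤ G1
  pos_card : ∀ i, Nat.card ↥(φ.fixU (inRoots C.R (O.J i))) ^ d =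
    Nat.card F ^ (inRoots C.R (O.J i)).ncard
  neg_elt : ∀ i, ∃ v ∈ G1, v ∈ C.Ucl (negRootsIn C.R (O.J i)) ∧ v ≠ 1

variable {φ : Frob C} {I : Type} (O : OrbitData C.R φ.ρ I)

namespace OrbitData

theorem all_neg {w : Equiv.Perm (Fin D.nroots)} (hc : Commute φ.ρ w) {i : I} {j : Fin D.rank}
    (hj : j ∈ O.J i) (h : D.IsNegRoot (w ⟨D.simple j.val, C.R.simple_lt j⟩)) :
    ∀ k ∈ O.J i, D.IsNegRoot (w ⟨D.simple k.val, C.R.simple_lt k⟩) := by
  intro k hk
  obtain ⟨m, hm⟩ := O.trans i j hj k hk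
  have key : ∀ m : ℕ, D.IsNegRoot (w ((φ.ρ ^ m) ⟨D.simple j.val, C.R.simple_lt j⟩)) := by
    intro m
    induction m with
    | zero => exact h
    | succ m ih =>
      rw [pow_succ', Equiv.Perm.mul_apply, ← Equiv.Perm.mul_apply w φ.ρ, ← hc.eq, Equiv.Perm.mul_apply]
      exact φ.ρ_isNeg ih
  have e := key m.val
  rwa [show (φ.ρ ^ m.val) ⟨D.simple j.val, C.R.simple_lt j⟩ =
    ⟨D.simple k.val, C.R.simple_lt k⟩ from Fin.ext hm] at e

theorem stable_in (i : I) : φ.Stable (inRoots C.R (O.J i)) :=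
  fun r hr => ⟨φ.ρ_pos r hr.1, O.ρ_supp i r hr.2⟩

include O in
theorem stable_out (i : I) : φ.Stable (outRoots C.R (O.J i)) := by
  intro r hr
  refine ⟨φ.ρ_pos r hr.1, fun h => hr.2 ?_⟩
  have hk : ∀ k : ℕ, SuppIn C.R (O.J i) ((φ.ρ ^ k) (φ.ρ r) : Fin D.nroots) := by
    intro k
    induction k with
    | zero => exact h
    | succ k ih => rw [pow_succ', Equiv.Perm.mul_apply]; exact O.ρ_supp i _ ih
  have h1 := hk (orderOf φ.ρ - 1)
  rwa [← Equiv.Perm.mul_apply, ← pow_succ, Nat.sub_add_cancel (orderOf_pos φ.ρ), pow_orderOf_eq_one,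
    Equiv.Perm.one_apply] at h1

theorem split_fixed (i : I) {a c : GL D.Idx F} (ha : a ∈ C.Ucl (inRoots C.R (O.J i)))
    (hc : c ∈ C.Ucl (outRoots C.R (O.J i))) (hac : a * c ∈ φ.fixedSub) :
    a ∈ φ.fixedSub ∧ c ∈ φ.fixedSub := by
  have haG : a ∈ D.group F := C.borel_le_group
    (le_sup_left (b := D.diagonalSubgroup F) (Ucl_in_le C _ ha))
  have hcG : c ∈ D.group F := C.borel_le_group
    (le_sup_left (b := D.diagonalSubgroup F) (Ucl_out_le C _ hc))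
  have e := hac.2
  rw [φ.act_mul haG hcG] at e
  obtain ⟨e1, e2⟩ := split_unique C _ (φ.act_Ucl (O.stable_in i) a ha) ha
    (φ.act_Ucl (O.stable_out i) c hc) hc e
  exact ⟨⟨haG, e1⟩, hcG, e2⟩

end OrbitData

/-- The twist whose group is the whole fixed group. -/
noncomputable def fixTwist [Fintype F] (φ : Frob C) : Twist (chevAmbient C) where
  σ := φ.act
  σ_mul _ ha _ hb := φ.act_mul ha hb
  σ_U := φ.act_U
  σ_N := φ.act_N
  σ_V g _ hg := φ.act_V g hg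
  G1 := φ.fixedSub
  le_G _ hg := hg.1
  fixed _ hg := hg.2
  U1_le _ hu he := ⟨C.borel_le_group (le_sup_left (b := D.diagonalSubgroup F) hu), he⟩

section conj

variable {J : Finset (Fin D.rank)} {n : GL D.Idx F} {w : Equiv.Perm (Fin D.nroots)}

theorem conj_out (hmv : C.Moves n w) (hw : w ∈ C.hR.weylSub J) :
    ∀ g ∈ C.Ucl (outRoots C.R J), n * g * n⁻¹ ∈ C.Ucl (outRoots C.R J) :=
  C.conj_Ucl_le hmv fun _ hs t => C.xGL_mem_Ucl (out_weyl C.hR hw hs) t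

theorem conj_in (hmv : C.Moves n w) (hw : w ∈ C.hR.weylSub J)
    (hneg : ∀ j ∈ J, D.IsNegRoot (w ⟨D.simple j.val, C.R.simple_lt j⟩)) :
    ∀ g ∈ C.Ucl (inRoots C.R J), n * g * n⁻¹ ∈ C.Ucl (negRootsIn C.R J) :=
  C.conj_Ucl_le hmv fun s hs t => C.xGL_mem_Ucl
    (S := negRootsIn C.R J) ⟨neg_of_supp C.hR (C.hR.weylSub_le J hw) hneg hs,
      (suppIn_weyl C.hR hw s).2 hs.2⟩ t

theorem Ucl_negIn_le_V : C.Ucl (negRootsIn C.R J) ≤ D.negUnipotent F :=
  C.Ucl_le fun _ hr t => C.xGL_mem_negUnipotent hr.1 t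

theorem mem_in_of_conj (hmv : C.Moves n w) (hw : w ∈ C.hR.weylSub J)
    (hneg : ∀ j ∈ J, D.IsNegRoot (w ⟨D.simple j.val, C.R.simple_lt j⟩))
    {z : GL D.Idx F} (hz : z ∈ D.posUnipotent F) (hV : n * z * n⁻¹ ∈ D.negUnipotent F) :
    z ∈ C.Ucl (inRoots C.R J) := by
  obtain ⟨a, ha, c, hc, rfl⟩ := exists_split C J hz
  have h1 : n * c * n⁻¹ ∈ D.negUnipotent F := by
    have := mul_mem (inv_mem (Ucl_negIn_le_V (conj_in hmv hw hneg a ha))) hV
    simpa [mul_assoc] using this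
  have h2 : n * c * n⁻¹ = 1 := (Subgroup.eq_bot_iff_forall _).1 C.borel_inf_negUnipotent _
    (Subgroup.mem_inf.2 ⟨le_sup_left (b := D.diagonalSubgroup F)
      (Ucl_out_le C J (conj_out hmv hw c hc)), h1⟩)
  rw [conj_eq_one_iff] at h2
  rw [h2, mul_one]
  exact ha

end conj

variable {O} {G1 : Subgroup (GL D.Idx F)} {d : ℕ} (g : Gens φ O G1 d) [Fintype F]

namespace Gens

include g in
theorem exists_rep (i : I) : ∃ n : GL D.Idx F, n ∈ D.monomialSubgroup F ∧ n ∈ G1 ∧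
    ∃ w, C.Moves n w ∧ w ∈ C.hR.weylSub (O.J i) ∧
      ∀ j ∈ O.J i, D.IsNegRoot (w ⟨D.simple j.val, C.R.simple_lt j⟩) := by
  obtain ⟨v, hv1, hv, hvne⟩ := g.neg_elt i
  obtain ⟨x, hx, n, hn, z, hz, hV, e⟩ := (fixTwist φ).nf (g.le_fixed hv1)
  have hB : ∀ {y}, y ∈ D.posUnipotent F → y ∈ D.borelSubgroup F := fun hy =>
    le_sup_left (b := D.diagonalSubgroup F) hy
  obtain ⟨m, hm, ⟨w, hw, hmv⟩, hcell⟩ := exists_cell_neg C (O.J i) hv
  obtain ⟨w', hw', -⟩ := C.exists_moves hn.1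
  have hww : w' = w := by
    refine C.moves_eq_of_mem hn.1 hm hw' hmv ?_
    have := C.bigCell_mul hcell (inv_mem (hB hx.1)) (inv_mem (hB hz.1))
    rwa [e, show x⁻¹ * (x * n * z) * z⁻¹ = n by group] at this
  subst hww
  have hc := φ.commute_of_fixed hn.1 hw' hn.2.2
  have hne : C.hR.invSet w' ≠ ∅ := by
    intro h
    have h1 := C.hR.eq_one_of_invSet_eq_empty (C.hR.weylSub_le _ hw) h
    refine hvne ((Subgroup.eq_bot_iff_forall _).1 C.borel_inf_negUnipotent v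
      (Subgroup.mem_inf.2 ⟨?_, Ucl_negIn_le_V hv⟩))
    rw [e]
    exact mul_mem (mul_mem (hB hx.1) (le_sup_right (a := D.posUnipotent F)
      (C.mem_diagonal_of_moves_one hn.1 (h1 ▸ hw')))) (hB hz.1)
  obtain ⟨j, hj, hjn⟩ := C.hR.weylSub_exists_neg hw hne
  have hneg := O.all_neg hc hj hjn
  refine ⟨n, hn.1, ?_, w', hw', hw, hneg⟩
  have hz1 := mem_in_of_conj hw' hw hneg hz.1 hV
  obtain ⟨a, ha, c, hc', hxe⟩ := exists_split C (O.J i) hx.1
  have hc0 : c ∈ deg0Sub C (O.J i) := by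
    have hpos : C.Ucl (inRoots C.R (O.J i)) ≤ deg0Sub C (O.J i) :=
      C.Ucl_le fun r hr t => xGL_deg0 C _ hr.2 t
    have hnd := monomial_deg0 C _ hn.1 hw' hw
    have hvd : v ∈ deg0Sub C (O.J i) :=
      C.Ucl_le (fun r hr t => xGL_deg0 C _ hr.2 t) hv
    have e' : c = a⁻¹ * v * z⁻¹ * n⁻¹ := by rw [e, hxe]; group
    rw [e']
    exact mul_mem (mul_mem (mul_mem (inv_mem (hpos ha)) hvd) (inv_mem (hpos hz1))) (inv_mem hnd)
  rw [out_deg0_eq_one C _ hc' hc0, mul_one] at hxe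
  subst hxe
  have hx1 : x ∈ G1 := g.pos_le i (Subgroup.mem_inf.2 ⟨ha, hx.2⟩)
  have hz1' : z ∈ G1 := g.pos_le i (Subgroup.mem_inf.2 ⟨hz1, hz.2⟩)
  rw [show n = x⁻¹ * v * z⁻¹ by rw [e]; group]
  exact mul_mem (mul_mem (inv_mem hx1) hv1) (inv_mem hz1')

/-- The representative attached to an orbit. -/
noncomputable def s (i : I) : GL D.Idx F := (g.exists_rep i).choose

/-- Its permutation of the roots. -/
noncomputable def wJ (i : I) : Equiv.Perm (Fin D.nroots) :=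
  (g.exists_rep i).choose_spec.2.2.choose

theorem s_mem_N (i : I) : g.s i ∈ D.monomialSubgroup F := (g.exists_rep i).choose_spec.1

theorem s_mem (i : I) : g.s i ∈ G1 := (g.exists_rep i).choose_spec.2.1

theorem s_moves (i : I) : C.Moves (g.s i) (g.wJ i) :=
  (g.exists_rep i).choose_spec.2.2.choose_spec.1

theorem wJ_mem (i : I) : g.wJ i ∈ C.hR.weylSub (O.J i) :=
  (g.exists_rep i).choose_spec.2.2.choose_spec.2.1

theorem wJ_neg (i : I) : ∀ j ∈ O.J i, D.IsNegRoot (g.wJ i ⟨D.simple j.val, C.R.simple_lt j⟩) :=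
  (g.exists_rep i).choose_spec.2.2.choose_spec.2.2

theorem wJ_mul_self (i : I) : g.wJ i * g.wJ i = 1 :=
  mul_eq_one_of_neg C.hR (g.wJ_mem i) (g.wJ_neg i) (g.wJ_mem i) (g.wJ_neg i)

theorem wJ_commute (i : I) : Commute φ.ρ (g.wJ i) :=
  φ.commute_of_fixed (g.s_mem_N i) (g.s_moves i) (g.le_fixed (g.s_mem i)).2

theorem sq_mem (i : I) : g.s i * g.s i ∈ D.diagonalSubgroup F :=
  C.mem_diagonal_of_moves_one (mul_mem (g.s_mem_N i) (g.s_mem_N i))
    (g.wJ_mul_self i ▸ ChevCore.Moves.mul C (g.s_moves i) (g.s_moves i))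

theorem conj_inv_out (i : I) :
    ∀ x ∈ C.Ucl (outRoots C.R (O.J i)), (g.s i)⁻¹ * x * g.s i ∈ C.Ucl (outRoots C.R (O.J i)) := by
  intro x hx
  have := conj_out (ChevCore.Moves.inv C (g.s_mem_N i) (g.s_moves i)) (inv_mem (g.wJ_mem i)) x hx
  rwa [inv_inv] at this

theorem all_neg_descent {w : Equiv.Perm (Fin D.nroots)} (hw : w ∈ C.hR.weyl) (i : I)
    (hneg : ∀ j ∈ O.J i, D.IsNegRoot (w ⟨D.simple j.val, C.R.simple_lt j⟩)) :
    (C.hR.invSet w).card = (C.hR.invSet (w * g.wJ i)).card + (C.hR.invSet (g.wJ i)).card ∧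
      0 < (C.hR.invSet (g.wJ i)).card := by
  refine ⟨?_, Finset.card_pos.2 ?_⟩
  · have hmin : C.hR.IsMin Finset.univ (O.J i) (w * g.wJ i) := by
      refine ⟨by rw [C.hR.weylSub_univ]; exact mul_mem hw (C.hR.weylSub_le _ (g.wJ_mem i)), fun j hj => ?_⟩
      rw [Equiv.Perm.mul_apply]
      set t := g.wJ i ⟨D.simple j.val, C.R.simple_lt j⟩
      have ht : SuppIn C.R (O.J i) t := (suppIn_weyl C.hR (g.wJ_mem i) _).2 (suppIn_simple hj)
      have h1 : D.IsNegRoot (w ⟨D.neg t, C.R.neg_lt t t.isLt⟩) :=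
        neg_of_supp C.hR hw hneg (s := ⟨D.neg t, C.R.neg_lt t t.isLt⟩)
          ⟨(C.R.isPos_neg_iff t.isLt).2 (g.wJ_neg i j hj),
            fun m hm => by rw [C.R.α_neg _ t.isLt, Pi.neg_apply, ht m hm, neg_zero]⟩
      rwa [C.hR.apply_neg hw t, C.R.isNeg_neg_iff (w t).isLt] at h1
    have h := C.hR.card_invSet_min_mul hmin (g.wJ i) (g.wJ_mem i)
    rwa [mul_assoc, g.wJ_mul_self i, mul_one] at h
  · obtain ⟨j, hj⟩ := O.nonempty i
    exact ⟨⟨D.simple j.val, C.R.simple_lt j⟩, C.hR.mem_invSet.2 ⟨C.R.simple_pos j, g.wJ_neg i j hj⟩⟩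

omit [Fintype F] in
theorem exists_orbit_neg {w : Equiv.Perm (Fin D.nroots)} (hw : w ∈ C.hR.weyl)
    (hc : Commute φ.ρ w) (hne : C.hR.invSet w ≠ ∅) :
    ∃ i, ∀ j ∈ O.J i, D.IsNegRoot (w ⟨D.simple j.val, C.R.simple_lt j⟩) := by
  obtain ⟨j, hj⟩ := C.hR.exists_simple_neg_of_ne_one hw hne
  obtain ⟨i, hi⟩ := O.cover j
  exact ⟨i, O.all_neg hc hi hj⟩

include g in
/-- The fixed points in every `U_w` lie in `G1` and have the expected number. -/
theorem fix_invRoots {w : Equiv.Perm (Fin D.nroots)} (hw : w ∈ C.hR.weyl) (hc : Commute φ.ρ w) :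
    φ.fixU (C.hR.invRoots w) ≤ G1 ∧
      Nat.card ↥(φ.fixU (C.hR.invRoots w)) ^ d = Nat.card F ^ (C.hR.invSet w).card := by
  induction hn : (C.hR.invSet w).card using Nat.strong_induction_on generalizing w with
  | _ n ih =>
    by_cases h0 : C.hR.invSet w = ∅
    · have he : C.hR.invRoots w = ∅ :=
        Set.eq_empty_iff_forall_notMem.2 fun r ⟨_, hr⟩ => by simp [h0] at hr
      rw [he, φ.fixU_empty, ← hn, h0]
      simp
    obtain ⟨i, hneg⟩ := Gens.exists_orbit_neg (O := O) hw hc h0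
    obtain ⟨hcard, hpos⟩ := g.all_neg_descent hw i hneg
    set v := w * g.wJ i with hv
    have hvW : v ∈ C.hR.weyl := mul_mem hw (C.hR.weylSub_le _ (g.wJ_mem i))
    obtain ⟨ih1, ih2⟩ := ih _ (by omega) hvW (hc.mul_right (g.wJ_commute i)) rfl
    have hin : inRoots C.R (O.J i) ⊆ C.hR.invRoots w := fun r hr =>
      ⟨hr.1.1, C.hR.mem_invSet.2 ⟨hr.1, neg_of_supp C.hR hw hneg (s := ⟨r, hr.1.1⟩) hr⟩⟩
    have hsinv : (g.wJ i)⁻¹ = g.wJ i := inv_eq_of_mul_eq_one_right (g.wJ_mul_self i)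
    have hvout : ∀ r : Fin D.nroots, (r : ℕ) ∈ C.hR.invRoots v →
        (r : ℕ) ∈ outRoots C.R (O.J i) ∧ (g.wJ i r : ℕ) ∈ C.hR.invRoots w := by
      intro r hr
      obtain ⟨h1, h2⟩ := C.hR.mem_invRoots.1 hr
      have hout : (r : ℕ) ∈ outRoots C.R (O.J i) := by
        refine ⟨h1, fun hs => C.R.not_pos_and_neg (?_ : D.IsPosRoot (v r)) h2⟩
        refine pos_of_supp C.hR hvW (fun j hj => ?_) ⟨h1, hs⟩
        set t := g.wJ i ⟨D.simple j.val, C.R.simple_lt j⟩ with ht'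
        have ht : SuppIn C.R (O.J i) t := (suppIn_weyl C.hR (g.wJ_mem i) _).2 (suppIn_simple hj)
        have h3 : D.IsNegRoot (w ⟨D.neg t, C.R.neg_lt t t.isLt⟩) :=
          neg_of_supp C.hR hw hneg (s := ⟨D.neg t, C.R.neg_lt t t.isLt⟩)
            ⟨(C.R.isPos_neg_iff t.isLt).2 (g.wJ_neg i j hj),
              fun m hm => by rw [C.R.α_neg _ t.isLt, Pi.neg_apply, ht m hm, neg_zero]⟩
        rw [C.hR.apply_neg hw t, C.R.isNeg_neg_iff (w t).isLt] at h3
        exact h3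
      exact ⟨hout, C.hR.mem_invRoots.2 ⟨(out_weyl C.hR (g.wJ_mem i) hout).1, h2⟩⟩
    have hsN : g.s i ∈ φ.fixedSub := g.le_fixed (g.s_mem i)
    have hback : ∀ y ∈ C.Ucl (C.hR.invRoots v), (g.s i)⁻¹ * y * g.s i ∈
        C.Ucl (C.hR.invRoots w ∩ outRoots C.R (O.J i)) := by
      intro y hy
      have hmv := ChevCore.Moves.inv C (g.s_mem_N i) (g.s_moves i)
      rw [hsinv] at hmv
      have := C.conj_Ucl_le hmv (S := C.hR.invRoots v)
        (T := C.Ucl (C.hR.invRoots w ∩ outRoots C.R (O.J i)))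
        (fun r hr t => C.xGL_mem_Ucl (S := C.hR.invRoots w ∩ outRoots C.R (O.J i))
          ⟨(hvout r hr).2, out_weyl C.hR (g.wJ_mem i) (hvout r hr).1⟩ t) y hy
      rwa [inv_inv] at this
    have hfwd : ∀ c ∈ C.Ucl (C.hR.invRoots w ∩ outRoots C.R (O.J i)),
        g.s i * c * (g.s i)⁻¹ ∈ C.Ucl (C.hR.invRoots v) := by
      refine C.conj_Ucl_le (g.s_moves i) fun r hr t => C.xGL_mem_Ucl ?_ t
      refine C.hR.mem_invRoots.2 ⟨(out_weyl C.hR (g.wJ_mem i) hr.2).1, ?_⟩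
      rw [hv, Equiv.Perm.mul_apply, ← Equiv.Perm.mul_apply (g.wJ i) (g.wJ i), g.wJ_mul_self,
        Equiv.Perm.one_apply]
      exact (C.hR.mem_invRoots.1 hr.1).2
    have hdec : ∀ u ∈ φ.fixU (C.hR.invRoots w), ∃ a ∈ φ.fixU (inRoots C.R (O.J i)),
        ∃ y ∈ φ.fixU (C.hR.invRoots v), u = a * ((g.s i)⁻¹ * y * g.s i) := by
      intro u hu
      obtain ⟨hu1, hu2⟩ := Subgroup.mem_inf.1 hu
      obtain ⟨a, ha, c, hc', rfl⟩ := exists_split C (O.J i)
        (C.Ucl_le (fun r hr t => C.xGL_mem_posUnipotent (by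
          obtain ⟨_, hr⟩ := hr; exact (C.hR.mem_invSet.1 hr).1) t) hu1)
      obtain ⟨haf, hcf⟩ := O.split_fixed i ha hc' hu2
      have hcw : c ∈ C.Ucl (C.hR.invRoots w) := by
        have := mul_mem (inv_mem (C.Ucl_mono hin ha)) hu1
        rwa [inv_mul_cancel_left] at this
      refine ⟨a, Subgroup.mem_inf.2 ⟨ha, haf⟩, g.s i * c * (g.s i)⁻¹, Subgroup.mem_inf.2
        ⟨hfwd c (C.Ucl_inf (C.hR.invRoots_closed hw) (outRoots_closed C _) hcw hc'),
          mul_mem (mul_mem hsN hcf) (inv_mem hsN)⟩, by group⟩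
    refine ⟨fun u hu => ?_, ?_⟩
    · obtain ⟨a, ha, y, hy, rfl⟩ := hdec u hu
      exact mul_mem (g.pos_le i ha) (mul_mem (mul_mem (inv_mem (g.s_mem i)) (ih1 hy)) (g.s_mem i))
    · let f : ↥(φ.fixU (inRoots C.R (O.J i))) × ↥(φ.fixU (C.hR.invRoots v)) →
          ↥(φ.fixU (C.hR.invRoots w)) := fun p =>
        ⟨(p.1 : GL D.Idx F) * ((g.s i)⁻¹ * p.2 * g.s i), mul_mem
          (inf_le_inf_right _ (C.Ucl_mono hin) p.1.2)
          (Subgroup.mem_inf.2 ⟨C.Ucl_mono Set.inter_subset_left (hback _ (Subgroup.mem_inf.1 p.2.2).1),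
            mul_mem (mul_mem (inv_mem hsN) (Subgroup.mem_inf.1 p.2.2).2) hsN⟩)⟩
      have hf : Function.Bijective f := by
        refine ⟨fun p p' h => ?_, fun u => ?_⟩
        · obtain ⟨e1, e2⟩ := split_unique C (O.J i) (Subgroup.mem_inf.1 p.1.2).1
            (Subgroup.mem_inf.1 p'.1.2).1
            (C.Ucl_mono Set.inter_subset_right (hback _ (Subgroup.mem_inf.1 p.2.2).1))
            (C.Ucl_mono Set.inter_subset_right (hback _ (Subgroup.mem_inf.1 p'.2.2).1))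
            (congrArg Subtype.val h)
          exact Prod.ext (Subtype.ext e1) (Subtype.ext (mul_left_cancel (mul_right_cancel e2)))
        · obtain ⟨a, ha, y, hy, e⟩ := hdec u u.2
          exact ⟨(⟨a, ha⟩, ⟨y, hy⟩), Subtype.ext e.symm⟩
      rw [← Nat.card_eq_of_bijective f hf, Nat.card_prod, mul_pow, g.pos_card i, ih2, ← pow_add,
        ← invRoots_eq C.hR (g.wJ_mem i) (g.wJ_neg i), C.hR.ncard_invRoots, ← hn, hcard, Nat.add_comm]

omit [Fintype F] in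
theorem exists_longest_commute : ∃ w ∈ C.hR.weyl, Commute φ.ρ w ∧
    ∀ s : Fin D.nroots, D.IsPosRoot s → D.IsNegRoot (w s) := by
  obtain ⟨w, hw, hneg⟩ := C.hR.exists_longest
  refine ⟨w, hw, ?_, hneg⟩
  obtain ⟨n, hn, hact⟩ := C.exists_rep hw
  have hmv := φ.act_moves (C.rep_mem_monomial hn) (ChevCore.Acts.moves C hact)
  set u := φ.ρ * w * φ.ρ⁻¹ with hu
  have hρ : ∀ s : Fin D.nroots, D.IsPosRoot s → D.IsPosRoot (φ.ρ⁻¹ s) := fun s hs => by
    refine (C.R.pos_or_neg (φ.ρ⁻¹ s).isLt).resolve_right fun h => ?_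
    have := φ.ρ_isNeg h
    rw [Equiv.Perm.inv_def, Equiv.apply_symm_apply] at this
    exact C.R.not_pos_and_neg hs this
  have huneg : ∀ s : Fin D.nroots, D.IsPosRoot s → D.IsNegRoot (u s) := fun s hs => by
    rw [hu, Equiv.Perm.mul_apply, Equiv.Perm.mul_apply]
    exact φ.ρ_isNeg (hneg _ (hρ s hs))
  have hmem := mul_mem (inv_mem hw) hmv.1
  have h1 : w⁻¹ * u = 1 := by
    refine C.hR.eq_one_of_invSet_eq_empty hmem (Finset.eq_empty_iff_forall_notMem.2 fun s hs => ?_)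
    obtain ⟨hs1, hs2⟩ := C.hR.mem_invSet.1 hs
    rw [Equiv.Perm.mul_apply] at hs2
    set t := w⁻¹ (u s) with ht
    have h2 := hneg ⟨D.neg t, C.R.neg_lt t t.isLt⟩ ((C.R.isPos_neg_iff t.isLt).2 hs2)
    rw [C.hR.apply_neg hw t, C.R.isNeg_neg_iff (w t).isLt, ht, Equiv.Perm.inv_def,
      Equiv.apply_symm_apply] at h2
    exact C.R.not_pos_and_neg h2 (huneg s hs1)
  have e : φ.ρ * w * φ.ρ⁻¹ = w := (inv_mul_eq_one.1 h1).symm
  rwa [mul_inv_eq_iff_eq_mul] at e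

include g in
theorem fixU_pos : φ.fixU {r | D.IsPosRoot r} ≤ G1 ∧
    Nat.card ↥(φ.fixU {r | D.IsPosRoot r}) ^ d = Nat.card F ^ {r | D.IsPosRoot r}.ncard := by
  obtain ⟨w, hw, hc, hneg⟩ := exists_longest_commute (φ := φ)
  have he : C.hR.invRoots w = {r | D.IsPosRoot r} := by
    ext r
    exact ⟨fun ⟨_, hr⟩ => (C.hR.mem_invSet.1 hr).1,
      fun hr => ⟨hr.1, C.hR.mem_invSet.2 ⟨hr, hneg ⟨r, hr.1⟩ hr⟩⟩⟩
  have h := g.fix_invRoots hw hc
  rwa [← C.hR.ncard_invRoots, he] at h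

include g in
theorem card_U1 : Nat.card ↥(D.posUnipotent F ⊓ G1) ^ d =
    Nat.card F ^ {r | D.IsPosRoot r}.ncard := by
  obtain ⟨h1, h2⟩ := g.fixU_pos
  rwa [show D.posUnipotent F ⊓ G1 = φ.fixU {r | D.IsPosRoot r} from le_antisymm
    (by rw [Frob.fixU, ← C.posUnipotent_eq]; exact inf_le_inf_left _ g.le_fixed)
    (le_inf (by rw [C.posUnipotent_eq]; exact inf_le_left) h1)]

/-- The twist of `G1`. -/
noncomputable def twist : Twist (chevAmbient C) where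
  σ := φ.act
  σ_mul _ ha _ hb := φ.act_mul ha hb
  σ_U := φ.act_U
  σ_N := φ.act_N
  σ_V x _ hx := φ.act_V x hx
  G1 := G1
  le_G _ hx := (g.le_fixed hx).1
  fixed _ hx := (g.le_fixed hx).2
  U1_le _ hu he := g.fixU_pos.1 (Subgroup.mem_inf.2 ⟨C.posUnipotent_eq ▸ hu,
    C.borel_le_group (le_sup_left (b := D.diagonalSubgroup F) hu), he⟩)

open Classical in
/-- Number of inversions of a monomial element. -/
noncomputable def len (C : ChevCore D F) (n : GL D.Idx F) : ℕ :=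
  if h : n ∈ D.monomialSubgroup F then (C.hR.invSet (C.rootAction ⟨n, h⟩)).card else 0

omit [Fintype F] in
theorem len_eq {n : GL D.Idx F} (hn : n ∈ D.monomialSubgroup F) {w : Equiv.Perm (Fin D.nroots)}
    (hw : C.Moves n w) : len C n = (C.hR.invSet w).card := by
  rw [len, dif_pos hn, C.rootAction_eq (n := ⟨n, hn⟩) hw]

set_option maxHeartbeats 800000 in
/-- The reflection data of `G1`. -/
noncomputable def reflections : Twist.Reflections g.twist I where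
  s := g.s
  ℓ := len C
  s_mem i := ⟨g.s_mem_N i, g.s_mem i⟩
  sq_mem := g.sq_mem
  s_inj i k h := by
    have h1 : C.Moves ((g.s i)⁻¹ * g.s k) ((g.wJ i)⁻¹ * g.wJ k) :=
      ChevCore.Moves.mul C (ChevCore.Moves.inv C (g.s_mem_N i) (g.s_moves i)) (g.s_moves k)
    have h' : (g.s i)⁻¹ * g.s k ∈ C.R.torus.range := C.diagonalSubgroup_eq ▸ h
    obtain ⟨c, hc⟩ := h'
    have h2 : g.wJ i = g.wJ k := inv_mul_eq_one.1 (ChevCore.Moves.unique C h1 (hc ▸ C.moves_torus c))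
    by_contra hne
    obtain ⟨j, hj⟩ := O.nonempty i
    have h3 := g.wJ_neg i j hj
    rw [h2] at h3
    have h4 : D.IsPosRoot (g.wJ k ⟨D.simple j.val, C.R.simple_lt j⟩) := by
      refine (out_weyl C.hR (g.wJ_mem k) (s := ⟨D.simple j.val, C.R.simple_lt j⟩)
        ⟨C.R.simple_pos j, fun hs => ?_⟩).1
      have h5 := hs j fun hjk => hne (O.disj i k j hj hjk)
      rw [C.R.α_simple, Pi.single_eq_same] at h5
      exact one_ne_zero h5
    exact C.R.not_pos_and_neg h4 h3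
  split i u hu := by
    obtain ⟨a, ha, c, hc, rfl⟩ := exists_split C (O.J i) hu.1
    obtain ⟨haf, hcf⟩ := O.split_fixed i ha hc (g.le_fixed hu.2)
    exact ⟨a, ⟨Ucl_in_le C _ ha, g.twist.U1_le a (Ucl_in_le C _ ha) haf.2⟩,
      c, ⟨Ucl_out_le C _ hc, g.twist.U1_le c (Ucl_out_le C _ hc) hcf.2⟩, rfl,
      Ucl_negIn_le_V (conj_in (g.s_moves i) (g.wJ_mem i) (g.wJ_neg i) a ha),
      Ucl_out_le C _ (conj_out (g.s_moves i) (g.wJ_mem i) c hc)⟩
  root_nontrivial i := by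
    obtain ⟨v, hv1, hv, hne⟩ := g.neg_elt i
    set a := g.s i * v * (g.s i)⁻¹ with ha
    have haU : a ∈ D.posUnipotent F := by
      refine C.conj_Ucl_le (g.s_moves i) (T := D.posUnipotent F)
        (fun r hr t => C.xGL_mem_posUnipotent ?_ t) v hv
      refine (C.R.pos_or_neg (g.wJ i r).isLt).resolve_right fun hneg => ?_
      have h1 : (D.neg (r : ℕ)) ∈ inRoots C.R (O.J i) :=
        ⟨(C.R.isPos_neg_iff r.isLt).2 hr.1, fun m hm => by
          rw [C.R.α_neg _ r.isLt, Pi.neg_apply, hr.2 m hm, neg_zero]⟩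
      have h2 := neg_of_supp C.hR (C.hR.weylSub_le _ (g.wJ_mem i)) (g.wJ_neg i)
        (s := ⟨D.neg r, C.R.neg_lt r r.isLt⟩) h1
      rw [C.hR.apply_neg (C.hR.weylSub_le _ (g.wJ_mem i)) r,
        C.R.isNeg_neg_iff (g.wJ i r).isLt] at h2
      exact C.R.not_pos_and_neg h2 hneg
    refine ⟨a, ⟨haU, (show a ∈ G1 from mul_mem (mul_mem (g.s_mem i) hv1) (inv_mem (g.s_mem i)))⟩,
      fun e => hne (conj_eq_one_iff.1 e), ?_⟩
    show g.s i * a * (g.s i)⁻¹ ∈ D.negUnipotent F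
    have hd : g.s i * g.s i ∈ D.diagonalSubgroup F := g.sq_mem i
    have h3 := (Subgroup.mem_normalizer_iff.1 (C.diagonal_normalizes_neg hd) v).1 (Ucl_negIn_le_V hv)
    rwa [show g.s i * a * (g.s i)⁻¹ = g.s i * g.s i * v * (g.s i * g.s i)⁻¹ by rw [ha]; group]
  rank_one i a ha hane haV := by
    have haI := mem_in_of_conj (g.s_moves i) (g.wJ_mem i) (g.wJ_neg i) ha.1 haV
    have hy : g.s i * a * (g.s i)⁻¹ ∈ G1 :=
      mul_mem (mul_mem (g.s_mem i) ha.2) (inv_mem (g.s_mem i))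
    have hyN := conj_in (g.s_moves i) (g.wJ_mem i) (g.wJ_neg i) a haI
    obtain ⟨x, hx, n, hn, z, hz, hV, e⟩ := g.twist.nf hy
    have hB : ∀ {y}, y ∈ D.posUnipotent F → y ∈ D.borelSubgroup F := fun hy =>
      le_sup_left (b := D.diagonalSubgroup F) hy
    obtain ⟨m, hm, ⟨w, hw, hmv⟩, hcell⟩ := exists_cell_neg C (O.J i) hyN
    obtain ⟨w', hw', -⟩ := C.exists_moves hn.1
    have hww : w' = w := by
      refine C.moves_eq_of_mem hn.1 hm hw' hmv ?_
      have := C.bigCell_mul hcell (inv_mem (hB hx.1)) (inv_mem (hB hz.1))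
      rwa [e, show x⁻¹ * (x * n * z) * z⁻¹ = n by group] at this
    subst hww
    have hne : C.hR.invSet w' ≠ ∅ := by
      intro h
      have h1 := C.hR.eq_one_of_invSet_eq_empty (C.hR.weylSub_le _ hw) h
      refine hane (conj_eq_one_iff.1 ((Subgroup.eq_bot_iff_forall _).1 C.borel_inf_negUnipotent _
        (Subgroup.mem_inf.2 ⟨?_, Ucl_negIn_le_V hyN⟩)))
      rw [e]
      exact mul_mem (mul_mem (hB hx.1) (le_sup_right (a := D.posUnipotent F)
        (C.mem_diagonal_of_moves_one hn.1 (h1 ▸ hw')))) (hB hz.1)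
    obtain ⟨j, hj, hjn⟩ := C.hR.weylSub_exists_neg hw hne
    have hneg := O.all_neg (φ.commute_of_fixed hn.1 hw' (g.le_fixed hn.2).2) hj hjn
    have hws : (g.wJ i)⁻¹ * w' = 1 := by
      rw [inv_eq_of_mul_eq_one_right (g.wJ_mul_self i)]
      exact mul_eq_one_of_neg C.hR (g.wJ_mem i) (g.wJ_neg i) hw hneg
    have hh : (g.s i)⁻¹ * n ∈ D.diagonalSubgroup F :=
      C.mem_diagonal_of_moves_one (mul_mem (inv_mem (g.s_mem_N i)) hn.1)
        (hws ▸ ChevCore.Moves.mul C (ChevCore.Moves.inv C (g.s_mem_N i) (g.s_moves i)) hw')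
    refine ⟨x, hx, (g.s i)⁻¹ * n, ⟨hh, (show (g.s i)⁻¹ * n ∈ G1 from mul_mem (inv_mem (g.s_mem i)) hn.2)⟩, z, hz, ?_,
      by rw [e]; group⟩
    exact Ucl_negIn_le_V (conj_in (g.s_moves i) (g.wJ_mem i) (g.wJ_neg i) z
      (mem_in_of_conj hw' hw hneg hz.1 hV))
  dichotomy i n hn := by
    obtain ⟨w, hw, hw'⟩ := C.exists_moves hn.1
    have hc : Commute φ.ρ w⁻¹ := (φ.commute_of_fixed hn.1 hw (g.le_fixed hn.2).2).inv_right
    have hrw : ∀ a ∈ g.twist.U1, g.s i * a * (g.s i)⁻¹ ∈ D.negUnipotent F →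
        a ∈ C.Ucl (inRoots C.R (O.J i)) := fun a ha haV =>
      mem_in_of_conj (g.s_moves i) (g.wJ_mem i) (g.wJ_neg i) ha.1 haV
    by_cases hex : ∃ j ∈ O.J i, D.IsNegRoot (w⁻¹ ⟨D.simple j.val, C.R.simple_lt j⟩)
    · obtain ⟨j, hj, hjn⟩ := hex
      have hneg := O.all_neg hc hj hjn
      refine Or.inr fun a ha haV => ?_
      have h1 := conj_in (ChevCore.Moves.inv C (g.s_mem_N i) (g.s_moves i)) (inv_mem (g.wJ_mem i))
        (inv_eq_of_mul_eq_one_right (g.wJ_mul_self i) ▸ g.wJ_neg i) a (hrw a ha haV)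
      rw [inv_inv] at h1
      have h2 := C.conj_Ucl_le hw' (T := D.posUnipotent F) (fun r hr t => C.xGL_mem_posUnipotent ?_ t) _ h1
      · show (g.s i * n)⁻¹ * a * (g.s i * n) ∈ D.posUnipotent F
        rwa [inv_inv, show n⁻¹ * ((g.s i)⁻¹ * a * g.s i) * n = (g.s i * n)⁻¹ * a * (g.s i * n) by group]
          at h2
      · have h3 := neg_of_supp C.hR hw'.1 hneg (s := ⟨D.neg r, C.R.neg_lt r r.isLt⟩)
          ⟨(C.R.isPos_neg_iff r.isLt).2 hr.1, fun m hm => by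
            rw [C.R.α_neg _ r.isLt, Pi.neg_apply, hr.2 m hm, neg_zero]⟩
        rwa [C.hR.apply_neg hw'.1 r, C.R.isNeg_neg_iff (w⁻¹ r).isLt] at h3
    · push Not at hex
      refine Or.inl fun a ha haV => ?_
      have h2 := C.conj_Ucl_le hw' (T := D.posUnipotent F) (fun r hr t => C.xGL_mem_posUnipotent
        (pos_of_supp C.hR hw'.1 (fun j hj => (C.R.pos_or_neg (w⁻¹ _).isLt).resolve_right (hex j hj))
          hr) t) a (hrw a ha haV)
      rwa [inv_inv] at h2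
  descent n hn hnH := by
    obtain ⟨w, hw, -⟩ := C.exists_moves hn.1
    have hne : C.hR.invSet w ≠ ∅ := fun h => hnH (C.mem_diagonal_of_moves_one hn.1
      (C.hR.eq_one_of_invSet_eq_empty hw.1 h ▸ hw))
    obtain ⟨i, hi⟩ := Gens.exists_orbit_neg (O := O) hw.1 (φ.commute_of_fixed hn.1 hw (g.le_fixed hn.2).2) hne
    obtain ⟨hcard, hpos⟩ := g.all_neg_descent hw.1 i hi
    refine ⟨i, ?_⟩
    rw [len_eq hn.1 hw, len_eq (mul_mem hn.1 (g.s_mem_N i)) (ChevCore.Moves.mul C hw (g.s_moves i))]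
    omega

include g in
/-- The (B, N)-pair of `G1`. -/
theorem exists_bnPair : ∃ P : Cfsg.BNPair ↥G1,
    P.B = (D.borelSubgroup F ⊓ G1).subgroupOf G1 ∧ P.N = (D.monomialSubgroup F ⊓ G1).subgroupOf G1 :=
  ⟨g.reflections.bnPair, rfl, rfl⟩

end Gens

end CfsgLib.Twisted
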