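import Cfsg.Agent.Lib.ChevField.Fixed
import Cfsg.Agent.Lib.Twisted.Monomial
import Cfsg.Agent.Lib.Twisted.EndUses
import Cfsg.Agent.Lib.Twisted.Orbits

/-!
Endomorphisms `x_r(t) ↦ x_{ρ r}(± t ^ e)` from the checked symmetries composed with a power of the
Frobenius map, and tools to read off their fixed points level by level.
-/

set_option autoImplicit false

namespace CfsgLib.Twisted

open Cfsg.Lie CfsgLib.ChevStr
open scoped MatrixGroups

variable {D : ChevalleyDatum} {F : Type*} [Field F]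

/-- Compatibility of a root map with signs and negation. -/
def rootMapCheck (D : ChevalleyDatum) (root rinv : ℕ → ℕ) : Bool :=
  (List.range D.nroots).all fun r =>
    decide (root r < D.nroots) && decide (rinv r < D.nroots) && decide (rinv (root r) = r) &&
      decide (root (rinv r) = r) && (!decide (D.IsPosRoot r) || decide (D.IsPosRoot (root r))) &&
      decide (root (D.neg r) = D.neg (root r))

theorem rootMapCheck_spec {root rinv : ℕ → ℕ} (h : rootMapCheck D root rinv = true) {r : ℕ}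
    (hr : r < D.nroots) : root r < D.nroots ∧ rinv r < D.nroots ∧ rinv (root r) = r ∧
      root (rinv r) = r ∧ (D.IsPosRoot r → D.IsPosRoot (root r)) ∧
      root (D.neg r) = D.neg (root r) := by
  simp only [rootMapCheck, Bool.and_eq_true, List.all_eq_true, List.mem_range, Bool.or_eq_true,
    decide_eq_true_eq, Bool.not_eq_true', decide_eq_false_iff_not] at h
  obtain ⟨⟨⟨⟨⟨a, b⟩, c⟩, d⟩, e⟩, f⟩ := h r hr
  exact ⟨a, b, c, d, fun hp => e.resolve_left fun hn => hn hp, f⟩

/-- The permutation of the roots of a checked root map. -/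
def rootPerm (root rinv : ℕ → ℕ) (h : rootMapCheck D root rinv = true) :
    Equiv.Perm (Fin D.nroots) where
  toFun r := ⟨root r, (rootMapCheck_spec h r.2).1⟩
  invFun r := ⟨rinv r, (rootMapCheck_spec h r.2).2.1⟩
  left_inv r := Fin.ext (rootMapCheck_spec h r.2).2.2.1
  right_inv r := Fin.ext (rootMapCheck_spec h r.2).2.2.2.1

section build

variable (C : ChevCore D F) (p n : ℕ) [ExpChar F p]

/-- The field endomorphism `t ↦ t ^ p ^ n` of the group. -/
noncomputable def fieldEnd : ↥(D.group F) →* ↥(D.group F) :=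
  ((CfsgLib.ChevField.mapGL (D := D) (iterateFrobenius F p n)).comp (D.group F).subtype).codRestrict
    (D.group F) fun x => CfsgLib.ChevField.group_map_le (iterateFrobenius F p n) (Subgroup.mem_map_of_mem _ x.2)

theorem fieldEnd_x (r : ℕ) (t : F) :
    (fieldEnd p n ⟨C.xGL r t, C.xGL_mem_group r t⟩ : GL D.Idx F) = C.xGL r (t ^ p ^ n) := by
  refine Units.ext ?_
  show (CfsgLib.ChevField.mapGL (D := D) (iterateFrobenius F p n) (C.xGL r t) :
    Matrix D.Idx D.Idx F) = _
  rw [CfsgLib.ChevField.coe_mapGL, C.coe_xGL, C.coe_xGL, CfsgLib.ChevField.x_map, iterateFrobenius_def]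

include p in
theorem neg_one_pow_expChar : (-1 : F) ^ p ^ n = -1 := by
  have h := map_neg (iterateFrobenius F p n) 1
  rwa [iterateFrobenius_def, iterateFrobenius_def, one_pow] at h

variable {P : SymData} (h : P.check D = true)
  (hm : rootMapCheck D P.root (fun r => P.rootsInv.getD r 0) = true)
  (hs : ∀ r : Fin D.nroots, P.sign (D.neg r) = P.sign r)

/-- A graph symmetry composed with `t ↦ t ^ p ^ n`. -/
noncomputable def symFrob : Frob C where
  ρ := rootPerm _ _ hm
  e _ := p ^ n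
  ε r := (P.sign r.val : F)
  endo := (SymData.autGroup h F).toMonoidHom.comp (fieldEnd p n)
  endo_x r t := by
    refine Units.ext ?_
    show ((SymData.autGroup h F (fieldEnd p n _) : GL D.Idx F) : Matrix D.Idx D.Idx F) = _
    rw [SymData.autGroup_x h F _ r.val (t ^ p ^ n) r.isLt (by rw [fieldEnd_x C p n r.val t, C.coe_xGL]),
      C.coe_xGL]
    rfl
  ε_unit r := by
    have h1 := ((SymData.of_check h).2.2 r r.2).2.2.2.2.1
    rcases Int.eq_one_or_neg_one_of_mul_eq_one h1 with e | e <;> simp [e]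
  e_pos _ := pow_pos (expChar_pos F p) n
  neg_pow _ := neg_one_pow_expChar p n
  ρ_pos r := (rootMapCheck_spec hm r.2).2.2.2.2.1
  ρ_neg r := (rootMapCheck_spec hm r.2).2.2.2.2.2
  e_neg _ := rfl
  ε_neg r := by rw [hs r]

end build

section sub

variable (C : ChevCore D F) {S : SubData} (h : S.check D = true) [CharP F S.p] [ExpChar F S.p]
  (hI : spanCheck D C.R.α (SubData.goodI S D) = true) (n : ℕ)
  (hm : rootMapCheck D S.root (fun r => S.rootsInv.getD r 0) = true)
  (hs : ∀ r : Fin D.nroots, S.ex (D.neg r) = S.ex r)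

/-- An exceptional symmetry composed with `t ↦ t ^ p ^ n`. -/
noncomputable def subFrob : Frob C where
  ρ := rootPerm _ _ hm
  e r := S.p ^ n * S.ex r.val
  ε _ := 1
  endo := (SubData.endGroup h F (SubData.faithI C h hI) (SubData.isUnit_xMat C)).comp (fieldEnd S.p n)
  endo_x r t := by
    refine Units.ext ?_
    show ((SubData.endGroup h F (SubData.faithI C h hI) (SubData.isUnit_xMat C) (fieldEnd S.p n _) :
      GL D.Idx F) : Matrix D.Idx D.Idx F) = _
    rw [SubData.endGroup_x h F (SubData.faithI C h hI) (SubData.isUnit_xMat C) _ r.val (t ^ S.p ^ n)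
      r.isLt (by rw [fieldEnd_x C S.p n r.val t, C.coe_xGL]), C.coe_xGL, one_mul, ← pow_mul]
    rfl
  ε_unit _ := Or.inl rfl
  e_pos r := by
    refine Nat.mul_pos (pow_pos (expChar_pos F S.p) n) ?_
    rcases ((SubData.of_check h).2.2 r r.2).2.2.2.1 with e | e <;> rw [e]
    · exact one_pos
    · exact expChar_pos F S.p
  neg_pow r := by
    rw [pow_mul, neg_one_pow_expChar S.p n]
    rcases ((SubData.of_check h).2.2 r r.2).2.2.2.1 with e | e <;> rw [e]
    · rw [pow_one]
    · simpa using neg_one_pow_expChar (F := F) S.p 1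
  ρ_pos r := (rootMapCheck_spec hm r.2).2.2.2.2.1
  ρ_neg r := (rootMapCheck_spec hm r.2).2.2.2.2.2
  e_neg r := by rw [hs r]
  ε_neg _ := rfl

end sub

/-! ### Lists of roots -/

/-- The set of a list of roots. -/
def listSet (L : List ℕ) : Set ℕ := {r | r ∈ L}

theorem listSet_nil : listSet [] = ∅ := Set.eq_empty_iff_forall_notMem.2 fun _ h => List.not_mem_nil h

/-- The conditions of one level: combinations drop, both parts are stable, one orbit is new. -/
def levelCheck (D : ChevalleyDatum) (α : ℕ → Fin D.rank → ℤ) (root : ℕ → ℕ) (L L' : List ℕ)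
    (r : ℕ) : Bool :=
  (L'.all fun k => L.contains k) && L.contains r && !L'.contains r &&
  (L.all fun a => decide (a < D.nroots) && decide (D.IsPosRoot a) && L.contains (root a)) &&
  (L.all fun k => L'.contains k || (!L'.contains (root k) &&
    ((List.range (D.rank + 1)).any fun m => root^[m] r == k) &&
    (L.all fun a => L.all fun b => (List.finRange D.rank).any fun i =>
      decide (α k i < α a i + α b i))))

namespace Frob

variable {C : ChevCore D F} (φ : Frob C)

theorem pow_val {root : ℕ → ℕ} (hρ : ∀ r : Fin D.nroots, (φ.ρ r : ℕ) = root r) (r : Fin D.nroots) :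
    ∀ m : ℕ, ((φ.ρ ^ m) r : ℕ) = root^[m] r.val
  | 0 => rfl
  | m + 1 => by
    rw [pow_succ', Equiv.Perm.mul_apply, hρ, pow_val hρ r m, Function.iterate_succ_apply']

theorem of_levelCheck {root : ℕ → ℕ} {L L' : List ℕ} {r : ℕ}
    (hc : levelCheck D C.R.α root L L' r = true) :
    (∀ k ∈ L', k ∈ L) ∧ r ∈ L ∧ r ∉ L' ∧
    (∀ a ∈ L, a < D.nroots ∧ D.IsPosRoot a ∧ root a ∈ L) ∧
    ∀ k ∈ L, k ∈ L' ∨ (root k ∉ L' ∧ (∃ m < D.rank + 1, root^[m] r = k) ∧
      ∀ a ∈ L, ∀ b ∈ L, ∃ i, C.R.α k i < C.R.α a i + C.R.α b i) := by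
  have hne : ∀ {l : List ℕ} {k : ℕ}, l.contains k = false → k ∉ l := fun h hm => by
    rw [List.contains_iff_mem.2 hm] at h; exact Bool.noConfusion h
  simp only [levelCheck, Bool.and_eq_true, List.all_eq_true, List.any_eq_true, List.mem_range,
    List.contains_iff_mem, Bool.or_eq_true, Bool.not_eq_true', beq_iff_eq, decide_eq_true_eq,
    List.mem_finRange, true_and] at hc
  obtain ⟨⟨⟨⟨h1, h2⟩, h3⟩, h4⟩, h5⟩ := hc
  refine ⟨h1, h2, hne h3, fun a ha => ⟨(h4 a ha).1.1, (h4 a ha).1.2, (h4 a ha).2⟩, fun k hk => ?_⟩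
  rcases h5 k hk with h | ⟨⟨ha, hb⟩, hc⟩
  · exact Or.inl h
  · exact Or.inr ⟨hne ha, hb, hc⟩

/-- The level of a checked pair of lists. -/
theorem level_of_check {root : ℕ → ℕ} {L L' : List ℕ} {r : ℕ}
    (hc : levelCheck D C.R.α root L L' r = true) (hL : C.R.IsClosed (listSet L)) :
    C.Level (listSet L) (listSet L') ∧ C.R.IsClosed (listSet L') := by
  obtain ⟨h1, -, -, h4, h5⟩ := of_levelCheck hc
  have hlev : C.Level (listSet L) (listSet L') := by
    refine ⟨fun a ha => (h4 a ha).2.1, fun k hk => h1 k hk, fun a ha b hb k hk => ?_⟩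
    by_contra hk'
    have hkL : k ∈ L := hL.2 a ha b hb k hk
    obtain ⟨i, hi⟩ := ((h5 k hkL).resolve_left hk').2.2 a ha b hb
    obtain ⟨-, x, y, hx, hy, hxy⟩ := hk
    rw [hxy] at hi
    simp only [Pi.add_apply, Pi.smul_apply, smul_eq_mul] at hi
    have ha0 : 0 ≤ C.R.α a i := ((C.R.isPos_iff a).1 (h4 a ha).2.1).2 i
    have hb0 : 0 ≤ C.R.α b i := ((C.R.isPos_iff b).1 (h4 b hb).2.1).2 i
    nlinarith
  exact ⟨hlev, fun a ha => hlev.pos a (hlev.sub ha), fun a ha b hb k hk =>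
    hlev.combo a (hlev.sub ha) b (hlev.sub hb) k hk⟩

theorem stable_of_check {root : ℕ → ℕ} (hρ : ∀ r : Fin D.nroots, (φ.ρ r : ℕ) = root r)
    {L L' : List ℕ} {r : ℕ} (hc : levelCheck D C.R.α root L L' r = true) : φ.Stable (listSet L) :=
  fun a ha => by
    show (φ.ρ a : ℕ) ∈ L
    rw [hρ]; exact ((of_levelCheck hc).2.2.2.1 a ha).2.2

/-- One level given by lists. -/
theorem level_list {root : ℕ → ℕ} (hρ : ∀ r : Fin D.nroots, (φ.ρ r : ℕ) = root r) {L L' : List ℕ}
    {r : Fin D.nroots} (hc : levelCheck D C.R.α root L L' r.val = true)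
    (hL : C.R.IsClosed (listSet L)) (P : Set F)
    (hP : ∀ g ∈ φ.fixU (listSet L), C.coord (listSet L) r g ∈ P)
    (G1 : Subgroup (GL D.Idx F)) (hG1 : G1 ≤ φ.fixedSub)
    (hgen : ∀ t ∈ P, ∃ x ∈ C.Ucl (listSet L), x ∈ G1 ∧ C.coord (listSet L) r x = t)
    (ih : φ.fixU (listSet L') ≤ G1) :
    φ.fixU (listSet L) ≤ G1 ∧
      Nat.card (φ.fixU (listSet L)) = Nat.card P * Nat.card (φ.fixU (listSet L')) := by
  obtain ⟨-, h2, h3, -, h5⟩ := of_levelCheck hc
  refine φ.level_step (level_of_check hc hL).1 (φ.stable_of_check hρ hc) (fun a ha ha' => ?_) r h2 h3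
    (fun k hk hk' => ?_) P hP G1 hG1 hgen ih
  · show (φ.ρ a : ℕ) ∉ L'
    rw [hρ]
    exact ((h5 a ha).resolve_left ha').1
  · obtain ⟨m, -, hm⟩ := ((h5 k hk).resolve_left hk').2.1
    exact ⟨m, Fin.ext (by rw [φ.pow_val hρ r m, hm])⟩

/-- The coordinate of a fixed element at a root fixed by the permutation. -/
theorem coord_fixed {root : ℕ → ℕ} (hρ : ∀ r : Fin D.nroots, (φ.ρ r : ℕ) = root r) {L L' : List ℕ}
    {r : Fin D.nroots} (hc : levelCheck D C.R.α root L L' r.val = true)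
    (hL : C.R.IsClosed (listSet L)) (hroot : root r.val = r.val) {g : GL D.Idx F}
    (hg : g ∈ φ.fixU (listSet L)) :
    φ.ε r * C.coord (listSet L) r g ^ φ.e r = C.coord (listSet L) r g := by
  obtain ⟨-, h2, h3, -, -⟩ := of_levelCheck hc
  have h := φ.coord_act (level_of_check hc hL).1 (φ.stable_of_check hρ hc) r h2 h3
    (by rw [hρ, hroot]; exact h3) (Subgroup.mem_inf.1 hg).1
  rw [(φ.mem_fixedSub.1 (Subgroup.mem_inf.1 hg).2).2, hρ, hroot] at h
  exact h.symm

theorem act_word {root : ℕ → ℕ} (hρ : ∀ r : Fin D.nroots, (φ.ρ r : ℕ) = root r) {a : ℕ}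
    (ha : a < D.nroots) (t : F) :
    φ.act (C.xGL a t) = C.xGL (root a) (φ.ε ⟨a, ha⟩ * t ^ φ.e ⟨a, ha⟩) := by
  rw [show C.xGL a t = C.xGL (⟨a, ha⟩ : Fin D.nroots) t from rfl, φ.act_x, hρ]

theorem genSubgroup_le_fixed {W : Set (List (ℕ × F))}
    (h : ∀ w ∈ W, φ.act (C.wordGL w) = C.wordGL w) : D.genSubgroup F W ≤ φ.fixedSub := by
  refine (Subgroup.closure_le _).2 ?_
  rintro x ⟨w, hw, hx⟩
  rw [show x = C.wordGL w from Units.ext (hx.trans (C.coe_wordGL w).symm)]
  exact φ.mem_fixedSub.2 ⟨C.wordGL_mem_group w, h w hw⟩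

end Frob

theorem inRoots_eq {R : RootData D} {J : Finset (Fin D.rank)} {L : List ℕ}
    (hb : ∀ r ∈ L, r < D.nroots)
    (h : ∀ r : Fin D.nroots, (r : ℕ) ∈ L ↔ D.IsPosRoot r ∧ SuppIn R J r) :
    inRoots R J = listSet L := by
  ext r
  exact ⟨fun hr => (h ⟨r, hr.1.1⟩).2 hr, fun hr => (h ⟨r, hb r hr⟩).1 hr⟩

theorem listSet_ncard {L : List ℕ} (h : L.Nodup) : (listSet L).ncard = L.length := by
  rw [show listSet L = (L.toFinset : Set ℕ) from (List.coe_toFinset L).symm, Set.ncard_coe_finset,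
    List.toFinset_card_of_nodup h]

/-- The number of fixed points of `t ↦ t ^ q`. -/
theorem card_pow_eq_self [Fintype F] {q : ℕ} (hq : 2 ≤ q)
    (hdvd : (q - 1) ∣ (Fintype.card F - 1)) : Nat.card {t : F | t ^ q = t} = q := by
  classical
  have hset : {t : F | t ^ q = t} =
      insert 0 ((fun u : Fˣ => (u : F)) '' ((powMonoidHom (q - 1) : Fˣ →* Fˣ).ker : Set Fˣ)) := by
    ext t
    simp only [Set.mem_insert_iff, Set.mem_image, SetLike.mem_coe, MonoidHom.mem_ker,
      powMonoidHom_apply, Set.mem_ofPred_eq]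
    have hq1 : q - 1 + 1 = q := by omega
    constructor
    · intro ht
      by_cases h0 : t = 0
      · exact Or.inl h0
      · refine Or.inr ⟨Units.mk0 t h0, Units.ext ?_, rfl⟩
        rw [Units.val_pow_eq_pow_val, Units.val_mk0, Units.val_one]
        refine mul_right_cancel₀ h0 ?_
        rw [← pow_succ, hq1, one_mul, ht]
    · rintro (rfl | ⟨u, hu, rfl⟩)
      · exact zero_pow (by omega)
      · have h1 := congrArg (fun x : Fˣ => (x : F)) hu
        simp only [Units.val_pow_eq_pow_val, Units.val_one] at h1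
        rw [← hq1, pow_succ, h1, one_mul]
  rw [Nat.card_coe_set_eq, hset, Set.ncard_insert_of_notMem (by simp),
    Set.ncard_image_of_injective _ Units.val_injective]
  show Nat.card ↥((powMonoidHom (q - 1) : Fˣ →* Fˣ).ker) + 1 = q
  rw [IsCyclic.card_powMonoidHom_ker, Nat.card_units, Nat.card_eq_fintype_card,
    Nat.gcd_eq_right hdvd]
  omega

end CfsgLib.Twisted

namespace CfsgLib.ChevStr.ChevCore

open Cfsg.Lie
open scoped MatrixGroups

variable {D : ChevalleyDatum} {F : Type*} [Field F] (C : ChevCore D F)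

theorem xGL_commute {r s : ℕ} (hr : r < D.nroots) (hs : s < D.nroots) (h1 : s ≠ r)
    (h2 : s ≠ D.neg r) (hterms : ∀ c ∈ D.commTerms r s, ((c.2.1 : ℤ) : F) = 0) (t u : F) :
    C.xGL s u * C.xGL r t = C.xGL r t * C.xGL s u := by
  rw [C.xGL_comm hr hs h1 h2,
    show C.wordGL (D.commWord F r s t u) = 1 from ?_, mul_one]
  refine List.prod_eq_one fun x hx => ?_
  simp only [ChevalleyDatum.commWord, List.map_map, List.mem_map, Function.comp] at hx
  obtain ⟨c, hc, rfl⟩ := hx
  simp [hterms c hc, C.xGL_zero]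

theorem wordGL_mem_Ucl {S : Set ℕ} {w : List (ℕ × F)} (h : ∀ p ∈ w, p.1 ∈ S) :
    C.wordGL w ∈ C.Ucl S :=
  Subgroup.list_prod_mem _ fun x hx => by
    obtain ⟨p, hp, rfl⟩ := List.mem_map.1 hx
    exact C.xGL_mem_Ucl (h p hp) _

theorem wordGL_mem_gen {W : Set (List (ℕ × F))} {w : List (ℕ × F)} (hw : w ∈ W) :
    C.wordGL w ∈ D.genSubgroup F W :=
  Subgroup.subset_closure ⟨w, hw, C.coe_wordGL w⟩

/-- A product of negative root elements with non-zero coefficient at a fundamental one. -/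
theorem wordGL_neg_ne_one (i : Fin D.rank) {c : F} (hc : c ≠ 0) {w : List (ℕ × F)}
    (hw : ∀ p ∈ w, D.IsNegRoot p.1 ∧ p.1 ≠ D.neg (D.simple i.val)) :
    C.wordGL ((D.neg (D.simple i.val), c) :: w) ≠ 1 := by
  intro h
  rw [C.wordGL_cons] at h
  set x := C.xGL (D.neg (D.simple i.val)) c
  have hy : C.nS i * C.wordGL w * (C.nS i)⁻¹ ∈ D.negUnipotent F := by
    refine C.conj_Ucl_le (Acts.moves C (C.acts_nS i)) (S := {r | D.IsNegRoot r ∧ r ≠ D.neg (D.simple i.val)})
      (fun r hr t => C.xGL_mem_negUnipotent ?_ t) _ (C.wordGL_mem_Ucl hw)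
    refine (C.R.pos_or_neg (C.hR.sPerm i r).isLt).resolve_left fun hp => ?_
    have h1 := C.hR.refl_pos i ((C.R.isPos_neg_iff r.isLt).2 hr.1) fun e => hr.2 (by
      rw [← e, C.R.neg_neg _ r.isLt])
    have h2 := C.hR.apply_neg (C.hR.sPerm_mem i) r
    rw [C.hR.sPerm_val] at h2
    rw [h2, C.R.isPos_neg_iff (C.hR.sPerm i r).isLt] at h1
    exact C.R.not_pos_and_neg hp h1
  obtain ⟨u, hu⟩ := (Acts.moves C (C.acts_nS i)).2 (C.pNeg i) c
  rw [C.sPerm_pNeg] at hu
  have h2 : C.nS i * x * (C.nS i)⁻¹ = 1 := by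
    refine (Subgroup.eq_bot_iff_forall _).1 C.borel_inf_negUnipotent _ (Subgroup.mem_inf.2 ⟨?_, ?_⟩)
    · rw [show C.nS i * x * (C.nS i)⁻¹ = _ from hu]
      exact C.pos_mem_borel (C.R.simple_pos i) u
    · rw [show x = (C.wordGL w)⁻¹ from eq_inv_of_mul_eq_one_left h,
        show C.nS i * (C.wordGL w)⁻¹ * (C.nS i)⁻¹ = (C.nS i * C.wordGL w * (C.nS i)⁻¹)⁻¹ by group]
      exact inv_mem hy
  exact hc ((C.xGL_eq_one_iff (C.R.neg_lt _ (C.R.simple_lt i))).1 (conj_eq_one_iff.1 h2))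

end CfsgLib.ChevStr.ChevCore
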