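import Cfsg.Agent.Lib.Twisted.Subquotient
import Cfsg.Prelude.Def_ChevB2
import Cfsg.Prelude.Def_ChevF4
import Cfsg.Prelude.Def_ChevG2

/-! The exceptional symmetries of the tables of type B2, F4 (characteristic 2) and G2 (3). -/

set_option autoImplicit false

namespace CfsgLib.Twisted

open Cfsg.Lie

/-- The exceptional symmetry of type B2. -/
def subB2 : SubData where
  p := 2
  inI := [true, false, false, true, true, false, false, true, true, false]
  img := [0, 0, 3, 0, 0, 4, 7, 0, 0, 8]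
  roots := [1, 0, 3, 2, 5, 4, 7, 6]
  rootsInv := [1, 0, 3, 2, 5, 4, 7, 6]
  expo := [1, 2, 2, 1, 1, 2, 2, 1]

theorem subB2_check : subB2.check chevB2 = true := by decide +kernel

/-- The exceptional symmetry of type F4. -/
def subF4 : SubData where
  p := 2
  inI := [true, true, false, false, false, false, false, true, false, false, false, true, true, true, true, true, true, true, true, false, false, false, true, true, true, false, false, false, false, false, false, true, true, true, false, false, false, true, true, true, true, true, true, true, true, false, false, false, true, false, false, false]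
  img := [0, 0, 1, 0, 7, 11, 12, 0, 13, 15, 22, 0, 0, 0, 0, 0, 0, 0, 0, 14, 16, 23, 0, 0, 0, 17, 24, 18, 37, 31, 38, 0, 0, 0, 32, 39, 41, 0, 0, 0, 0, 0, 0, 0, 0, 33, 40, 42, 0, 43, 44, 48]
  roots := [3, 7, 8, 0, 9, 11, 18, 1, 2, 4, 15, 5, 16, 21, 23, 10, 12, 19, 6, 17, 22, 13, 20, 14, 33, 27, 34, 25, 30, 41, 28, 35, 37, 24, 26, 31, 42, 32, 43, 45, 46, 29, 36, 38, 47, 39, 40, 44]
  rootsInv := [3, 7, 8, 0, 9, 11, 18, 1, 2, 4, 15, 5, 16, 21, 23, 10, 12, 19, 6, 17, 22, 13, 20, 14, 33, 27, 34, 25, 30, 41, 28, 35, 37, 24, 26, 31, 42, 32, 43, 45, 46, 29, 36, 38, 47, 39, 40, 44]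
  expo := [1, 1, 1, 2, 1, 1, 1, 2, 2, 2, 2, 2, 2, 2, 2, 1, 1, 1, 2, 2, 2, 1, 1, 1, 1, 1, 1, 2, 2, 2, 1, 1, 1, 2, 2, 2, 2, 2, 2, 2, 2, 1, 1, 1, 2, 1, 1, 1]

theorem subF4_check : subF4.check chevF4 = true := by decide +kernel

/-- The exceptional symmetry of type G2. -/
def subG2 : SubData where
  p := 3
  inI := [true, false, false, false, true, true, true, false, false, true, true, true, false, false]
  img := [0, 0, 4, 5, 0, 0, 0, 6, 9, 0, 0, 0, 10, 11]
  roots := [2, 3, 0, 1, 5, 4, 7, 6, 10, 11, 8, 9]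
  rootsInv := [2, 3, 0, 1, 5, 4, 7, 6, 10, 11, 8, 9]
  expo := [1, 1, 3, 3, 3, 1, 1, 3, 3, 3, 1, 1]

theorem subG2_check : subG2.check chevG2 = true := by decide +kernel

end CfsgLib.Twisted
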