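import Cfsg.Agent.Lib.Twisted.Faithful
import Cfsg.Agent.Lib.Twisted.SubTables
import Cfsg.Agent.Lib.ChevStr.RootTables

/-! The root spans needed for faithfulness of the two halves in types B2, F4 and G2. -/

set_option autoImplicit false

namespace CfsgLib.Twisted

open Cfsg.Lie CfsgLib.ChevStr

theorem spanI_G2 : spanCheck chevG2 rootDataG2.α (SubData.goodI subG2 chevG2) = true := by decide +kernel
theorem spanQ_G2 : spanCheck chevG2 rootDataG2.α (SubData.goodQ subG2 chevG2) = true := by decide +kernel
theorem spanI_B2 : spanCheck chevB2 rootDataB2.α (SubData.goodI subB2 chevB2) = true := by decide +kernel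
theorem spanQ_B2 : spanCheck chevB2 rootDataB2.α (SubData.goodQ subB2 chevB2) = true := by decide +kernel
theorem spanI_F4 : spanCheck chevF4 rootDataF4.α (SubData.goodI subF4 chevF4) = true := by decide +kernel
theorem spanQ_F4 : spanCheck chevF4 rootDataF4.α (SubData.goodQ subF4 chevF4) = true := by decide +kernel

end CfsgLib.Twisted
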