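import Cfsg.Agent.Lib.Twisted.FrobBuild
import Cfsg.Agent.Lib.Twisted.SpanTables
import Cfsg.Agent.Lib.ChevStr.InstanceTables
import Cfsg.Prelude.Def_LieTwisted

/-! The twisted group ²F₄: the endomorphism, its orbits and the generators of the fixed group. -/

set_option autoImplicit false

namespace CfsgLib.Twisted

open Cfsg.Lie CfsgLib.ChevStr
open scoped MatrixGroups

theorem f4_rootMap :
    rootMapCheck chevF4 subF4.root (fun r => subF4.rootsInv.getD r 0) = true := by decide +kernel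

theorem f4_ex : ∀ r : Fin chevF4.nroots, subF4.ex (chevF4.neg r) = subF4.ex r := by decide +kernel

/-- The permutation of the roots of type F4. -/
def rhoF4 : Equiv.Perm (Fin chevF4.nroots) := rootPerm _ _ f4_rootMap

/-- The orbits on the fundamental roots. -/
def nodesF4 : Fin 2 → Finset (Fin chevF4.rank)
  | 0 => {⟨0, by decide⟩, ⟨3, by decide⟩}
  | 1 => {⟨1, by decide⟩, ⟨2, by decide⟩}

theorem orbF4_facts : (∀ j, ∃ i, j ∈ nodesF4 i) ∧
    (∀ i k j, j ∈ nodesF4 i → j ∈ nodesF4 k → i = k) ∧ (∀ i, (nodesF4 i).Nonempty) := by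
  decide +kernel

theorem orbF4_trans : ∀ i, ∀ j ∈ nodesF4 i, ∀ k ∈ nodesF4 i, ∃ m : Fin (chevF4.rank + 1),
    ((rhoF4 ^ m.val) ⟨chevF4.simple j.val, rootDataF4.simple_lt j⟩ : ℕ) = chevF4.simple k.val := by
  decide +kernel

theorem orbF4_supp : ∀ i, ∀ r : Fin chevF4.nroots, SuppIn rootDataF4 (nodesF4 i) r →
    SuppIn rootDataF4 (nodesF4 i) (rhoF4 r) := by decide +kernel

/-- The orbit data of type F4. -/
def orbF4 : OrbitData rootDataF4 rhoF4 (Fin 2) where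
  J := nodesF4
  cover := orbF4_facts.1
  disj := orbF4_facts.2.1
  nonempty := orbF4_facts.2.2
  trans := orbF4_trans
  ρ_supp := orbF4_supp

variable (K : Type*) [Field K] [CharP K 2] (m : ℕ)

/-- The endomorphism of F4. -/
noncomputable def frobF4 : Frob (coreF4 K) :=
  haveI : CharP K subF4.p := (inferInstance : CharP K 2)
  haveI : ExpChar K subF4.p := ExpChar.prime Nat.prime_two
  subFrob (coreF4 K) subF4_check spanI_F4 m f4_rootMap f4_ex

theorem frobF4_act {a : ℕ} (ha : a < chevF4.nroots) (t : K) :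
    (frobF4 K m).act ((coreF4 K).xGL a t) =
      (coreF4 K).xGL (subF4.root a) (t ^ (2 ^ m * subF4.ex a)) := by
  rw [(frobF4 K m).act_word (root := subF4.root) (fun _ => rfl) ha t]
  show (coreF4 K).xGL (subF4.root a) ((1 : K) * t ^ (2 ^ m * subF4.ex a)) = _
  rw [one_mul]

/-- The roots of each orbit. -/
def rootsF4 : Fin 2 → List ℕ
  | 0 => [f4p1, f4p4]
  | 1 => [f4a, f4b, f4ab, f4aab]

theorem rootsF4_spec : ∀ i, (∀ r ∈ rootsF4 i, r < chevF4.nroots) ∧ (rootsF4 i).Nodup ∧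
    ∀ r : Fin chevF4.nroots, (r : ℕ) ∈ rootsF4 i ↔
      chevF4.IsPosRoot r ∧ SuppIn rootDataF4 (nodesF4 i) r := by
  decide +kernel

theorem inF4 (i : Fin 2) : inRoots (coreF4 K).R (nodesF4 i) = listSet (rootsF4 i) :=
  inRoots_eq (rootsF4_spec i).1 (rootsF4_spec i).2.2

theorem f4_pair : ∀ rs ∈ [(f4p1, f4p4), (f4m1, f4m4)],
    rs.1 < chevF4.nroots ∧ rs.2 < chevF4.nroots ∧ subF4.root rs.1 = rs.2 ∧
    subF4.root rs.2 = rs.1 ∧ subF4.ex rs.1 = 2 ∧ subF4.ex rs.2 = 1 ∧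
    rs.2 ≠ rs.1 ∧ rs.2 ≠ chevF4.neg rs.1 ∧ chevF4.commTerms rs.1 rs.2 = [] := by
  decide +kernel

theorem f4_quad : ∀ qs ∈ [((f4a, f4b), (f4ab, f4aab)), ((f4ma, f4mb), (f4mab, f4maab))],
    (qs.1.1 < chevF4.nroots ∧ qs.1.2 < chevF4.nroots ∧ qs.2.1 < chevF4.nroots ∧
      qs.2.2 < chevF4.nroots) ∧
    (subF4.root qs.1.1 = qs.1.2 ∧ subF4.root qs.1.2 = qs.1.1 ∧ subF4.root qs.2.1 = qs.2.2 ∧
      subF4.root qs.2.2 = qs.2.1) ∧
    (subF4.ex qs.1.1 = 2 ∧ subF4.ex qs.1.2 = 1 ∧ subF4.ex qs.2.1 = 2 ∧ subF4.ex qs.2.2 = 1) ∧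
    (qs.1.2 ≠ qs.1.1 ∧ qs.1.2 ≠ chevF4.neg qs.1.1 ∧
      (chevF4.commTerms qs.1.1 qs.1.2 = [(qs.2.1, -1, 1, 1), (qs.2.2, -1, 2, 1)] ∨
        chevF4.commTerms qs.1.1 qs.1.2 = [(qs.2.1, 1, 1, 1), (qs.2.2, -1, 2, 1)])) ∧
    (qs.2.2 ≠ qs.2.1 ∧ qs.2.2 ≠ chevF4.neg qs.2.1 ∧ chevF4.commTerms qs.2.1 qs.2.2 = []) := by
  decide +kernel

theorem fixed_pairF4 (hq : ∀ t : K, t ^ (2 * (2 ^ m * 2 ^ m)) = t) {r rbar : ℕ}
    (h : (r, rbar) ∈ [(f4p1, f4p4), (f4m1, f4m4)]) (t : K) :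
    (frobF4 K m).act ((coreF4 K).wordGL (f4PairWord (2 ^ m) r rbar t)) =
      (coreF4 K).wordGL (f4PairWord (2 ^ m) r rbar t) := by
  obtain ⟨a, b, c, d, e, f, g, i, j⟩ := f4_pair _ h
  simp only [f4PairWord, ChevCore.wordGL_cons, ChevCore.wordGL_nil, mul_one]
  rw [(frobF4 K m).act_mul ((coreF4 K).xGL_mem_group _ _) ((coreF4 K).xGL_mem_group _ _),
    frobF4_act K m a, frobF4_act K m b, c, d, e, f, mul_one, ← pow_mul,
    show 2 ^ m * (2 ^ m * 2) = 2 * (2 ^ m * 2 ^ m) by ring, hq,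
    (coreF4 K).xGL_commute a b g i (by simp [j])]

theorem fixed_quadF4 (hq : ∀ t : K, t ^ (2 * (2 ^ m * 2 ^ m)) = t) {a b ab aab : ℕ}
    (h : ((a, b), (ab, aab)) ∈ [((f4a, f4b), (f4ab, f4aab)), ((f4ma, f4mb), (f4mab, f4maab))])
    (t u : K) :
    (frobF4 K m).act ((coreF4 K).wordGL (b2ClassWord (2 ^ m) a b ab aab t u)) =
      (coreF4 K).wordGL (b2ClassWord (2 ^ m) a b ab aab t u) := by
  obtain ⟨⟨la, lb, lab, laab⟩, ⟨ra, rb, rab, raab⟩, ⟨ea, eb, eab, eaab⟩, ⟨n1, n2, hT⟩,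
    n3, n4, hT'⟩ := f4_quad _ h
  have hmem : ∀ r (s : K), (coreF4 K).xGL r s ∈ chevF4.group K := (coreF4 K).xGL_mem_group
  set T := t ^ 2 ^ m with hTdef
  have hc : (coreF4 K).wordGL (chevF4.commWord K a b T t) =
      (coreF4 K).xGL ab (T * t) * (coreF4 K).xGL aab (T ^ 2 * t) := by
    rcases hT with e | e <;>
      simp [ChevalleyDatum.commWord, e, ChevCore.wordGL_cons, ChevCore.wordGL_nil,
        CharTwo.neg_eq]
  have hX : (t ^ (2 ^ m + 1) + u) ^ (2 ^ m * 2) = T ^ 2 * t + u ^ (2 * 2 ^ m) := by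
    rw [← pow_succ, add_pow_char_pow, pow_succ 2 m, ← pow_mul, mul_comm (2 ^ m) 2]
    congr 1
    rw [show (2 ^ m + 1) * (2 * 2 ^ m) = 2 * (2 ^ m * 2 ^ m) + 2 ^ m * 2 by ring, pow_add, hq,
      pow_mul, ← hTdef, mul_comm]
  simp only [b2ClassWord, ChevCore.wordGL_cons, ChevCore.wordGL_nil, mul_one]
  rw [(frobF4 K m).act_mul (hmem _ _) (mul_mem (hmem _ _) (mul_mem (hmem _ _) (hmem _ _))),
    (frobF4 K m).act_mul (hmem _ _) (mul_mem (hmem _ _) (hmem _ _)),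
    (frobF4 K m).act_mul (hmem _ _) (hmem _ _),
    frobF4_act K m la, frobF4_act K m lb, frobF4_act K m lab, frobF4_act K m laab,
    ra, rb, rab, raab, ea, eb, eab, eaab, mul_one, ← hTdef, hX,
    show (t ^ 2 ^ m) ^ (2 ^ m * 2) = t by
      rw [← pow_mul, show 2 ^ m * (2 ^ m * 2) = 2 * (2 ^ m * 2 ^ m) by ring, hq],
    show (u ^ (2 * 2 ^ m)) ^ 2 ^ m = u by rw [← pow_mul, mul_assoc, hq],
    ← mul_assoc ((coreF4 K).xGL b t) ((coreF4 K).xGL a T), (coreF4 K).xGL_comm la lb n1 n2, hc]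
  simp only [mul_assoc]
  congr 2
  rw [← mul_assoc ((coreF4 K).xGL aab (T ^ 2 * t)), ← (coreF4 K).xGL_add,
    show T ^ 2 * t + (T ^ 2 * t + u ^ (2 * 2 ^ m)) = u ^ (2 * 2 ^ m) by
      rw [← add_assoc, CharTwo.add_self_eq_zero, zero_add],
    (coreF4 K).xGL_commute lab laab n3 n4 (by simp [hT']), ← mul_assoc,
    ← (coreF4 K).xGL_add, pow_succ]

theorem fixedF4_words {w : List (ℕ × K)} (hq : ∀ t : K, t ^ (2 * (2 ^ m * 2 ^ m)) = t)
    (hw : w ∈ f4Words K (2 ^ m)) :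
    (frobF4 K m).act ((coreF4 K).wordGL w) = (coreF4 K).wordGL w := by
  rcases hw with ⟨t, rfl | rfl⟩ | ⟨t, u, rfl | rfl⟩
  · exact fixed_pairF4 K m hq (by simp) t
  · exact fixed_pairF4 K m hq (by simp) t
  · exact fixed_quadF4 K m hq (by simp) t u
  · exact fixed_quadF4 K m hq (by simp) t u

theorem levelF4 : levelCheck chevF4 rootDataF4.α subF4.root [f4p1, f4p4] [] f4p4 = true ∧
    levelCheck chevF4 rootDataF4.α subF4.root [f4a, f4b, f4ab, f4aab] [f4ab, f4aab] f4b = true ∧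
    levelCheck chevF4 rootDataF4.α subF4.root [f4ab, f4aab] [] f4ab = true := by decide +kernel

variable [Fintype K] {m}

section gens

variable (hn : Fintype.card K = 2 * (2 ^ m * 2 ^ m))
include hn

theorem le_fixedF4 : twistedF4 K (2 ^ m) ≤ (frobF4 K m).fixedSub :=
  (frobF4 K m).genSubgroup_le_fixed fun w hw =>
    fixedF4_words K m (fun t => by rw [← hn]; exact FiniteField.pow_card t) hw

theorem pairF4 :
    (frobF4 K m).fixU (listSet (rootsF4 0)) ≤ twistedF4 K (2 ^ m) ∧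
      Nat.card ↥((frobF4 K m).fixU (listSet (rootsF4 0))) = Fintype.card K := by
  have hcl : (coreF4 K).R.IsClosed (listSet [f4p1, f4p4]) := inF4 K 0 ▸ inRoots_closed _ _
  have hc := levelF4.1
  have hlev := (Frob.level_of_check (C := coreF4 K) hc hcl).1
  obtain ⟨h1, h2⟩ := (frobF4 K m).level_list (root := subF4.root) (fun _ => rfl)
    (r := ⟨f4p4, by decide⟩) hc hcl
    Set.univ (fun _ _ => Set.mem_univ _) _ (le_fixedF4 K hn) (fun t _ => by
      refine ⟨(coreF4 K).wordGL (f4PairWord (2 ^ m) f4p1 f4p4 t), ?_, ?_, ?_⟩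
      · exact (coreF4 K).wordGL_mem_Ucl (by simp [listSet, f4PairWord])
      · exact (coreF4 K).wordGL_mem_gen (Or.inl ⟨t, Or.inl rfl⟩)
      · rw [(coreF4 K).coord_wordGL hlev (by simp [listSet]) (by simp [listSet]) _
          (by simp [listSet, f4PairWord])]
        simp [f4PairWord, f4p1, f4p4])
    (by rw [listSet_nil, Frob.fixU_empty]; exact bot_le)
  refine ⟨h1, ?_⟩
  show Nat.card ↥((frobF4 K m).fixU (listSet [f4p1, f4p4])) = _
  rw [h2, listSet_nil, Frob.fixU_empty, Subgroup.card_bot, mul_one, Nat.card_coe_set_eq,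
    Set.ncard_univ, Nat.card_eq_fintype_card]

theorem classF4 :
    (frobF4 K m).fixU (listSet (rootsF4 1)) ≤ twistedF4 K (2 ^ m) ∧
      Nat.card ↥((frobF4 K m).fixU (listSet (rootsF4 1))) = Fintype.card K * Fintype.card K := by
  have hcl : (coreF4 K).R.IsClosed (listSet [f4a, f4b, f4ab, f4aab]) :=
    inF4 K 1 ▸ inRoots_closed _ _
  have hc := levelF4.2.1
  obtain ⟨hlev, hcl'⟩ := Frob.level_of_check (C := coreF4 K) hc hcl
  have hc' := levelF4.2.2
  have hlev' := (Frob.level_of_check (C := coreF4 K) hc' hcl').1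
  obtain ⟨h1', h2'⟩ := (frobF4 K m).level_list (root := subF4.root) (fun _ => rfl)
    (r := ⟨f4ab, by decide⟩) hc' hcl'
    Set.univ (fun _ _ => Set.mem_univ _) _ (le_fixedF4 K hn) (fun u _ => by
      have he : (coreF4 K).wordGL (b2ClassWord (2 ^ m) f4a f4b f4ab f4aab 0 u) =
          (coreF4 K).wordGL [(f4ab, u), (f4aab, u ^ (2 * 2 ^ m))] := by
        simp [b2ClassWord, ChevCore.wordGL_cons, (coreF4 K).xGL_zero]
      refine ⟨_, ?_, (coreF4 K).wordGL_mem_gen (Or.inr ⟨0, u, Or.inl rfl⟩), ?_⟩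
      · rw [he]; exact (coreF4 K).wordGL_mem_Ucl (by simp [listSet])
      · rw [he, (coreF4 K).coord_wordGL hlev' (by simp [listSet]) (by simp [listSet]) _
          (by simp [listSet])]
        simp [f4ab, f4aab])
    (by rw [listSet_nil, Frob.fixU_empty]; exact bot_le)
  obtain ⟨h1, h2⟩ := (frobF4 K m).level_list (root := subF4.root) (fun _ => rfl)
    (r := ⟨f4b, by decide⟩) hc hcl
    Set.univ (fun _ _ => Set.mem_univ _) _ (le_fixedF4 K hn) (fun t _ => by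
      refine ⟨(coreF4 K).wordGL (b2ClassWord (2 ^ m) f4a f4b f4ab f4aab t 0), ?_, ?_, ?_⟩
      · exact (coreF4 K).wordGL_mem_Ucl (by simp [listSet, b2ClassWord])
      · exact (coreF4 K).wordGL_mem_gen (Or.inr ⟨t, 0, Or.inl rfl⟩)
      · rw [(coreF4 K).coord_wordGL hlev (by simp [listSet]) (by simp [listSet, f4b, f4ab, f4aab]) _
          (by simp [listSet, b2ClassWord])]
        simp [b2ClassWord, f4a, f4b, f4ab, f4aab])
    h1'
  refine ⟨h1, ?_⟩
  show Nat.card ↥((frobF4 K m).fixU (listSet [f4a, f4b, f4ab, f4aab])) = _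
  rw [h2, h2', listSet_nil, Frob.fixU_empty, Subgroup.card_bot, mul_one, Nat.card_coe_set_eq,
    Set.ncard_univ, Nat.card_eq_fintype_card]

theorem gensF4 : Gens (frobF4 K m) orbF4 (twistedF4 K (2 ^ m)) 2 := by
  have key : ∀ i, (frobF4 K m).fixU (listSet (rootsF4 i)) ≤ twistedF4 K (2 ^ m) ∧
      Nat.card ↥((frobF4 K m).fixU (listSet (rootsF4 i))) ^ 2 =
        Fintype.card K ^ (rootsF4 i).length := by
    intro i
    fin_cases i
    · obtain ⟨a, b⟩ := pairF4 K hn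
      exact ⟨a, by show Nat.card ↥((frobF4 K m).fixU (listSet (rootsF4 0))) ^ 2 = _; rw [b]; rfl⟩
    · obtain ⟨a, b⟩ := classF4 K hn
      exact ⟨a, by
        show Nat.card ↥((frobF4 K m).fixU (listSet (rootsF4 1))) ^ 2 = Fintype.card K ^ 4
        rw [b]; ring⟩
  refine ⟨le_fixedF4 K hn, fun i => ?_, fun i => ?_, fun i => ?_⟩
  · show (frobF4 K m).fixU (inRoots (coreF4 K).R (nodesF4 i)) ≤ _
    rw [inF4]; exact (key i).1
  · show Nat.card ↥((frobF4 K m).fixU (inRoots (coreF4 K).R (nodesF4 i))) ^ 2 =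
      Nat.card K ^ (inRoots (coreF4 K).R (nodesF4 i)).ncard
    rw [inF4, listSet_ncard (rootsF4_spec i).2.1, Nat.card_eq_fintype_card (α := K)]
    exact (key i).2
  · have hN : ∀ i, ∀ r ∈ [[f4m1, f4m4], [f4ma, f4mb, f4mab, f4maab]].getD (i : Fin 2).val [],
        chevF4.IsNegRoot r ∧ SuppIn rootDataF4 (nodesF4 i) r := by decide +kernel
    have hs : chevF4.neg (chevF4.simple 3) = f4m4 ∧ chevF4.neg (chevF4.simple 2) = f4mb := by decide
    obtain ⟨s0, s1⟩ := hs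
    fin_cases i
    · refine ⟨(coreF4 K).wordGL [(f4m1, 1 ^ 2 ^ m), (f4m4, 1)],
        (coreF4 K).wordGL_mem_gen (Or.inl ⟨1, Or.inr rfl⟩),
        (coreF4 K).wordGL_mem_Ucl fun q hq => hN 0 q.1 (by
          simp only [List.mem_cons, List.not_mem_nil, or_false] at hq
          rcases hq with rfl | rfl <;> simp), ?_⟩
      obtain ⟨a, b, -, -, -, -, g, i', j⟩ := f4_pair (f4m1, f4m4) (by simp)
      rw [show (coreF4 K).wordGL [(f4m1, (1 : K) ^ 2 ^ m), (f4m4, 1)] =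
        (coreF4 K).wordGL [(f4m4, 1), (f4m1, 1)] by
          simp only [ChevCore.wordGL_cons, ChevCore.wordGL_nil, mul_one, one_pow]
          exact ((coreF4 K).xGL_commute a b g i' (by simp [j]) _ _).symm, ← s0]
      refine (coreF4 K).wordGL_neg_ne_one ⟨3, by decide⟩ one_ne_zero fun q hq => ?_
      rw [List.mem_singleton] at hq
      subst hq
      exact ⟨(hN 0 f4m1 (by simp)).1, show f4m1 ≠ chevF4.neg (chevF4.simple 3) by decide⟩
    · refine ⟨(coreF4 K).wordGL (b2ClassWord (2 ^ m) f4ma f4mb f4mab f4maab 1 1),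
        (coreF4 K).wordGL_mem_gen (Or.inr ⟨1, 1, Or.inr rfl⟩),
        (coreF4 K).wordGL_mem_Ucl fun q hq => hN 1 q.1 (by
          simp only [b2ClassWord, List.mem_cons, List.not_mem_nil, or_false] at hq
          rcases hq with rfl | rfl | rfl | rfl <;> simp), ?_⟩
      have h2 : subF4.root f4ma = f4mb ∧ chevF4.neg (chevF4.simple 1) = f4ma := by decide
      rw [b2ClassWord, ← h2.2]
      refine (coreF4 K).wordGL_neg_ne_one ⟨1, by decide⟩ (by simp) fun q hq => ?_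
      simp only [List.mem_cons, List.not_mem_nil, or_false] at hq
      rcases hq with rfl | rfl | rfl
      · exact ⟨(hN 1 f4mb (by simp)).1, show f4mb ≠ chevF4.neg (chevF4.simple 1) by decide⟩
      · exact ⟨(hN 1 f4mab (by simp)).1, show f4mab ≠ chevF4.neg (chevF4.simple 1) by decide⟩
      · exact ⟨(hN 1 f4maab (by simp)).1, show f4maab ≠ chevF4.neg (chevF4.simple 1) by decide⟩

end gens

omit [CharP K 2] in
theorem setupF4 {m : ℕ} (hK : Fintype.card K = 2 ^ (2 * m + 1)) :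
    CharP K 2 ∧ Fintype.card K = 2 * (2 ^ m * 2 ^ m) := by
  have : Fact (Nat.Prime 2) := ⟨Nat.prime_two⟩
  exact ⟨charP_of_card_eq_prime_pow hK, by rw [hK, two_mul m, pow_succ, pow_add, mul_comm]⟩

end CfsgLib.Twisted
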