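import Cfsg.Agent.Lib.Twisted.FrobBuild
import Cfsg.Agent.Lib.Twisted.GraphSym
import Cfsg.Agent.Lib.ChevStr.InstanceTables
import Cfsg.Prelude.Def_LieTwisted

/-! The twisted group ²E₆: the endomorphism, its orbits and the generators of the fixed group. -/

set_option autoImplicit false

namespace CfsgLib.Twisted

open Cfsg.Lie CfsgLib.ChevStr
open scoped MatrixGroups

theorem e6_rootMap :
    rootMapCheck chevE6 e6Sym.root (fun r => e6Sym.rootsInv.getD r 0) = true := by decide +kernel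

theorem e6_signs : ∀ r : Fin chevE6.nroots, e6Sym.sign (chevE6.neg r) = e6Sym.sign r := by
  decide +kernel

/-- The permutation of the roots of type E6. -/
def rhoE6 : Equiv.Perm (Fin chevE6.nroots) := rootPerm _ _ e6_rootMap

/-- The orbits on the fundamental roots. -/
def nodesE6 : Fin 4 → Finset (Fin chevE6.rank)
  | 0 => {⟨0, by decide⟩, ⟨5, by decide⟩}
  | 1 => {⟨2, by decide⟩, ⟨4, by decide⟩}
  | 2 => {⟨3, by decide⟩}
  | 3 => {⟨1, by decide⟩}

theorem orbE6_facts : (∀ j, ∃ i, j ∈ nodesE6 i) ∧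
    (∀ i k j, j ∈ nodesE6 i → j ∈ nodesE6 k → i = k) ∧ (∀ i, (nodesE6 i).Nonempty) := by
  decide +kernel

theorem orbE6_trans : ∀ i, ∀ j ∈ nodesE6 i, ∀ k ∈ nodesE6 i, ∃ m : Fin (chevE6.rank + 1),
    ((rhoE6 ^ m.val) ⟨chevE6.simple j.val, rootDataE6.simple_lt j⟩ : ℕ) = chevE6.simple k.val := by
  decide +kernel

theorem orbE6_supp : ∀ i, ∀ r : Fin chevE6.nroots, SuppIn rootDataE6 (nodesE6 i) r →
    SuppIn rootDataE6 (nodesE6 i) (rhoE6 r) := by decide +kernel

/-- The orbit data of type E6. -/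
def orbE6 : OrbitData rootDataE6 rhoE6 (Fin 4) where
  J := nodesE6
  cover := orbE6_facts.1
  disj := orbE6_facts.2.1
  nonempty := orbE6_facts.2.2
  trans := orbE6_trans
  ρ_supp := orbE6_supp

variable (K : Type*) [Field K] (p n : ℕ) [ExpChar K p]

/-- The endomorphism of E6. -/
noncomputable def frobE6 : Frob (coreE6 K) := symFrob (coreE6 K) p n e6Sym_check e6_rootMap e6_signs

/-- The roots of each orbit. -/
def rootsE6 : Fin 4 → List ℕ
  | 0 => [e6p1, e6p6]
  | 1 => [e6p3, e6p5]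
  | 2 => [e6p4]
  | 3 => [e6p2]

theorem rootsE6_spec : ∀ i, (∀ r ∈ rootsE6 i, r < chevE6.nroots) ∧ (rootsE6 i).Nodup ∧
    ∀ r : Fin chevE6.nroots, (r : ℕ) ∈ rootsE6 i ↔
      chevE6.IsPosRoot r ∧ SuppIn rootDataE6 (nodesE6 i) r := by
  decide +kernel

theorem inE6 (i : Fin 4) : inRoots (coreE6 K).R (nodesE6 i) = listSet (rootsE6 i) :=
  inRoots_eq (rootsE6_spec i).1 (rootsE6_spec i).2.2

theorem fixedE6_words {w : List (ℕ × K)} (hq2 : ∀ t : K, t ^ ((p ^ n) * (p ^ n)) = t)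
    (hw : w ∈ e6Words K (p ^ n)) :
    (frobE6 K p n).act ((coreE6 K).wordGL w) = (coreE6 K).wordGL w := by
  have hC := coreE6 K
  rcases hw with ⟨t, ht, r, hr, rfl⟩ | ⟨t, rs, hrs, rfl⟩
  · have h1 : ∀ r ∈ [e6p2, e6m2, e6p4, e6m4], r < chevE6.nroots ∧ e6Sym.root r = r ∧ e6Sym.sign r = 1 := by
      decide
    obtain ⟨a, b, c⟩ := h1 r hr
    simp only [ChevCore.wordGL_cons, ChevCore.wordGL_nil, mul_one]
    rw [(frobE6 K p n).act_word (root := e6Sym.root) (fun _ => rfl) a, b]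
    show (coreE6 K).xGL r ((e6Sym.sign r : K) * t ^ p ^ n) = _
    rw [c, Int.cast_one, one_mul, ht]
  · have h1 : ∀ rs ∈ [(e6p1, e6p6), (e6m1, e6m6), (e6p3, e6p5), (e6m3, e6m5)],
        rs.1 < chevE6.nroots ∧ rs.2 < chevE6.nroots ∧ e6Sym.root rs.1 = rs.2 ∧
        e6Sym.root rs.2 = rs.1 ∧ e6Sym.sign rs.1 = 1 ∧ e6Sym.sign rs.2 = 1 ∧
        rs.2 ≠ rs.1 ∧ rs.2 ≠ chevE6.neg rs.1 ∧ chevE6.commTerms rs.1 rs.2 = [] := by
      decide +kernel
    obtain ⟨a, b, c, d, e, f, g, h, i⟩ := h1 rs hrs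
    simp only [ChevCore.wordGL_cons, ChevCore.wordGL_nil, mul_one]
    rw [(frobE6 K p n).act_mul ((coreE6 K).xGL_mem_group _ _) ((coreE6 K).xGL_mem_group _ _),
      (frobE6 K p n).act_word (root := e6Sym.root) (fun _ => rfl) a,
      (frobE6 K p n).act_word (root := e6Sym.root) (fun _ => rfl) b, c, d]
    show (coreE6 K).xGL rs.2 ((e6Sym.sign rs.1 : K) * t ^ p ^ n) *
      (coreE6 K).xGL rs.1 ((e6Sym.sign rs.2 : K) * (t ^ p ^ n) ^ p ^ n) = _
    rw [e, f, Int.cast_one, one_mul, one_mul, ← pow_mul, hq2,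
      (coreE6 K).xGL_commute a b g h (by simp [i])]

theorem levelE6_pair : ∀ i : Fin 2,
    levelCheck chevE6 rootDataE6.α e6Sym.root (rootsE6 ⟨i.val, by omega⟩) []
      ((rootsE6 ⟨i.val, by omega⟩).headD 0) = true := by decide +kernel

theorem levelE6_single : levelCheck chevE6 rootDataE6.α e6Sym.root [e6p4] [] e6p4 = true ∧
    levelCheck chevE6 rootDataE6.α e6Sym.root [e6p2] [] e6p2 = true := by decide +kernel

variable [Fintype K] {p n}

section gens

variable (hn : Fintype.card K = (p ^ n) * (p ^ n))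
include hn

theorem le_fixedE6 : twistedE6 K (p ^ n) ≤ (frobE6 K p n).fixedSub :=
  (frobE6 K p n).genSubgroup_le_fixed fun w hw =>
    fixedE6_words K p n (fun t => by rw [← hn]; exact FiniteField.pow_card t) hw

theorem pairE6 {a b : ℕ} (ha : a < chevE6.nroots)
    (hab : (a, b) ∈ [(e6p1, e6p6), (e6m1, e6m6), (e6p3, e6p5), (e6m3, e6m5)]) (hne : a ≠ b)
    (hc : levelCheck chevE6 rootDataE6.α e6Sym.root [a, b] [] a = true)
    (hcl : (coreE6 K).R.IsClosed (listSet [a, b])) :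
    (frobE6 K p n).fixU (listSet [a, b]) ≤ twistedE6 K (p ^ n) ∧
      Nat.card ↥((frobE6 K p n).fixU (listSet [a, b])) = Fintype.card K := by
  have hlev := (Frob.level_of_check (C := coreE6 K) hc hcl).1
  obtain ⟨h1, h2⟩ := (frobE6 K p n).level_list (root := e6Sym.root) (fun _ => rfl) (r := ⟨a, ha⟩) hc hcl
    Set.univ (fun _ _ => Set.mem_univ _) _ (le_fixedE6 K hn) (fun t _ => by
      refine ⟨(coreE6 K).wordGL [(a, t), (b, t ^ p ^ n)], ?_, ?_, ?_⟩
      · exact (coreE6 K).wordGL_mem_Ucl (by simp [listSet])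
      · exact (coreE6 K).wordGL_mem_gen (Or.inr ⟨t, (a, b), hab, rfl⟩)
      · rw [(coreE6 K).coord_wordGL hlev (by simp [listSet]) (by simp [listSet]) _ (by simp [listSet])]
        simp [Ne.symm hne])
    (by rw [listSet_nil, Frob.fixU_empty]; exact bot_le)
  refine ⟨h1, ?_⟩
  rw [h2, listSet_nil, Frob.fixU_empty, Subgroup.card_bot, mul_one, Nat.card_coe_set_eq,
    Set.ncard_univ, Nat.card_eq_fintype_card]

theorem singleE6 (hq : 2 ≤ p ^ n) {a : ℕ} (ha : a < chevE6.nroots)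
    (hroot : e6Sym.root a = a) (hsign : e6Sym.sign a = 1) (hmem : a ∈ [e6p2, e6m2, e6p4, e6m4])
    (hc : levelCheck chevE6 rootDataE6.α e6Sym.root [a] [] a = true)
    (hcl : (coreE6 K).R.IsClosed (listSet [a])) :
    (frobE6 K p n).fixU (listSet [a]) ≤ twistedE6 K (p ^ n) ∧
      Nat.card ↥((frobE6 K p n).fixU (listSet [a])) = p ^ n := by
  have hlev := (Frob.level_of_check (C := coreE6 K) hc hcl).1
  obtain ⟨h1, h2⟩ := (frobE6 K p n).level_list (root := e6Sym.root) (fun _ => rfl) (r := ⟨a, ha⟩) hc hcl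
    {t : K | t ^ p ^ n = t} (fun g hg => by
      have h := (frobE6 K p n).coord_fixed (root := e6Sym.root) (fun _ => rfl) (r := ⟨a, ha⟩) hc hcl hroot hg
      have h' : (e6Sym.sign a : K) * (coreE6 K).coord (listSet [a]) a g ^ p ^ n =
          (coreE6 K).coord (listSet [a]) a g := h
      rw [hsign, Int.cast_one, one_mul] at h'
      exact h')
    _ (le_fixedE6 K hn) (fun t ht => by
      refine ⟨(coreE6 K).wordGL [(a, t)], ?_, ?_, ?_⟩
      · exact (coreE6 K).wordGL_mem_Ucl (by simp [listSet])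
      · exact (coreE6 K).wordGL_mem_gen (Or.inl ⟨t, ht, a, hmem, rfl⟩)
      · rw [(coreE6 K).coord_wordGL hlev (by simp [listSet]) (by simp [listSet]) _ (by simp [listSet])]
        simp)
    (by rw [listSet_nil, Frob.fixU_empty]; exact bot_le)
  refine ⟨h1, ?_⟩
  rw [h2, listSet_nil, Frob.fixU_empty, Subgroup.card_bot, mul_one]
  refine card_pow_eq_self hq ?_
  rw [hn, show p ^ n * p ^ n - 1 = (p ^ n + 1) * (p ^ n - 1) from by
    rw [Nat.add_one_mul, Nat.mul_sub_one]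
    have : p ^ n ≤ p ^ n * p ^ n := Nat.le_mul_self _
    omega]
  exact Dvd.intro_left _ rfl

theorem gensE6 (hq : 2 ≤ p ^ n) : Gens (frobE6 K p n) orbE6 (twistedE6 K (p ^ n)) 2 := by
  have hcl : ∀ i, (coreE6 K).R.IsClosed (listSet (rootsE6 i)) := fun i => inE6 K i ▸ inRoots_closed _ _
  have key : ∀ i, (frobE6 K p n).fixU (listSet (rootsE6 i)) ≤ twistedE6 K (p ^ n) ∧
      Nat.card ↥((frobE6 K p n).fixU (listSet (rootsE6 i))) ^ 2 =
        Fintype.card K ^ (rootsE6 i).length := by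
    intro i
    fin_cases i
    · obtain ⟨a, b⟩ := pairE6 K hn (a := e6p1) (b := e6p6) (by decide) (by simp) (by decide)
        (levelE6_pair 0) (hcl 0)
      exact ⟨a, by show Nat.card ↥((frobE6 K p n).fixU (listSet [e6p1, e6p6])) ^ 2 = _; rw [b]; rfl⟩
    · obtain ⟨a, b⟩ := pairE6 K hn (a := e6p3) (b := e6p5) (by decide) (by simp) (by decide)
        (levelE6_pair 1) (hcl 1)
      exact ⟨a, by show Nat.card ↥((frobE6 K p n).fixU (listSet [e6p3, e6p5])) ^ 2 = _; rw [b]; rfl⟩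
    · obtain ⟨a, b⟩ := singleE6 K hn hq (a := e6p4) (by decide) (by decide) (by decide) (by simp)
        levelE6_single.1 (hcl 2)
      exact ⟨a, by
        show Nat.card ↥((frobE6 K p n).fixU (listSet [e6p4])) ^ 2 = Fintype.card K ^ 1
        rw [b, hn, pow_one, sq]⟩
    · obtain ⟨a, b⟩ := singleE6 K hn hq (a := e6p2) (by decide) (by decide) (by decide) (by simp)
        levelE6_single.2 (hcl 3)
      exact ⟨a, by
        show Nat.card ↥((frobE6 K p n).fixU (listSet [e6p2])) ^ 2 = Fintype.card K ^ 1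
        rw [b, hn, pow_one, sq]⟩
  refine ⟨le_fixedE6 K hn, fun i => ?_, fun i => ?_, fun i => ?_⟩
  · show (frobE6 K p n).fixU (inRoots (coreE6 K).R (nodesE6 i)) ≤ _
    rw [inE6]; exact (key i).1
  · show Nat.card ↥((frobE6 K p n).fixU (inRoots (coreE6 K).R (nodesE6 i))) ^ 2 =
      Nat.card K ^ (inRoots (coreE6 K).R (nodesE6 i)).ncard
    rw [inE6, listSet_ncard (rootsE6_spec i).2.1, Nat.card_eq_fintype_card (α := K)]
    exact (key i).2
  · have hN : ∀ i, ∀ r ∈ [[e6m1, e6m6], [e6m3, e6m5], [e6m4], [e6m2]].getD (i : Fin 4).val [],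
        chevE6.IsNegRoot r ∧ SuppIn rootDataE6 (nodesE6 i) r := by decide +kernel
    have hs : chevE6.neg (chevE6.simple 0) = e6m1 ∧ chevE6.neg (chevE6.simple 2) = e6m3 ∧
        chevE6.neg (chevE6.simple 3) = e6m4 ∧ chevE6.neg (chevE6.simple 1) = e6m2 := by decide
    obtain ⟨s0, s1, s2, s3⟩ := hs
    fin_cases i
    · refine ⟨(coreE6 K).wordGL [(e6m1, 1), (e6m6, 1 ^ p ^ n)],
        (coreE6 K).wordGL_mem_gen (Or.inr ⟨1, (e6m1, e6m6), by simp, rfl⟩),
        (coreE6 K).wordGL_mem_Ucl fun q hq => hN 0 q.1 (by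
          rcases List.mem_pair.1 hq with rfl | rfl <;> simp), ?_⟩
      rw [← s0]
      refine (coreE6 K).wordGL_neg_ne_one ⟨0, by decide⟩ one_ne_zero fun q hq => ?_
      rw [List.mem_singleton] at hq
      subst hq
      exact ⟨(hN 0 e6m6 (by simp)).1, show e6m6 ≠ chevE6.neg (chevE6.simple 0) by decide⟩
    · refine ⟨(coreE6 K).wordGL [(e6m3, 1), (e6m5, 1 ^ p ^ n)],
        (coreE6 K).wordGL_mem_gen (Or.inr ⟨1, (e6m3, e6m5), by simp, rfl⟩),
        (coreE6 K).wordGL_mem_Ucl fun q hq => hN 1 q.1 (by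
          rcases List.mem_pair.1 hq with rfl | rfl <;> simp), ?_⟩
      rw [← s1]
      refine (coreE6 K).wordGL_neg_ne_one ⟨2, by decide⟩ one_ne_zero fun q hq => ?_
      rw [List.mem_singleton] at hq
      subst hq
      exact ⟨(hN 1 e6m5 (by simp)).1, show e6m5 ≠ chevE6.neg (chevE6.simple 2) by decide⟩
    · refine ⟨(coreE6 K).wordGL [(e6m4, 1)],
        (coreE6 K).wordGL_mem_gen (Or.inl ⟨1, one_pow _, e6m4, by simp, rfl⟩),
        (coreE6 K).wordGL_mem_Ucl fun q hq => hN 2 q.1 (by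
          rw [List.mem_singleton] at hq; subst hq; simp), ?_⟩
      rw [← s2]
      exact (coreE6 K).wordGL_neg_ne_one ⟨3, by decide⟩ one_ne_zero (by simp)
    · refine ⟨(coreE6 K).wordGL [(e6m2, 1)],
        (coreE6 K).wordGL_mem_gen (Or.inl ⟨1, one_pow _, e6m2, by simp, rfl⟩),
        (coreE6 K).wordGL_mem_Ucl fun q hq => hN 3 q.1 (by
          rw [List.mem_singleton] at hq; subst hq; simp), ?_⟩
      rw [← s3]
      exact (coreE6 K).wordGL_neg_ne_one ⟨1, by decide⟩ one_ne_zero (by simp)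

end gens

omit [ExpChar K p] in
theorem setupE6 {q : ℕ} (hq : IsPrimePow q) (hK : Fintype.card K = q ^ 2) :
    ∃ (p n : ℕ) (_ : ExpChar K p), q = p ^ n ∧
      Fintype.card K = (p ^ n) * (p ^ n) ∧ 2 ≤ p ^ n := by
  obtain ⟨p, k, hp, hk, rfl⟩ := (isPrimePow_nat_iff q).1 hq
  have : Fact p.Prime := ⟨hp⟩
  rw [← pow_mul] at hK
  have : CharP K p := charP_of_card_eq_prime_pow hK
  exact ⟨p, k, ExpChar.prime hp, rfl, by rw [hK, ← pow_add]; congr 1; omega,
    le_trans hp.two_le (Nat.le_self_pow hk.ne' p)⟩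

end CfsgLib.Twisted
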