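import Cfsg.Agent.Lib.Twisted.FrobBuild
import Cfsg.Agent.Lib.Twisted.SpanTables
import Cfsg.Agent.Lib.ChevStr.InstanceTables
import Cfsg.Prelude.Def_LieTwisted

/-! The twisted group ²G₂: the endomorphism and the generators of the fixed group. -/

set_option autoImplicit false

namespace CfsgLib.Twisted

open Cfsg.Lie CfsgLib.ChevStr
open scoped MatrixGroups

theorem mul_gather {G : Type*} [Group G] {a a' b b' c c' d d' : G} (h1 : Commute d' a')
    (h2 : Commute c' a') (h3 : Commute d a') (h4 : Commute c a') (h5 : Commute b a')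
    (h6 : Commute d' b') (h7 : Commute c' b') (h8 : Commute d b') (h9 : Commute c b')
    (h10 : Commute d c') :
    a * (b * (c * (d * (c' * (d' * (a' * b')))))) = a * a' * (b * b' * (c * c' * (d * d'))) := by
  rw [h1.left_comm, h2.left_comm, h3.left_comm, h4.left_comm, h5.left_comm, h6.eq,
    h7.left_comm, h8.left_comm, h9.left_comm, h10.left_comm]
  simp only [mul_assoc]

theorem g2_rootMap :
    rootMapCheck chevG2 subG2.root (fun r => subG2.rootsInv.getD r 0) = true := by decide +kernel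

theorem g2_ex : ∀ r : Fin chevG2.nroots, subG2.ex (chevG2.neg r) = subG2.ex r := by decide +kernel

/-- The permutation of the roots of type G2. -/
def rhoG2 : Equiv.Perm (Fin chevG2.nroots) := rootPerm _ _ g2_rootMap

/-- The only orbit on the fundamental roots. -/
def nodesG2 (_ : Fin 1) : Finset (Fin chevG2.rank) := Finset.univ

theorem orbG2_trans : ∀ i, ∀ j ∈ nodesG2 i, ∀ k ∈ nodesG2 i, ∃ m : Fin (chevG2.rank + 1),
    ((rhoG2 ^ m.val) ⟨chevG2.simple j.val, rootDataG2.simple_lt j⟩ : ℕ) = chevG2.simple k.val := by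
  decide +kernel

theorem orbG2_supp : ∀ i, ∀ r : Fin chevG2.nroots, SuppIn rootDataG2 (nodesG2 i) r →
    SuppIn rootDataG2 (nodesG2 i) (rhoG2 r) := by decide +kernel

/-- The orbit data of type G2. -/
def orbG2 : OrbitData rootDataG2 rhoG2 (Fin 1) where
  J := nodesG2
  cover j := ⟨0, Finset.mem_univ j⟩
  disj i k _ _ _ := Subsingleton.elim i k
  nonempty _ := ⟨⟨0, by decide⟩, Finset.mem_univ _⟩
  trans := orbG2_trans
  ρ_supp := orbG2_supp

variable (K : Type*) [Field K] [CharP K 3] (m : ℕ)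

/-- The endomorphism of G2. -/
noncomputable def frobG2 : Frob (coreG2 K) :=
  haveI : CharP K subG2.p := (inferInstance : CharP K 3)
  haveI : ExpChar K subG2.p := ExpChar.prime Nat.prime_three
  subFrob (coreG2 K) subG2_check spanI_G2 m g2_rootMap g2_ex

theorem frobG2_act {a : ℕ} (ha : a < chevG2.nroots) (t : K) :
    (frobG2 K m).act ((coreG2 K).xGL a t) =
      (coreG2 K).xGL (subG2.root a) (t ^ (3 ^ m * subG2.ex a)) := by
  rw [(frobG2 K m).act_word (root := subG2.root) (fun _ => rfl) ha t]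
  show (coreG2 K).xGL (subG2.root a) ((1 : K) * t ^ (3 ^ m * subG2.ex a)) = _
  rw [one_mul]

/-- The positive roots. -/
def rootsG2 : List ℕ := [g2a, g2b, g2ab, g2aab, g2aaab, g2aaabb]

theorem rootsG2_spec : (∀ r ∈ rootsG2, r < chevG2.nroots) ∧ rootsG2.Nodup ∧
    ∀ i, ∀ r : Fin chevG2.nroots, (r : ℕ) ∈ rootsG2 ↔
      chevG2.IsPosRoot r ∧ SuppIn rootDataG2 (nodesG2 i) r := by
  decide +kernel

theorem inG2 (i : Fin 1) : inRoots (coreG2 K).R (nodesG2 i) = listSet rootsG2 :=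
  inRoots_eq rootsG2_spec.1 (rootsG2_spec.2.2 i)

theorem g2_up : ∀ r ∈ [g2ab, g2aab, g2aaab, g2aaabb, g2mab, g2maab, g2maaab, g2maaabb],
    r < chevG2.nroots := by decide

theorem g2_comm : ∀ rs ∈ [(g2ab, g2aab), (g2ab, g2aaab), (g2ab, g2aaabb), (g2aab, g2aaab),
      (g2aab, g2aaabb), (g2aaab, g2aaabb), (g2mab, g2maab), (g2mab, g2maaab), (g2mab, g2maaabb),
      (g2maab, g2maaab), (g2maab, g2maaabb), (g2maaab, g2maaabb)],
    rs.1 < chevG2.nroots ∧ rs.2 < chevG2.nroots ∧ rs.2 ≠ rs.1 ∧ rs.2 ≠ chevG2.neg rs.1 ∧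
      ∀ c ∈ chevG2.commTerms rs.1 rs.2, c.2.1 % 3 = 0 := by
  decide +kernel

theorem commute_G2 {r s : ℕ}
    (h : (r, s) ∈ [(g2ab, g2aab), (g2ab, g2aaab), (g2ab, g2aaabb), (g2aab, g2aaab),
      (g2aab, g2aaabb), (g2aaab, g2aaabb), (g2mab, g2maab), (g2mab, g2maaab), (g2mab, g2maaabb),
      (g2maab, g2maaab), (g2maab, g2maaabb), (g2maaab, g2maaabb)]) (t u : K) :
    Commute ((coreG2 K).xGL s u) ((coreG2 K).xGL r t) := by
  obtain ⟨a, b, c, d, e⟩ := g2_comm _ h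
  exact (coreG2 K).xGL_commute a b c d (fun z hz => (CharP.intCast_eq_zero_iff K 3 _).2
    (Int.dvd_of_emod_eq_zero (by exact_mod_cast e z hz))) t u

theorem g2_hex : ∀ qs ∈ [((g2a, g2b), (g2ab, g2aab), (g2aaab, g2aaabb)),
      ((g2ma, g2mb), (g2mab, g2maab), (g2maaab, g2maaabb))],
    (qs.1.1 < chevG2.nroots ∧ qs.1.2 < chevG2.nroots ∧ qs.1.2 ≠ qs.1.1 ∧
      qs.1.2 ≠ chevG2.neg qs.1.1) ∧
    (subG2.root qs.1.1 = qs.1.2 ∧ subG2.root qs.1.2 = qs.1.1 ∧ subG2.root qs.2.1.1 = qs.2.2.1 ∧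
      subG2.root qs.2.2.1 = qs.2.1.1 ∧ subG2.root qs.2.1.2 = qs.2.2.2 ∧
      subG2.root qs.2.2.2 = qs.2.1.2) ∧
    (subG2.ex qs.1.1 = 3 ∧ subG2.ex qs.1.2 = 1 ∧ subG2.ex qs.2.1.1 = 3 ∧ subG2.ex qs.2.2.1 = 1 ∧
      subG2.ex qs.2.1.2 = 3 ∧ subG2.ex qs.2.2.2 = 1) := by
  decide +kernel

theorem g2_terms : chevG2.commTerms g2a g2b =
      [(g2ab, -1, 1, 1), (g2aab, 1, 2, 1), (g2aaab, 1, 3, 1), (g2aaabb, 1, 3, 2)] ∧
    chevG2.commTerms g2ma g2mb =
      [(g2mab, 1, 1, 1), (g2maab, 1, 2, 1), (g2maaab, -1, 3, 1), (g2maaabb, 1, 3, 2)] := by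
  decide +kernel

theorem fixed_hexG2 (hq : ∀ t : K, t ^ (3 * (3 ^ m * 3 ^ m)) = t) {a b c d c' d' : ℕ} {s : K}
    (hs : s = 1 ∨ s = -1)
    (h : ((a, b), (c, d), (c', d')) ∈ [((g2a, g2b), (g2ab, g2aab), (g2aaab, g2aaabb)),
      ((g2ma, g2mb), (g2mab, g2maab), (g2maaab, g2maaabb))])
    (hw : ∀ T t : K, (coreG2 K).wordGL (chevG2.commWord K a b (s * T) (s * t)) =
      (coreG2 K).wordGL [(c, s * (T * t)), (d, s * (T ^ 2 * t)), (c', -(s * (T ^ 3 * t))),
        (d', -(s * (T ^ 3 * t ^ 2)))]) (t u v : K) :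
    (frobG2 K m).act ((coreG2 K).wordGL [(a, s * t ^ 3 ^ m), (b, s * t),
        (c, s * (t ^ (3 ^ m + 1) + u ^ 3 ^ m)), (d, s * (t ^ (2 * 3 ^ m + 1) + v ^ 3 ^ m)),
        (c', s * u), (d', s * v)]) =
      (coreG2 K).wordGL [(a, s * t ^ 3 ^ m), (b, s * t), (c, s * (t ^ (3 ^ m + 1) + u ^ 3 ^ m)),
        (d, s * (t ^ (2 * 3 ^ m + 1) + v ^ 3 ^ m)), (c', s * u), (d', s * v)] := by
  obtain ⟨⟨la, lb, n1, n2⟩, ⟨ra, rb, rc, rc', rd, rd'⟩, ea, eb, ec, ec', ed, ed'⟩ := g2_hex _ h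
  dsimp only at la lb n1 n2 ra rb rc rc' rd rd' ea eb ec ec' ed ed'
  have hmem : ∀ r (x : K), (coreG2 K).xGL r x ∈ chevG2.group K := (coreG2 K).xGL_mem_group
  have lall : c < chevG2.nroots ∧ d < chevG2.nroots ∧ c' < chevG2.nroots ∧ d' < chevG2.nroots := by
    simp only [List.mem_cons, List.not_mem_nil, or_false, Prod.mk.injEq] at h
    obtain ⟨-, ⟨rfl, rfl⟩, rfl, rfl⟩ | ⟨-, ⟨rfl, rfl⟩, rfl, rfl⟩ := h <;> decide
  have hcm : (∀ x y : K, Commute ((coreG2 K).xGL d x) ((coreG2 K).xGL c y) ∧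
      Commute ((coreG2 K).xGL c' x) ((coreG2 K).xGL c y) ∧
      Commute ((coreG2 K).xGL d' x) ((coreG2 K).xGL c y) ∧
      Commute ((coreG2 K).xGL c' x) ((coreG2 K).xGL d y) ∧
      Commute ((coreG2 K).xGL d' x) ((coreG2 K).xGL d y) ∧
      Commute ((coreG2 K).xGL d' x) ((coreG2 K).xGL c' y)) := by
    intro x y
    simp only [List.mem_cons, List.not_mem_nil, or_false, Prod.mk.injEq] at h
    obtain ⟨-, ⟨rfl, rfl⟩, rfl, rfl⟩ | ⟨-, ⟨rfl, rfl⟩, rfl, rfl⟩ := h <;>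
      exact ⟨commute_G2 K (by simp) y x, commute_G2 K (by simp) y x, commute_G2 K (by simp) y x,
        commute_G2 K (by simp) y x, commute_G2 K (by simp) y x, commute_G2 K (by simp) y x⟩
  have he : ∀ k, s ^ (3 ^ k) = s := fun k => by
    rcases hs with rfl | rfl
    · exact one_pow _
    · haveI : ExpChar K 3 := ExpChar.prime Nat.prime_three
      exact neg_one_pow_expChar 3 k
  have hadd : ∀ x y : K, (x + y) ^ (3 ^ m * 3) = x ^ (3 ^ m * 3) + y ^ (3 ^ m * 3) := fun x y => by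
    rw [← pow_succ, add_pow_char_pow]
  set T := t ^ 3 ^ m with hTdef
  have h3 : T ^ 3 = t ^ (3 ^ m * 3) := by rw [hTdef, ← pow_mul]
  have hqe : ∀ x : K, (x ^ 3 ^ m) ^ (3 ^ m * 3) = x := fun x => by
    rw [← pow_mul, show 3 ^ m * (3 ^ m * 3) = 3 * (3 ^ m * 3 ^ m) by ring, hq]
  have hk : ∀ x : K, (s * x) ^ (3 ^ m * 3) = s * x ^ (3 ^ m * 3) := fun x => by
    rw [mul_pow, ← pow_succ, he]
  have hT1 : t ^ (3 ^ m + 1) = T * t := pow_succ t _
  have hT2 : t ^ (2 * 3 ^ m + 1) = T ^ 2 * t := by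
    rw [hTdef, ← pow_mul, pow_succ, mul_comm 2]
  have hTN : T ^ (3 ^ m * 3) = t := hqe t
  have htN : t ^ (3 ^ m * 3) = T ^ 3 := h3.symm
  have hc1 : (s * (t ^ (3 ^ m + 1) + u ^ 3 ^ m)) ^ (3 ^ m * 3) = s * (t * T ^ 3 + u) := by
    rw [hk, hadd, hqe, hT1, mul_pow, hTN, htN]
  have hd1 : (s * (t ^ (2 * 3 ^ m + 1) + v ^ 3 ^ m)) ^ (3 ^ m * 3) = s * (t ^ 2 * T ^ 3 + v) := by
    rw [hk, hadd, hqe, hT2, mul_pow, ← pow_mul T, mul_comm 2, pow_mul T, hTN, htN]
  simp only [ChevCore.wordGL_cons, ChevCore.wordGL_nil, mul_one]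
  rw [(frobG2 K m).act_mul (hmem _ _) (mul_mem (hmem _ _) (mul_mem (hmem _ _) (mul_mem (hmem _ _)
      (mul_mem (hmem _ _) (hmem _ _))))),
    (frobG2 K m).act_mul (hmem _ _) (mul_mem (hmem _ _) (mul_mem (hmem _ _)
      (mul_mem (hmem _ _) (hmem _ _)))),
    (frobG2 K m).act_mul (hmem _ _) (mul_mem (hmem _ _) (mul_mem (hmem _ _) (hmem _ _))),
    (frobG2 K m).act_mul (hmem _ _) (mul_mem (hmem _ _) (hmem _ _)),
    (frobG2 K m).act_mul (hmem _ _) (hmem _ _),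
    frobG2_act K m la, frobG2_act K m lb, frobG2_act K m lall.1, frobG2_act K m lall.2.1,
    frobG2_act K m lall.2.2.1, frobG2_act K m lall.2.2.2,
    ra, rb, rc, rd, rc', rd', ea, eb, ec, ed, ec', ed', hc1, hd1, mul_one, mul_pow, mul_pow,
    mul_pow, mul_pow, he, ← pow_succ, he, pow_succ, hqe, ← hTdef,
    ← mul_assoc ((coreG2 K).xGL b _) ((coreG2 K).xGL a _), (coreG2 K).xGL_comm la lb n1 n2, hw]
  simp only [ChevCore.wordGL_cons, ChevCore.wordGL_nil, mul_one, mul_assoc]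
  congr 2
  rw [mul_gather (hcm _ _).2.2.1 (hcm _ _).2.1 (hcm _ _).2.2.1 (hcm _ _).2.1 (hcm _ _).1
      (hcm _ _).2.2.2.2.1 (hcm _ _).2.2.2.1 (hcm _ _).2.2.2.2.1 (hcm _ _).2.2.2.1
      (hcm _ _).2.2.2.2.2, ← (coreG2 K).xGL_add, ← (coreG2 K).xGL_add, ← (coreG2 K).xGL_add,
    ← (coreG2 K).xGL_add, hT1, hT2, ← mul_add,
    ← mul_add, show -(s * (T ^ 3 * t)) + s * (t * T ^ 3 + u) = s * u by ring,
    show -(s * (T ^ 3 * t ^ 2)) + s * (t ^ 2 * T ^ 3 + v) = s * v by ring]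

theorem reeWordV_eq (e : ℕ) (t u v : K) : reeWordV e t u v = [(g2ma, -t ^ e), (g2mb, -t),
    (g2mab, -(t ^ (e + 1) + u ^ e)), (g2maab, -(t ^ (2 * e + 1) + v ^ e)), (g2maaab, -u),
    (g2maaabb, -v)] := by
  have hs : chevG2.negIdx.getD g2a 0 = g2ma ∧ chevG2.negIdx.getD g2b 0 = g2mb ∧
      chevG2.negIdx.getD g2ab 0 = g2mab ∧ chevG2.negIdx.getD g2aab 0 = g2maab ∧
      chevG2.negIdx.getD g2aaab 0 = g2maaab ∧ chevG2.negIdx.getD g2aaabb 0 = g2maaabb := by decide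
  obtain ⟨n1, n2, n3, n4, n5, n6⟩ := hs
  simp only [reeWordV, reeWordU, ChevalleyDatum.negWord, List.map_cons, List.map_nil, n1, n2, n3,
    n4, n5, n6]

theorem fixedG2_words {w : List (ℕ × K)} (hq : ∀ t : K, t ^ (3 * (3 ^ m * 3 ^ m)) = t)
    (hw : w ∈ g2Words K (3 ^ m)) :
    (frobG2 K m).act ((coreG2 K).wordGL w) = (coreG2 K).wordGL w := by
  obtain ⟨t, u, v, rfl | rfl⟩ := hw
  · have h := fixed_hexG2 K m hq (s := 1) (a := g2a) (b := g2b) (c := g2ab) (d := g2aab)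
      (c' := g2aaab) (d' := g2aaabb) (Or.inl rfl) (by simp) (fun T t => by
        simp only [ChevalleyDatum.commWord, g2_terms.1, List.map_cons, List.map_nil]
        congr 1
        simp only [List.cons.injEq, Prod.mk.injEq, true_and, and_true]
        push_cast
        refine ⟨?_, ?_, ?_, ?_⟩ <;> ring) t u v
    simp only [one_mul] at h
    exact h
  · have h := fixed_hexG2 K m hq (s := -1) (a := g2ma) (b := g2mb) (c := g2mab) (d := g2maab)
      (c' := g2maaab) (d' := g2maaabb) (Or.inr rfl) (by simp) (fun T t => by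
        simp only [ChevalleyDatum.commWord, g2_terms.2, List.map_cons, List.map_nil]
        congr 1
        simp only [List.cons.injEq, Prod.mk.injEq, true_and, and_true]
        push_cast
        refine ⟨?_, ?_, ?_, ?_⟩ <;> ring) t u v
    simp only [neg_mul, one_mul] at h
    rw [reeWordV_eq]
    exact h

theorem levelG2 :
    levelCheck chevG2 rootDataG2.α subG2.root rootsG2 [g2ab, g2aab, g2aaab, g2aaabb] g2b = true ∧
    levelCheck chevG2 rootDataG2.α subG2.root [g2ab, g2aab, g2aaab, g2aaabb] [g2aab, g2aaabb]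
      g2aaab = true ∧
    levelCheck chevG2 rootDataG2.α subG2.root [g2aab, g2aaabb] [] g2aaabb = true := by decide +kernel

theorem levelsG2 :
    ((coreG2 K).Level (listSet rootsG2) (listSet [g2ab, g2aab, g2aaab, g2aaabb]) ∧
      (coreG2 K).R.IsClosed (listSet [g2ab, g2aab, g2aaab, g2aaabb])) ∧
    ((coreG2 K).Level (listSet [g2ab, g2aab, g2aaab, g2aaabb]) (listSet [g2aab, g2aaabb]) ∧
      (coreG2 K).R.IsClosed (listSet [g2aab, g2aaabb])) ∧
    (coreG2 K).Level (listSet [g2aab, g2aaabb]) (listSet []) := by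
  have h1 := Frob.level_of_check (C := coreG2 K) levelG2.1 (inG2 K 0 ▸ inRoots_closed _ _)
  have h2 := Frob.level_of_check (C := coreG2 K) levelG2.2.1 h1.2
  exact ⟨h1, h2, (Frob.level_of_check (C := coreG2 K) levelG2.2.2 h2.2).1⟩

variable {m}

theorem word_top (t u v : K) :
    (coreG2 K).wordGL (reeWordU (3 ^ m) t u v) ∈ (coreG2 K).Ucl (listSet rootsG2) ∧
      (coreG2 K).coord (listSet rootsG2) g2b ((coreG2 K).wordGL (reeWordU (3 ^ m) t u v)) = t := by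
  refine ⟨(coreG2 K).wordGL_mem_Ucl (by simp [listSet, reeWordU, rootsG2]), ?_⟩
  rw [(coreG2 K).coord_wordGL (levelsG2 K).1.1 (by simp [listSet, rootsG2])
    (by simp [listSet, g2b, g2ab, g2aab, g2aaab, g2aaabb]) _ (by simp [listSet, reeWordU, rootsG2])]
  simp [reeWordU, g2a, g2b, g2ab, g2aab, g2aaab, g2aaabb]

theorem word_mid (u v : K) (a b : K) :
    (coreG2 K).coord (listSet [g2ab, g2aab, g2aaab, g2aaabb]) g2aaab
      ((coreG2 K).wordGL [(g2ab, a), (g2aab, b), (g2aaab, u), (g2aaabb, v)]) = u := by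
  rw [(coreG2 K).coord_wordGL (levelsG2 K).2.1.1 (by simp [listSet])
    (by simp [listSet, g2aab, g2aaab, g2aaabb]) _ (by simp [listSet])]
  simp [g2ab, g2aab, g2aaab, g2aaabb]

theorem word_low (v b : K) :
    (coreG2 K).coord (listSet [g2aab, g2aaabb]) g2aaabb
      ((coreG2 K).wordGL [(g2aab, b), (g2aaabb, v)]) = v := by
  rw [(coreG2 K).coord_wordGL (levelsG2 K).2.2 (by simp [listSet]) (by simp [listSet]) _
    (by simp [listSet])]
  simp [g2aab, g2aaabb]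

theorem word_injG2 :
    Function.Injective fun p : K × K × K => (coreG2 K).wordGL (reeWordU (3 ^ m) p.1 p.2.1 p.2.2) := by
  rintro ⟨t, u, v⟩ ⟨t', u', v'⟩ h
  dsimp only at h
  have ht := congrArg ((coreG2 K).coord (listSet rootsG2) g2b) h
  rw [(word_top K t u v).2, (word_top K t' u' v').2] at ht
  subst ht
  have h1 : (coreG2 K).wordGL [(g2ab, t ^ (3 ^ m + 1) + u ^ 3 ^ m),
        (g2aab, t ^ (2 * 3 ^ m + 1) + v ^ 3 ^ m), (g2aaab, u), (g2aaabb, v)] =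
      (coreG2 K).wordGL [(g2ab, t ^ (3 ^ m + 1) + u' ^ 3 ^ m),
        (g2aab, t ^ (2 * 3 ^ m + 1) + v' ^ 3 ^ m), (g2aaab, u'), (g2aaabb, v')] := by
    simpa [reeWordU, ChevCore.wordGL_cons] using h
  have hu := congrArg ((coreG2 K).coord (listSet [g2ab, g2aab, g2aaab, g2aaabb]) g2aaab) h1
  rw [word_mid, word_mid] at hu
  subst hu
  have h2 : (coreG2 K).wordGL [(g2aab, t ^ (2 * 3 ^ m + 1) + v ^ 3 ^ m), (g2aaabb, v)] =
      (coreG2 K).wordGL [(g2aab, t ^ (2 * 3 ^ m + 1) + v' ^ 3 ^ m), (g2aaabb, v')] := by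
    simp only [ChevCore.wordGL_cons, ChevCore.wordGL_nil, mul_one, mul_right_inj] at h1 ⊢
    have e : ∀ b : K, Commute ((coreG2 K).xGL g2aaab u) ((coreG2 K).xGL g2aab b) :=
      fun b => commute_G2 K (by simp) b u
    rw [← (e _).left_comm, ← (e _).left_comm, mul_right_inj] at h1
    exact h1
  have hv := congrArg ((coreG2 K).coord (listSet [g2aab, g2aaabb]) g2aaabb) h2
  rw [word_low, word_low] at hv
  subst hv
  rfl

variable [Fintype K]

section gens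

variable (hn : Fintype.card K = 3 * (3 ^ m * 3 ^ m))
include hn

theorem le_fixedG2 : twistedG2 K (3 ^ m) ≤ (frobG2 K m).fixedSub :=
  (frobG2 K m).genSubgroup_le_fixed fun w hw =>
    fixedG2_words K m (fun t => by rw [← hn]; exact FiniteField.pow_card t) hw

theorem classG2 :
    (frobG2 K m).fixU (listSet rootsG2) ≤ twistedG2 K (3 ^ m) ∧
      Nat.card ↥((frobG2 K m).fixU (listSet rootsG2)) =
        Fintype.card K * (Fintype.card K * Fintype.card K) := by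
  have h0 : ∀ e : ℕ, (0 : K) ^ (3 ^ m + e) = 0 := fun e =>
    zero_pow (by have := Nat.pow_pos (n := m) (show 0 < 3 by norm_num); omega)
  have hz : (0 : K) ^ (2 * 3 ^ m + 1) = 0 := zero_pow (by omega)
  have hz' : (0 : K) ^ (3 ^ m) = 0 := h0 0
  obtain ⟨⟨-, hcl1⟩, ⟨-, hcl2⟩, -⟩ := levelsG2 K
  obtain ⟨h1'', h2''⟩ := (frobG2 K m).level_list (root := subG2.root) (fun _ => rfl)
    (r := ⟨g2aaabb, by decide⟩) levelG2.2.2 hcl2
    Set.univ (fun _ _ => Set.mem_univ _) _ (le_fixedG2 K hn) (fun v _ => by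
      have he : (coreG2 K).wordGL (reeWordU (3 ^ m) 0 0 v) =
          (coreG2 K).wordGL [(g2aab, v ^ 3 ^ m), (g2aaabb, v)] := by
        simp [reeWordU, ChevCore.wordGL_cons, (coreG2 K).xGL_zero, h0, hz, hz']
      refine ⟨_, ?_, (coreG2 K).wordGL_mem_gen ⟨0, 0, v, Or.inl rfl⟩, ?_⟩
      · rw [he]; exact (coreG2 K).wordGL_mem_Ucl (by simp [listSet])
      · rw [he]; exact word_low K v _)
    (by rw [listSet_nil, Frob.fixU_empty]; exact bot_le)
  obtain ⟨h1', h2'⟩ := (frobG2 K m).level_list (root := subG2.root) (fun _ => rfl)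
    (r := ⟨g2aaab, by decide⟩) levelG2.2.1 hcl1
    Set.univ (fun _ _ => Set.mem_univ _) _ (le_fixedG2 K hn) (fun u _ => by
      have he : (coreG2 K).wordGL (reeWordU (3 ^ m) 0 u 0) =
          (coreG2 K).wordGL [(g2ab, u ^ 3 ^ m), (g2aab, 0), (g2aaab, u), (g2aaabb, 0)] := by
        simp [reeWordU, ChevCore.wordGL_cons, (coreG2 K).xGL_zero, h0, hz, hz']
      refine ⟨_, ?_, (coreG2 K).wordGL_mem_gen ⟨0, u, 0, Or.inl rfl⟩, ?_⟩
      · rw [he]; exact (coreG2 K).wordGL_mem_Ucl (by simp [listSet])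
      · rw [he]; exact word_mid K u 0 _ 0)
    h1''
  obtain ⟨h1, h2⟩ := (frobG2 K m).level_list (root := subG2.root) (fun _ => rfl)
    (r := ⟨g2b, by decide⟩) levelG2.1 (inG2 K 0 ▸ inRoots_closed _ _)
    Set.univ (fun _ _ => Set.mem_univ _) _ (le_fixedG2 K hn) (fun t _ =>
      ⟨(coreG2 K).wordGL (reeWordU (3 ^ m) t 0 0), (word_top K t 0 0).1,
        (coreG2 K).wordGL_mem_gen ⟨t, 0, 0, Or.inl rfl⟩, (word_top K t 0 0).2⟩)
    h1'
  refine ⟨h1, ?_⟩
  rw [h2, h2', h2'', listSet_nil, Frob.fixU_empty, Subgroup.card_bot, mul_one, Nat.card_coe_set_eq,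
    Set.ncard_univ, Nat.card_eq_fintype_card]

theorem gensG2 : Gens (frobG2 K m) orbG2 (twistedG2 K (3 ^ m)) 2 := by
  refine ⟨le_fixedG2 K hn, fun i => ?_, fun i => ?_, fun i => ?_⟩
  · show (frobG2 K m).fixU (inRoots (coreG2 K).R (nodesG2 i)) ≤ _
    rw [inG2]; exact (classG2 K hn).1
  · show Nat.card ↥((frobG2 K m).fixU (inRoots (coreG2 K).R (nodesG2 i))) ^ 2 =
      Nat.card K ^ (inRoots (coreG2 K).R (nodesG2 i)).ncard
    rw [inG2, listSet_ncard rootsG2_spec.2.1, Nat.card_eq_fintype_card (α := K), (classG2 K hn).2]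
    show _ = Fintype.card K ^ 6
    ring
  · have hN : ∀ i, ∀ r ∈ [g2ma, g2mb, g2mab, g2maab, g2maaab, g2maaabb],
        chevG2.IsNegRoot r ∧ SuppIn rootDataG2 (nodesG2 i) r := by decide +kernel
    have s0 : chevG2.neg (chevG2.simple 0) = g2ma := by decide
    have hw := reeWordV_eq K (3 ^ m) 1 0 0
    refine ⟨(coreG2 K).wordGL (reeWordV (3 ^ m) 1 0 0),
      (coreG2 K).wordGL_mem_gen ⟨1, 0, 0, Or.inr rfl⟩,
      (coreG2 K).wordGL_mem_Ucl fun q hq => hN i q.1 (by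
        rw [hw] at hq
        simp only [List.mem_cons, List.not_mem_nil, or_false] at hq
        rcases hq with rfl | rfl | rfl | rfl | rfl | rfl <;> simp), ?_⟩
    rw [hw, ← s0]
    refine (coreG2 K).wordGL_neg_ne_one ⟨0, by decide⟩ (by simp) fun q hq => ?_
    have hne : ∀ r ∈ [g2mb, g2mab, g2maab, g2maaab, g2maaabb], r ≠ chevG2.neg (chevG2.simple 0) := by
      decide
    simp only [List.mem_cons, List.not_mem_nil, or_false] at hq
    rcases hq with rfl | rfl | rfl | rfl | rfl <;>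
      exact ⟨(hN 0 _ (by simp)).1, hne _ (by simp)⟩

theorem card_U1G2 :
    Nat.card ↥(chevG2.posUnipotent K ⊓ twistedG2 K (3 ^ m)) = Fintype.card K ^ 3 := by
  have h := (gensG2 K hn).card_U1
  have hN : {r : ℕ | chevG2.IsPosRoot r}.ncard = 6 := by
    have hd : ∀ r : Fin chevG2.nroots, chevG2.IsPosRoot r.val ↔ 6 ≤ r.val := by decide +kernel
    have he : {r : ℕ | chevG2.IsPosRoot r} = Set.Ico 6 12 := by
      ext r
      exact ⟨fun hr => ⟨(hd ⟨r, hr.1⟩).1 hr, hr.1⟩, fun hr => (hd ⟨r, hr.2⟩).2 hr.1⟩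
    rw [he, Set.ncard_eq_toFinset_card', Set.toFinset_Ico, Nat.card_Ico]
  rw [hN, Nat.card_eq_fintype_card (α := K),
    show Fintype.card K ^ 6 = (Fintype.card K ^ 3) ^ 2 by ring] at h
  exact Nat.pow_left_injective two_ne_zero h

end gens

omit [CharP K 3] in
theorem setupG2 {m : ℕ} (hK : Fintype.card K = 3 ^ (2 * m + 1)) :
    CharP K 3 ∧ Fintype.card K = 3 * (3 ^ m * 3 ^ m) := by
  have : Fact (Nat.Prime 3) := ⟨Nat.prime_three⟩
  exact ⟨charP_of_card_eq_prime_pow hK, by rw [hK, two_mul m, pow_succ, pow_add, mul_comm]⟩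

end CfsgLib.Twisted
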