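import Cfsg.Agent.Lib.Twisted.Orbits

/-!
The quotient `N¹/H¹` of a group of fixed points: the group generated by the twisted reflections,
and the folding of root systems that identifies it with a smaller Weyl group.
-/

set_option autoImplicit false

namespace CfsgLib.Twisted

open Cfsg.Lie CfsgLib.ChevStr
open scoped MatrixGroups

variable {D : ChevalleyDatum} {F : Type*} [Field F] [Fintype F] {C : ChevCore D F} {φ : Frob C}
  {I : Type} {O : OrbitData C.R φ.ρ I} {G1 : Subgroup (GL D.Idx F)} {d : ℕ}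

namespace Gens

variable (g : Gens φ O G1 d)

/-- The longest element of a piece is determined by sending its fundamental roots to negative ones. -/
theorem wJ_eq_sub {i : I} {w : Equiv.Perm (Fin D.nroots)} (hw : w ∈ C.hR.weylSub (O.J i))
    (hneg : ∀ j ∈ O.J i, D.IsNegRoot (w ⟨D.simple j.val, C.R.simple_lt j⟩)) : g.wJ i = w := by
  have h1 := mul_eq_one_of_neg C.hR hw hneg hw hneg
  have h2 := mul_eq_one_of_neg C.hR hw hneg (g.wJ_mem i) (g.wJ_neg i)
  exact mul_left_cancel (h2.trans h1.symm)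

/-- A product of fundamental reflections of a piece is its longest element when it makes them negative. -/
theorem wJ_eq_word {i : I} (L : List (Fin D.rank)) (hL : ∀ a ∈ L, a ∈ O.J i)
    (hneg : ∀ j ∈ O.J i, D.IsNegRoot (C.hR.wordPerm L ⟨D.simple j.val, C.R.simple_lt j⟩)) :
    g.wJ i = C.hR.wordPerm L :=
  g.wJ_eq_sub (Subgroup.list_prod_mem _ fun x hx => by
    obtain ⟨a, ha, rfl⟩ := List.mem_map.1 hx
    exact C.hR.sPerm_mem_sub (hL a ha)) hneg

theorem closure_le_weyl : Subgroup.closure (Set.range g.wJ) ≤ C.hR.weyl :=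
  (Subgroup.closure_le _).2 (by
    rintro _ ⟨i, rfl⟩
    exact C.hR.weylSub_le _ (g.wJ_mem i))

/-- A group that is the group of the twisted reflections is a quotient of `N¹` by `H¹`. -/
theorem exists_weyl_hom {M : Type*} [Group M] (f : M →* Equiv.Perm (Fin D.nroots))
    (hf : Function.Injective f) (hr : f.range = Subgroup.closure (Set.range g.wJ)) :
    ∃ ψ : ↥(D.monomialSubgroup F ⊓ G1) →* M, Function.Surjective ψ ∧
      ψ.ker = (D.diagonalSubgroup F ⊓ G1).subgroupOf (D.monomialSubgroup F ⊓ G1) := by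
  set N1 := D.monomialSubgroup F ⊓ G1 with hN1
  let a : ↥N1 →* Equiv.Perm (Fin D.nroots) := C.rootAction.comp (Subgroup.inclusion inf_le_left)
  have ha : ∀ n : ↥N1, C.Moves n (a n) := fun n => C.moves_permOf _
  have hker : ∀ n : ↥N1, a n = 1 ↔ (n : GL D.Idx F) ∈ D.diagonalSubgroup F ⊓ G1 := by
    intro n
    refine ⟨fun h => Subgroup.mem_inf.2 ⟨C.mem_diagonal_of_moves_one (Subgroup.mem_inf.1 n.2).1 (h ▸ ha n),
      (Subgroup.mem_inf.1 n.2).2⟩, fun h => ?_⟩
    exact C.diagIn_le_ker (x := Subgroup.inclusion inf_le_left n) (Subgroup.mem_inf.1 h).1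
  have hs : ∀ i, g.s i ∈ N1 := fun i => Subgroup.mem_inf.2 ⟨g.s_mem_N i, g.s_mem i⟩
  have has : ∀ i, a ⟨g.s i, hs i⟩ = g.wJ i := fun i => C.rootAction_eq (g.s_moves i)
  have hrange : a.range = Subgroup.closure (Set.range g.wJ) := by
    refine le_antisymm ?_ ((Subgroup.closure_le _).2 ?_)
    · rintro _ ⟨n, rfl⟩
      set T := (Subgroup.closure (Set.range g.wJ)).comap a with hT
      have h1 : Subgroup.closure (Set.range g.reflections.s) ⊔ g.twist.H1 ≤ T.map N1.subtype := by
        refine sup_le ((Subgroup.closure_le _).2 ?_) fun h hh => ?_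
        · rintro _ ⟨i, rfl⟩
          exact ⟨⟨g.s i, hs i⟩, show a ⟨g.s i, hs i⟩ ∈ Subgroup.closure (Set.range g.wJ) by
            rw [has]; exact Subgroup.subset_closure ⟨i, rfl⟩, rfl⟩
        · have hh' : h ∈ D.diagonalSubgroup F ⊓ G1 := hh
          have hn : h ∈ N1 := Subgroup.mem_inf.2
            ⟨(chevAmbient C).H_le (Subgroup.mem_inf.1 hh').1, (Subgroup.mem_inf.1 hh').2⟩
          exact ⟨⟨h, hn⟩, show a ⟨h, hn⟩ ∈ Subgroup.closure (Set.range g.wJ) by rw [(hker ⟨h, hn⟩).2 hh']; exact one_mem _, rfl⟩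
      rw [g.reflections.N1_eq] at h1
      obtain ⟨m, hm, he⟩ := h1 (show (n : GL D.Idx F) ∈ g.twist.N1 from n.2)
      rwa [show m = n from Subtype.ext he] at hm
    · rintro _ ⟨i, rfl⟩
      exact ⟨⟨g.s i, hs i⟩, has i⟩
  have hmem : ∀ n, a n ∈ f.range := fun n => hr ▸ hrange ▸ ⟨n, rfl⟩
  let e : M ≃* f.range := MonoidHom.ofInjective hf
  refine ⟨e.symm.toMonoidHom.comp (a.codRestrict f.range hmem), fun x => ?_, ?_⟩
  · obtain ⟨n, hn⟩ : f x ∈ a.range := by rw [hrange, ← hr]; exact ⟨x, rfl⟩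
    exact ⟨n, e.symm_apply_eq.2 (Subtype.ext hn)⟩
  · ext n
    rw [MonoidHom.ker_comp_of_injective _ _ e.symm.injective, MonoidHom.ker_codRestrict,
      MonoidHom.mem_ker, Subgroup.mem_subgroupOf]
    exact hker n

variable {D' : ChevalleyDatum} {R' : RootData D'} {hR' : ReflData R'}

/-- Folding of the roots: the twisted reflections generate a group isomorphic to a Weyl group. -/
theorem exists_weyl_fold (W : CoxData hR') (π : Fin D.nroots → Fin D'.nroots)
    (σ : I → Fin D'.rank) (hσ : Function.Surjective σ) (hπ : Function.Surjective π)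
    (hpos : ∀ r, D'.IsPosRoot (π r) ↔ D.IsPosRoot r)
    (hcomm : ∀ i r, π (g.wJ i r) = hR'.sPerm (σ i) (π r)) :
    ∃ ψ : ↥(D.monomialSubgroup F ⊓ G1) →* W.M.Group, Function.Surjective ψ ∧
      ψ.ker = (D.diagonalSubgroup F ⊓ G1).subgroupOf (D.monomialSubgroup F ⊓ G1) := by
  set S := Subgroup.closure (Set.range g.wJ) with hS
  have hex : ∀ w ∈ S, ∃ v : Equiv.Perm (Fin D'.nroots), ∀ r, π (w r) = v (π r) := by
    intro w hw
    induction hw using Subgroup.closure_induction with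
    | mem x hx => obtain ⟨i, rfl⟩ := hx; exact ⟨_, hcomm i⟩
    | one => exact ⟨1, fun r => rfl⟩
    | mul x y _ _ hx hy =>
      obtain ⟨u, hu⟩ := hx
      obtain ⟨v, hv⟩ := hy
      exact ⟨u * v, fun r => by rw [Equiv.Perm.mul_apply, hu, hv, Equiv.Perm.mul_apply]⟩
    | inv x _ hx =>
      obtain ⟨u, hu⟩ := hx
      refine ⟨u⁻¹, fun r => ?_⟩
      rw [Equiv.Perm.inv_def u, Equiv.eq_symm_apply, ← hu, Equiv.Perm.inv_def x,
        Equiv.apply_symm_apply]
  have huniq : ∀ {u v : Equiv.Perm (Fin D'.nroots)}, (∀ r, u (π r) = v (π r)) → u = v :=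
    fun h => Equiv.ext fun s => by obtain ⟨r, rfl⟩ := hπ s; exact h r
  choose v hv using hex
  let θ : ↥S →* Equiv.Perm (Fin D'.nroots) := MonoidHom.mk' (fun w => v w.1 w.2) fun x y => by
    refine huniq fun r => ?_
    rw [← hv, Equiv.Perm.mul_apply, ← hv, ← hv]
    rfl
  have hθw : ∀ i, θ ⟨g.wJ i, Subgroup.subset_closure ⟨i, rfl⟩⟩ = hR'.sPerm (σ i) := fun i =>
    huniq fun r => (hv _ _ r).symm.trans (hcomm i r)
  have hθinj : Function.Injective θ := by
    refine (injective_iff_map_eq_one θ).2 fun w hw => Subtype.ext ?_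
    refine C.hR.eq_one_of_invSet_eq_empty (g.closure_le_weyl w.2)
      (Finset.eq_empty_iff_forall_notMem.2 fun s hs => ?_)
    obtain ⟨h1, h2⟩ := C.hR.mem_invSet.1 hs
    have e : π (w.1 s) = π s := by
      rw [hv w.1 w.2 s]; show θ w (π s) = π s; rw [hw]; rfl
    exact C.R.not_pos_and_neg ((hpos _).1 (e ▸ (hpos s).2 h1)) h2
  have hθr : θ.range = hR'.weyl := by
    refine le_antisymm ?_ ((Subgroup.closure_le _).2 ?_)
    · rintro _ ⟨⟨w, hw⟩, rfl⟩
      induction hw using Subgroup.closure_induction with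
      | mem x hx => obtain ⟨i, rfl⟩ := hx; rw [hθw]; exact hR'.sPerm_mem _
      | one => exact (map_one θ).symm ▸ one_mem _
      | mul x y hx hy ihx ihy => exact (map_mul θ ⟨x, hx⟩ ⟨y, hy⟩).symm ▸ mul_mem ihx ihy
      | inv x hx ih => exact (map_inv θ ⟨x, hx⟩).symm ▸ inv_mem ih
    · rintro _ ⟨k, rfl⟩
      obtain ⟨i, rfl⟩ := hσ k
      exact ⟨_, hθw i⟩
  let e : ↥S ≃* W.M.Group :=
    ((MonoidHom.ofInjective hθinj).trans (MulEquiv.subgroupCongr hθr)).trans W.equivWeyl.symm
  refine g.exists_weyl_hom (S.subtype.comp e.symm.toMonoidHom)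
    (S.subtype_injective.comp e.symm.injective) ?_
  rw [MonoidHom.range_comp, MonoidHom.range_eq_top.2 e.symm.surjective, ← MonoidHom.range_eq_map,
    Subgroup.range_subtype]

end Gens

end CfsgLib.Twisted
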