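import Cfsg.Agent.Lib.ChevStr.InstanceTables
import Cfsg.Agent.Lib.ChevStr.Derived

/-!
Consequences of the structure bundle: `h_r` is multiplicative, its conjugates, and the subgroup
`U_w` described through `V`.
-/

set_option autoImplicit false

namespace CfsgLib.ChevStr

open Cfsg.Lie
open scoped MatrixGroups

theorem nonempty_core {D : ChevalleyDatum}
    (hD : D ∈ [chevG2, chevB2, chevD4, chevF4, chevE6, chevE7, chevE8]) (F : Type*) [Field F] :
    Nonempty (ChevCore D F) := by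
  simp only [List.mem_cons, List.not_mem_nil, or_false] at hD
  rcases hD with rfl | rfl | rfl | rfl | rfl | rfl | rfl
  exacts [⟨coreG2 F⟩, ⟨coreB2 F⟩, ⟨coreD4 F⟩, ⟨coreF4 F⟩, ⟨coreE6 F⟩, ⟨coreE7 F⟩, ⟨coreE8 F⟩]

namespace ChevCore

variable {D : ChevalleyDatum} {F : Type*} [Field F] (C : ChevCore D F)

theorem exists_hGL_eq (r : Fin D.nroots) : ∃ (n : GL D.Idx F) (k : Fin D.rank),
    ∀ t : Fˣ, C.hGL r (t : F) = n * C.R.torusSingle k t * n⁻¹ := by
  obtain ⟨w, hw, k, hk⟩ := C.exists_simple_image r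
  obtain ⟨n, -, hact⟩ := C.exists_rep hw
  obtain ⟨e, he, hconj⟩ := C.nGL_conj hact ⟨D.simple k.val, C.R.simple_lt k⟩
  rw [hk] at hconj
  refine ⟨n, k, fun t => ?_⟩
  have he0 : (e : F) ≠ 0 := by rcases he with h | h <;> simp [h]
  have hee : (e : F) * (e : F) = 1 := by rcases he with h | h <;> simp [h]
  set u : Fˣ := Units.mk0 (e : F) he0
  have h1 : ∀ c : F, C.nGL r c = n * C.nGL (D.simple k.val) ((e : F) * c) * n⁻¹ := fun c => by
    rw [hconj, ← mul_assoc, hee, one_mul]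
  rw [C.hGL_eq, C.nGL_neg, h1 t, h1 1, mul_one,
    show (e : F) * (t : F) = ((u * t : Fˣ) : F) from rfl, show (e : F) = ((u : Fˣ) : F) from rfl,
    C.nGL_simple, C.nGL_simple]
  have hs : C.R.torusSingle k (u * t) = C.R.torusSingle k t * C.R.torusSingle k u := by
    show C.R.torus (Pi.mulSingle k (u * t)) = C.R.torus (Pi.mulSingle k t) * C.R.torus (Pi.mulSingle k u)
    rw [← map_mul, ← Pi.mulSingle_mul, mul_comm u t]
  rw [hs]
  group

theorem hGL_mul {r : ℕ} (hr : r < D.nroots) {t u : F} (ht : t ≠ 0) (hu : u ≠ 0) :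
    C.hGL r t * C.hGL r u = C.hGL r (t * u) := by
  obtain ⟨n, k, h⟩ := C.exists_hGL_eq ⟨r, hr⟩
  have h1 := h (Units.mk0 t ht)
  have h2 := h (Units.mk0 u hu)
  have h3 := h (Units.mk0 t ht * Units.mk0 u hu)
  simp only [Units.val_mk0, Units.val_mul] at h1 h2 h3
  rw [h1, h2, h3]
  have hs : C.R.torusSingle k (Units.mk0 t ht * Units.mk0 u hu) =
      C.R.torusSingle k (Units.mk0 t ht) * C.R.torusSingle k (Units.mk0 u hu) := by
    show C.R.torus (Pi.mulSingle k _) = C.R.torus (Pi.mulSingle k _) * C.R.torus (Pi.mulSingle k _)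
    rw [← map_mul, ← Pi.mulSingle_mul]
  rw [hs]
  group

theorem hGL_conj {n : GL D.Idx F} {w : Equiv.Perm (Fin D.nroots)} (hn : C.Acts n w)
    (s : Fin D.nroots) {t : F} (ht : t ≠ 0) : n * C.hGL s t * n⁻¹ = C.hGL (w s) t := by
  obtain ⟨e, he, hc⟩ := C.nGL_conj hn s
  have he0 : (e : F) ≠ 0 := by rcases he with h | h <;> simp [h]
  rw [C.hGL_eq, show n * (C.nGL s t * C.nGL s (-1)) * n⁻¹ =
      (n * C.nGL s t * n⁻¹) * (n * C.nGL s (-1) * n⁻¹) by group, hc, hc,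
    show (e : F) * -1 = -(e : F) by ring, C.nGL_neg,
    show C.nGL (w s) ((e : F) * t) * (C.nGL (w s) (e : F))⁻¹ =
      C.hGL (w s) ((e : F) * t) * (C.hGL (w s) (e : F))⁻¹ by
        rw [C.hGL_eq, C.hGL_eq, C.nGL_neg]; group,
    show (e : F) * t = t * (e : F) from mul_comm _ _, ← C.hGL_mul (w s).isLt ht he0, mul_inv_cancel_right]

/-- `U_w` through `V`: the roots whose root subgroup is moved into `V`. -/
theorem closure_to_neg {n : GL D.Idx F} {w : Equiv.Perm (Fin D.nroots)} (hw : C.Moves n w) :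
    Subgroup.closure {x : GL D.Idx F | ∃ (r : ℕ) (t : F), D.IsPosRoot r ∧
      (D.rootSubgroup F r).map (MulAut.conj n).toMonoidHom ≤ D.negUnipotent F ∧
        (x : Matrix D.Idx D.Idx F) = D.x F r t} = C.Ucl (C.hR.invRoots w) := by
  refine le_antisymm ((Subgroup.closure_le _).2 ?_) (C.Ucl_le fun r hr t => ?_)
  · rintro x ⟨r, t, hr, hle, hx⟩
    rw [show x = C.xGL r t from Units.ext hx]
    refine C.xGL_mem_Ucl ?_ t
    obtain ⟨hrn, -⟩ := id hr
    refine ⟨hrn, C.hR.mem_invSet.2 ⟨hr, (C.R.pos_or_neg (w ⟨r, hrn⟩).isLt).resolve_left fun hp => ?_⟩⟩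
    obtain ⟨u, hu⟩ := hw.2 ⟨r, hrn⟩ 1
    have h1 : n * C.xGL r 1 * n⁻¹ ∈ D.negUnipotent F := hle ⟨_, C.mem_rootSubgroup.2 ⟨1, rfl⟩, rfl⟩
    have h2 : n * C.xGL r 1 * n⁻¹ = 1 := (Subgroup.eq_bot_iff_forall _).1 C.borel_inf_negUnipotent _
      (Subgroup.mem_inf.2 ⟨by rw [hu]; exact C.pos_mem_borel hp u, h1⟩)
    exact one_ne_zero ((C.xGL_eq_one_iff hrn).1 (conj_eq_one_iff.1 h2))
  · obtain ⟨hrn, hr⟩ := hr
    obtain ⟨h1, h2⟩ := C.hR.mem_invSet.1 hr
    refine Subgroup.subset_closure ⟨r, t, h1, ?_, rfl⟩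
    rintro _ ⟨x, hx, rfl⟩
    obtain ⟨v, rfl⟩ := C.mem_rootSubgroup.1 hx
    obtain ⟨u, hu⟩ := hw.2 ⟨r, hrn⟩ v
    show n * C.xGL r v * n⁻¹ ∈ D.negUnipotent F
    rw [hu]
    exact C.xGL_mem_negUnipotent h2 u

end ChevCore

end CfsgLib.ChevStr
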