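import Cfsg.Prelude.Def_ChevStructure

/-!
The root element matrices as `1` plus a short list of monomial entries, and a kernel-checkable
criterion for conjugation by a signed permutation matrix to permute them.
-/

set_option autoImplicit false

namespace CfsgLib.Twisted

open Cfsg.Lie

/-- A monomial entry: row code, column code, exponent, coefficient. -/
abbrev Item := (ℕ × ℕ) × ℕ × ℤ

variable (D : ChevalleyDatum)

/-- Code of a coordinate: fundamental coroots first. -/
def code : D.Idx → ℕ
  | Sum.inl i => i.val
  | Sum.inr s => D.rank + s.val

theorem code_injective : Function.Injective (code D) := by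
  rintro (a | a) (b | b) h <;> simp only [code] at h
  · rw [Fin.ext h]
  · omega
  · omega
  · rw [Fin.ext (Nat.add_left_cancel h)]

/-- Items in the columns of the fundamental coroots. -/
def hItems (r : ℕ) : List Item :=
  (List.range D.rank).map fun i => ((D.rank + r, i), 1, -(D.cartanSR.getD i #[]).getD r 0)

/-- Items in the column of the opposite root. -/
def negItems (r : ℕ) : List Item :=
  (List.range D.rank).map (fun i => ((i, D.rank + D.negIdx.getD r 0), 1, (D.coroot.getD r #[]).getD i 0))
    ++ [((D.rank + r, D.rank + D.negIdx.getD r 0), 2, -1)]

/-- Items from the chain table. -/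
def chainItems (r : ℕ) : List Item :=
  ((D.chain.getD r #[]).toList.filter fun e => decide (e.1 ≠ r) && decide (e.1 ≠ D.negIdx.getD r 0)).flatMap
    fun e => e.2.toList.zipIdx.map fun q => ((D.rank + q.1.1, D.rank + e.1), q.2 + 1, q.1.2)

/-- All items of `x_r`. -/
def items (r : ℕ) : List Item := hItems D r ++ negItems D r ++ chainItems D r

/-- Value of the items at a position. -/
def evalAt {F : Type*} [Field F] (l : List Item) (t : F) (p : ℕ × ℕ) : F :=
  ((l.filter fun it => decide (it.1 = p)).map fun it => ((it.2.2 : ℤ) : F) * t ^ it.2.1).sum

variable {D} {F : Type*} [Field F]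

@[simp] theorem evalAt_append (l l' : List Item) (t : F) (p : ℕ × ℕ) :
    evalAt (l ++ l') t p = evalAt l t p + evalAt l' t p := by
  simp [evalAt, List.filter_append]

theorem evalAt_eq_zero {l : List Item} (t : F) {p : ℕ × ℕ} (h : ∀ it ∈ l, it.1 ≠ p) :
    evalAt l t p = 0 := by
  rw [evalAt, List.filter_eq_nil_iff.2 (fun it hit => by simpa using h it hit)]
  rfl

theorem evalAt_range (n : ℕ) (pos : ℕ → ℕ × ℕ) (hpos : ∀ i j, pos i = pos j → i = j)
    (k : ℕ) (c : ℕ → ℤ) (t : F) {i : ℕ} (hi : i < n) :
    evalAt ((List.range n).map fun j => (pos j, k, c j)) t (pos i) = (c i : F) * t ^ k := by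
  induction n with
  | zero => omega
  | succ n ih =>
    rw [List.range_succ, List.map_append, evalAt_append]
    rcases Nat.lt_or_ge i n with h | h
    · rw [ih h, evalAt_eq_zero (l := [n].map _) t ?_, add_zero]
      simp only [List.map_cons, List.map_nil, List.mem_singleton, forall_eq]
      exact fun e => by have := hpos _ _ e; omega
    · obtain rfl : i = n := by omega
      rw [evalAt_eq_zero t ?_, zero_add]
      · simp [evalAt]
      · simp only [List.mem_map, List.mem_range, forall_exists_index, and_imp]
        rintro _ j hj rfl e
        have := hpos _ _ e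
        omega

theorem chainItems_eval (r s u : ℕ) (hs : s ≠ r) (hs' : s ≠ D.negIdx.getD r 0) (t : F) :
    evalAt (chainItems D r) t (D.rank + u, D.rank + s) =
      ((D.chainCoeff r s u).map fun km => ((km.2 : ℤ) : F) * t ^ km.1).sum := by
  unfold chainItems ChevalleyDatum.chainCoeff
  induction (D.chain.getD r #[]).toList with
  | nil => simp [evalAt]
  | cons e l ih =>
    by_cases he : e.1 = s
    · have hk : (decide (e.1 ≠ r) && decide (e.1 ≠ D.negIdx.getD r 0)) = true := by
        rw [Bool.and_eq_true, decide_eq_true_eq, decide_eq_true_eq, he]
        exact ⟨hs, hs'⟩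
      rw [List.filter_cons_of_pos (p := fun x : ℕ × Array (ℕ × ℤ) => decide (x.1 ≠ r) && decide (x.1 ≠ D.negIdx.getD r 0)) hk,
        List.filter_cons_of_pos (p := fun x : ℕ × Array (ℕ × ℤ) => decide (x.1 = s)) (by simp [he]), List.flatMap_cons,
        List.flatMap_cons, evalAt_append, List.map_append, List.sum_append, ih]
      congr 1
      induction e.2.toList.zipIdx with
      | nil => simp [evalAt]
      | cons q m ihm =>
        by_cases hq : q.1.1 = u
        · simp [evalAt, he, hq] at ihm ⊢
          exact ihm
        · simp [evalAt, he, hq] at ihm ⊢
          exact ihm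
    · rw [List.filter_cons_of_neg (a := e) (p := fun x : ℕ × Array (ℕ × ℤ) => decide (x.1 = s)) (by simp [he])]
      rw [← ih]
      by_cases hk : (decide (e.1 ≠ r) && decide (e.1 ≠ D.negIdx.getD r 0)) = true
      · rw [List.filter_cons_of_pos (p := fun x : ℕ × Array (ℕ × ℤ) => decide (x.1 ≠ r) && decide (x.1 ≠ D.negIdx.getD r 0)) hk,
          List.flatMap_cons, evalAt_append, evalAt_eq_zero t ?_, zero_add]
        simp only [List.mem_map, forall_exists_index, and_imp]
        rintro _ q - rfl h
        rw [Prod.ext_iff] at h
        exact he (Nat.add_left_cancel h.2)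
      · rw [List.filter_cons_of_neg (p := fun x : ℕ × Array (ℕ × ℤ) => decide (x.1 ≠ r) && decide (x.1 ≠ D.negIdx.getD r 0)) hk]

theorem chainItems_col {r : ℕ} : ∀ it ∈ chainItems D r, D.rank ≤ it.1.1 ∧
    ∃ s, s ≠ r ∧ s ≠ D.negIdx.getD r 0 ∧ it.1.2 = D.rank + s := by
  intro it hit
  simp only [chainItems, List.mem_flatMap, List.mem_filter, List.mem_map, Bool.and_eq_true,
    decide_eq_true_eq] at hit
  obtain ⟨e, ⟨-, h1, h2⟩, q, -, rfl⟩ := hit
  exact ⟨Nat.le_add_right _ _, e.1, h1, h2, rfl⟩

/-- The root element is `1` plus its items. -/
theorem xMat_eq_items (r : Fin D.nroots) (hr : D.negIdx.getD r.val 0 ≠ r.val) (t : F) (row col : D.Idx) :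
    D.xMat F r t row col =
      (1 : Matrix D.Idx D.Idx F) row col + evalAt (items D r) t (code D row, code D col) := by
  rcases col with i | s
  · -- column of a fundamental coroot
    have h2 : evalAt (negItems D r) t (code D row, i.val) = 0 :=
      evalAt_eq_zero t fun it hit e => by
        simp only [negItems, List.mem_append, List.mem_map, List.mem_range, List.mem_singleton] at hit
        rcases hit with ⟨j, -, rfl⟩ | rfl <;>
          · simp only [Prod.mk.injEq] at e
            omega
    have h3 : evalAt (chainItems D r) t (code D row, i.val) = 0 :=
      evalAt_eq_zero t fun it hit e => by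
        obtain ⟨-, s, -, -, hs⟩ := chainItems_col it hit
        rw [e] at hs
        simp only at hs
        omega
    simp only [items, evalAt_append, show code D (Sum.inl i) = i.val from rfl, h2, h3, add_zero]
    rcases row with i' | u
    · rw [evalAt_eq_zero t fun it hit e => by
        simp only [hItems, List.mem_map, List.mem_range] at hit
        obtain ⟨j, -, rfl⟩ := hit
        simp only [code, Prod.mk.injEq] at e
        omega]
      simp [ChevalleyDatum.xMat, Matrix.one_apply]
    · by_cases hu : u = r
      · subst hu
        rw [show code D (Sum.inr u) = D.rank + u.val from rfl, hItems,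
          evalAt_range D.rank (fun j => (D.rank + u.val, j)) (fun a b h => (Prod.mk.injEq .. ▸ h).2) 1 _ t
            i.2]
        simp [ChevalleyDatum.xMat, Matrix.one_apply]
      · rw [evalAt_eq_zero t fun it hit e => by
          simp only [hItems, List.mem_map, List.mem_range] at hit
          obtain ⟨j, -, rfl⟩ := hit
          simp only [code, Prod.mk.injEq] at e
          exact hu (Fin.ext (by omega))]
        simp [ChevalleyDatum.xMat, Matrix.one_apply, hu]
  · have h1 : evalAt (hItems D r) t (code D row, D.rank + s.val) = 0 :=
      evalAt_eq_zero t fun it hit e => by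
        simp only [hItems, List.mem_map, List.mem_range] at hit
        obtain ⟨j, hj, rfl⟩ := hit
        simp only [Prod.mk.injEq] at e
        omega
    simp only [items, evalAt_append, show code D (Sum.inr s) = D.rank + s.val from rfl, h1, zero_add]
    by_cases hsr : s = r
    · subst hsr
      rw [evalAt_eq_zero t fun it hit e => by
        simp only [negItems, List.mem_append, List.mem_map, List.mem_range, List.mem_singleton] at hit
        rcases hit with ⟨j, -, rfl⟩ | rfl <;>
          · simp only [Prod.mk.injEq] at e
            exact hr (by omega)]
      rw [evalAt_eq_zero t fun it hit e => by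
        obtain ⟨-, s', hs', -, h⟩ := chainItems_col it hit
        rw [e] at h
        simp only at h
        exact hs' (by omega)]
      rcases row with i' | u <;> simp [ChevalleyDatum.xMat, Matrix.one_apply]
    · by_cases hneg : s.val = D.negIdx.getD r.val 0
      · rw [evalAt_eq_zero (l := chainItems D r) t fun it hit e => by
          obtain ⟨-, s', -, hs', h⟩ := chainItems_col it hit
          rw [e] at h
          simp only at h
          exact hs' (by omega), add_zero]
        rw [negItems, evalAt_append, ← hneg]
        rcases row with i' | u
        · rw [show code D (Sum.inl i') = i'.val from rfl,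
            evalAt_range D.rank (fun j => (j, D.rank + s.val)) (fun a b h => (Prod.mk.injEq .. ▸ h).1) 1 _ t
              i'.2,
            evalAt_eq_zero (l := [_]) t fun it hit e => by
              simp only [List.mem_singleton] at hit
              subst hit
              simp only [Prod.mk.injEq] at e
              omega]
          simp [ChevalleyDatum.xMat, Matrix.one_apply, hsr, hneg]
        · rw [evalAt_eq_zero t fun it hit e => by
            simp only [List.mem_map, List.mem_range] at hit
            obtain ⟨j, hj, rfl⟩ := hit
            simp only [code, Prod.mk.injEq] at e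
            omega, zero_add]
          by_cases hur : u = r
          · subst hur
            simp [ChevalleyDatum.xMat, hsr, hneg, evalAt, code, Ne.symm hsr]
          · have hne : u.val ≠ r.val := fun h => hur (Fin.ext h)
            simp [ChevalleyDatum.xMat, Matrix.one_apply, hsr, hneg, evalAt, code, hur, Ne.symm hne]
      · rw [evalAt_eq_zero (l := negItems D r) t fun it hit e => by
          simp only [negItems, List.mem_append, List.mem_map, List.mem_range, List.mem_singleton] at hit
          rcases hit with ⟨j, -, rfl⟩ | rfl <;>
            · simp only [Prod.mk.injEq] at e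
              exact hneg (by omega), zero_add]
        rcases row with i' | u
        · rw [evalAt_eq_zero t fun it hit e => by
            have h := (chainItems_col it hit).1
            rw [e] at h
            simp only [code] at h
            omega]
          simp only [ChevalleyDatum.xMat, Matrix.of_apply, if_neg hsr, if_neg hneg]
          simp [Matrix.one_apply]
        · rw [show code D (Sum.inr u) = D.rank + u.val from rfl,
            chainItems_eval r.val s.val u.val (fun h => hsr (Fin.ext h)) hneg t]
          simp only [ChevalleyDatum.xMat, Matrix.of_apply, if_neg hsr, if_neg hneg]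
          simp [Matrix.one_apply]

end CfsgLib.Twisted
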